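import Mathlib.Algebra.Order.BigOperators.Group.Finset
import Mathlib.Algebra.BigOperators.Ring.Finset
import Mathlib.Data.Fintype.Card
import Mathlib.Tactic.Linarith
import Mathlib.Tactic.Ring
import Mathlib.Tactic.Push

/-!
# Integral matrices with Gram matrix `1 + e J`
-/

set_option autoImplicit false

namespace Cfsg.Agent.BlockChar.SignCoherence.Count

variable {ι R : Type*} [Fintype ι] [Fintype R] [DecidableEq R] {z : ι → R → ℤ} {e : ℕ}

/-- The squared differences of the values of a row. -/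
def var (z : ι → R → ℤ) (r : ι) : ℤ := ∑ i, ∑ j, (z r i - z r j) ^ 2

theorem sum_diff_sq (hg : ∀ i j, ∑ r, z r i * z r j = (if i = j then 1 else 0) + (e : ℤ))
    {i j : R} (hij : i ≠ j) : ∑ r, (z r i - z r j) ^ 2 = 2 := by
  have e1 : ∀ r, (z r i - z r j) ^ 2 = z r i * z r i + z r j * z r j - 2 * (z r i * z r j) :=
    fun r => by ring
  simp only [e1, Finset.sum_sub_distrib, Finset.sum_add_distrib, ← Finset.mul_sum, hg, if_true,
    if_neg hij]
  ring

theorem sum_var (hg : ∀ i j, ∑ r, z r i * z r j = (if i = j then 1 else 0) + (e : ℤ)) :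
    ∑ r, var z r = 2 * ((Fintype.card R : ℤ) * ((Fintype.card R : ℤ) - 1)) := by
  have e1 : ∀ i j : R, ∑ r, (z r i - z r j) ^ 2 = if i = j then 0 else 2 := fun i j => by
    split_ifs with h
    · simp [h]
    · exact sum_diff_sq hg h
  simp only [var]
  rw [Finset.sum_comm, Finset.sum_congr rfl fun i _ => Finset.sum_comm]
  simp only [e1]
  rw [Finset.sum_congr rfl (g := fun _ : R => 2 * ((Fintype.card R : ℤ) - 1)) fun i _ => ?_,
    Finset.sum_const, Finset.card_univ, nsmul_eq_mul]
  · ring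
  · rw [Finset.sum_congr rfl (g := fun j => (2 : ℤ) - if i = j then 2 else 0) fun j _ => by
      split_ifs <;> ring, Finset.sum_sub_distrib, Finset.sum_const, Finset.sum_ite_eq,
      if_pos (Finset.mem_univ i), Finset.card_univ, nsmul_eq_mul]
    ring

/-- A row that is not constant has variance at least `2 (m - 1)`. -/
theorem var_ge (r : ι) {i j : R} (h : z r i ≠ z r j) :
    2 * ((Fintype.card R : ℤ) - 1) ≤ var z r := by
  classical
  have hij : i ≠ j := fun e => h (e ▸ rfl)
  obtain ⟨F, hF⟩ : ∃ F : R → ℤ, ∀ k, F k = (z r k - z r i) ^ 2 + (z r k - z r j) ^ 2 :=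
    ⟨fun k => (z r k - z r i) ^ 2 + (z r k - z r j) ^ 2, fun k => rfl⟩
  have hF1 : ∀ k, 1 ≤ F k := fun k => by
    rw [hF]
    by_contra hc
    have h1 : (z r k - z r i) ^ 2 = 0 := by nlinarith [sq_nonneg (z r k - z r j), sq_nonneg (z r k - z r i)]
    have h2 : (z r k - z r j) ^ 2 = 0 := by nlinarith [sq_nonneg (z r k - z r j), sq_nonneg (z r k - z r i)]
    rw [pow_eq_zero_iff two_ne_zero, sub_eq_zero] at h1 h2
    exact h (h1.symm.trans h2)
  obtain ⟨S, hS⟩ : ∃ S : Finset R, S = Finset.univ \ {i, j} := ⟨_, rfl⟩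
  have hcard : (S.card : ℤ) = (Fintype.card R : ℤ) - 2 := by
    have h1 : S.card + ({i, j} : Finset R).card = Fintype.card R := by
      rw [hS]; exact Finset.card_sdiff_add_card_eq_card (Finset.subset_univ _)
    rw [Finset.card_pair hij] at h1
    omega
  have hne : 1 ≤ (z r i - z r j) ^ 2 := by
    have h0 : 0 < (z r i - z r j) ^ 2 := pow_two_pos_of_ne_zero (sub_ne_zero.2 h)
    omega
  have hsplit : ∀ f : R → ℤ, ∑ k, f k = (∑ k ∈ S, f k) + (f i + f j) := fun f => by
    rw [hS, ← Finset.sum_sdiff (Finset.subset_univ ({i, j} : Finset R)), Finset.sum_pair hij]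
  have hSF : (S.card : ℤ) ≤ ∑ k ∈ S, F k := by
    simpa using Finset.sum_le_sum fun k (_ : k ∈ S) => hF1 k
  have hrow : ∀ a, 0 ≤ ∑ b, (z r a - z r b) ^ 2 := fun a => Finset.sum_nonneg fun b _ => sq_nonneg _
  have h1 : ∑ a ∈ S, F a ≤ ∑ a ∈ S, ∑ b, (z r a - z r b) ^ 2 := Finset.sum_le_sum fun a _ => by
    rw [hsplit, hF]
    exact le_add_of_nonneg_left (Finset.sum_nonneg fun b _ => sq_nonneg _)
  have h2 : ∀ a, a = i ∨ a = j →
      ∑ b ∈ S, (z r a - z r b) ^ 2 + (z r i - z r j) ^ 2 ≤ ∑ b, (z r a - z r b) ^ 2 := by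
    intro a ha
    rw [hsplit]
    rcases ha with rfl | rfl
    · simp
    · nlinarith [sq_nonneg (z r a - z r a)]
  have h3 := h2 i (Or.inl rfl)
  have h4 := h2 j (Or.inr rfl)
  have h5 : ∑ b ∈ S, (z r i - z r b) ^ 2 + ∑ b ∈ S, (z r j - z r b) ^ 2 = ∑ b ∈ S, F b := by
    rw [← Finset.sum_add_distrib]
    exact Finset.sum_congr rfl fun b _ => by rw [hF]; ring
  rw [var, hsplit]
  linarith

/-- The number of rows exceeds that of the columns by at most `e`. -/
theorem rows_le (hg : ∀ i j, ∑ r, z r i * z r j = (if i = j then 1 else 0) + (e : ℤ))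
    (hrow : ∀ r, ∃ i, z r i ≠ 0) (hR : 0 < Fintype.card R) :
    Fintype.card ι ≤ Fintype.card R + e := by
  classical
  obtain ⟨m, hm⟩ : ∃ m : ℤ, m = (Fintype.card R : ℤ) := ⟨_, rfl⟩
  have hm1 : 1 ≤ m := by rw [hm]; exact_mod_cast hR
  obtain ⟨N, hN⟩ : ∃ N : Finset ι, N = Finset.univ.filter fun r => ∃ i j, z r i ≠ z r j := ⟨_, rfl⟩
  have hvar : (N.card : ℤ) * (2 * (m - 1)) ≤ 2 * (m * (m - 1)) := by
    have h1 : ∑ r ∈ N, (2 * (m - 1) : ℤ) ≤ ∑ r ∈ N, var z r := Finset.sum_le_sum fun r hr => by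
      rw [hN, Finset.mem_filter] at hr
      obtain ⟨i, j, hij⟩ := hr.2
      exact hm ▸ var_ge r hij
    have h2 : ∑ r ∈ N, var z r ≤ ∑ r, var z r :=
      Finset.sum_le_sum_of_subset_of_nonneg (Finset.subset_univ N) fun r _ _ =>
        Finset.sum_nonneg fun i _ => Finset.sum_nonneg fun j _ => sq_nonneg _
    rw [sum_var hg, ← hm] at h2
    rw [Finset.sum_const, nsmul_eq_mul] at h1
    linarith
  have hNm : (m - 1) * (N.card : ℤ) ≤ (m - 1) * m := by linarith
  have hnorm : ∑ r, ∑ i, z r i * z r i = m * (1 + (e : ℤ)) := by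
    rw [Finset.sum_comm, Finset.sum_congr rfl fun i _ => hg i i]
    simp [hm]
  have hlow : (N.card : ℤ) + m * ((Finset.univ \ N).card : ℤ) ≤ ∑ r, ∑ i, z r i * z r i := by
    rw [← Finset.sum_sdiff (Finset.subset_univ N) (f := fun r => ∑ i, z r i * z r i), add_comm]
    have h1 : ((Finset.univ \ N).card : ℤ) * m ≤
        ∑ r ∈ Finset.univ \ N, ∑ i, z r i * z r i := by
      rw [← nsmul_eq_mul, ← Finset.sum_const]
      refine Finset.sum_le_sum fun r hr => ?_
      rw [hN, Finset.mem_sdiff, Finset.mem_filter] at hr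
      push Not at hr
      obtain ⟨i₀, hi₀⟩ := hrow r
      calc m = ∑ _i : R, (1 : ℤ) := by simp [hm]
        _ ≤ ∑ i, z r i * z r i := Finset.sum_le_sum fun i _ => by
          rw [hr.2 (Finset.mem_univ _) i i₀]
          nlinarith [mul_self_pos.2 hi₀]
    have h2 : (N.card : ℤ) ≤ ∑ r ∈ N, ∑ i, z r i * z r i := by
      rw [Finset.card_eq_sum_ones, Nat.cast_sum]
      refine Finset.sum_le_sum fun r _ => ?_
      obtain ⟨i₀, hi₀⟩ := hrow r
      refine le_trans ?_ (Finset.single_le_sum (f := fun i => z r i * z r i)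
        (fun i _ => mul_self_nonneg _) (Finset.mem_univ i₀))
      have := mul_self_pos.2 hi₀
      push_cast
      linarith
    linarith
  have hcard : ((Finset.univ \ N).card : ℤ) + (N.card : ℤ) = (Fintype.card ι : ℤ) := by
    exact_mod_cast Finset.card_sdiff_add_card_eq_card (Finset.subset_univ N)
  have key : m * (Fintype.card ι : ℤ) ≤ m * (m + (e : ℤ)) := by
    rw [← hcard]
    nlinarith
  have h := le_of_mul_le_mul_left key (by linarith)
  rw [hm] at h
  exact_mod_cast h

section Equal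

variable [DecidableEq ι]
  (hg : ∀ i j, ∑ r, z r i * z r j = (if i = j then 1 else 0) + (e : ℤ))
include hg

theorem abs_le_one {i j : R} (hij : i ≠ j) (r : ι) :
    z r i - z r j = 0 ∨ z r i - z r j = 1 ∨ z r i - z r j = -1 := by
  have h1 : (z r i - z r j) ^ 2 ≤ 2 := by
    rw [← sum_diff_sq hg hij]
    exact Finset.single_le_sum (f := fun r => (z r i - z r j) ^ 2) (fun r _ => sq_nonneg _)
      (Finset.mem_univ r)
  have h2 : -1 ≤ z r i - z r j := by nlinarith
  have h3 : z r i - z r j ≤ 1 := by nlinarith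
  omega

/-- The rows where the columns `i` and `j` differ. -/
theorem card_diff {i j : R} (hij : i ≠ j) :
    (Finset.univ.filter fun r => z r i ≠ z r j).card = 2 := by
  have h1 := sum_diff_sq hg hij
  rw [Finset.sum_congr rfl (g := fun r => if z r i ≠ z r j then (1 : ℤ) else 0) fun r _ => by
    rcases abs_le_one hg hij r with h | h | h <;> rw [h]
    · rw [if_neg (not_not.2 (sub_eq_zero.1 h))]; ring
    · rw [if_pos (fun e => by rw [e, sub_self] at h; omega)]; ring
    · rw [if_pos (fun e => by rw [e, sub_self] at h; omega)]; ring,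
    ← Finset.sum_filter, Finset.sum_const, nsmul_eq_mul, mul_one] at h1
  exact_mod_cast h1

/-- Two difference sets at one column meet in one row. -/
theorem card_inter {i j k : R} (hij : i ≠ j) (hik : i ≠ k) (hjk : j ≠ k) :
    (Finset.univ.filter fun r => z r i ≠ z r j ∧ z r i ≠ z r k).card = 1 := by
  have h1 : ∑ r, (z r i - z r j) * (z r i - z r k) = 1 := by
    have e1 : ∀ r, (z r i - z r j) * (z r i - z r k) =
        z r i * z r i - z r i * z r k - z r j * z r i + z r j * z r k := fun r => by ring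
    simp only [e1, Finset.sum_sub_distrib, Finset.sum_add_distrib, hg, if_true, if_neg hik,
      if_neg hij.symm, if_neg hjk]
    ring
  rw [Finset.sum_congr rfl (g := fun r => if z r i ≠ z r j ∧ z r i ≠ z r k then (1 : ℤ) else 0)
    fun r _ => ?_, ← Finset.sum_filter, Finset.sum_const, nsmul_eq_mul, mul_one] at h1
  · exact_mod_cast h1
  · have a1 := abs_le_one hg hij r
    have a2 := abs_le_one hg hik r
    have a3 := abs_le_one hg hjk r
    by_cases b1 : z r i = z r j
    · rw [if_neg (fun h => h.1 b1), b1, sub_self, zero_mul]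
    by_cases b2 : z r i = z r k
    · rw [if_neg (fun h => h.2 b2), b2, sub_self, mul_zero]
    rw [if_pos ⟨b1, b2⟩]
    rcases a1 with h | h | h <;> rcases a2 with h' | h' | h' <;> first
      | omega
      | (rw [h, h']; norm_num)

/-- With four columns the difference sets at one column have a common row. -/
theorem exists_center (h4 : 4 ≤ Fintype.card R) (i : R) :
    ∃ c : ι, ∀ j, j ≠ i → z c i ≠ z c j := by
  obtain ⟨E, hE⟩ : ∃ E : R → Finset ι, ∀ j, E j = Finset.univ.filter fun r => z r i ≠ z r j :=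
    ⟨fun j => Finset.univ.filter fun r => z r i ≠ z r j, fun j => rfl⟩
  have hmem : ∀ j r, r ∈ E j ↔ z r i ≠ z r j := fun j r => by rw [hE]; simp
  have hc2 : ∀ j, j ≠ i → (E j).card = 2 := fun j hj => hE j ▸ card_diff hg hj.symm
  have hc1 : ∀ j k, j ≠ i → k ≠ i → j ≠ k → (E j ∩ E k).card = 1 := fun j k hj hk hjk => by
    rw [← card_inter hg hj.symm hk.symm hjk, hE, hE, Finset.filter_and]
  by_contra hnone
  push Not at hnone
  obtain ⟨j, hj⟩ : ∃ j, j ≠ i := Fintype.exists_ne_of_one_lt_card (by omega) i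
  obtain ⟨k, hk⟩ : ∃ k, k ∉ ({i, j} : Finset R) := by
    by_contra hh
    push Not at hh
    have h5 := Finset.card_le_card fun x (_ : x ∈ (Finset.univ : Finset R)) => hh x
    have h6 := Finset.card_le_two (a := i) (b := j)
    rw [Finset.card_univ] at h5
    omega
  rw [Finset.mem_insert, Finset.mem_singleton, not_or] at hk
  obtain ⟨a, ha⟩ := Finset.card_eq_one.1 (hc1 j k hj hk.1 (Ne.symm hk.2))
  have haj : a ∈ E j := (Finset.mem_inter.1 (ha.symm ▸ Finset.mem_singleton_self a)).1
  have hak : a ∈ E k := (Finset.mem_inter.1 (ha.symm ▸ Finset.mem_singleton_self a)).2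
  obtain ⟨l, hl, hla⟩ := hnone a
  have hal : a ∉ E l := fun h => (hmem l a).1 h hla
  have hlj : l ≠ j := fun e => hal (e ▸ haj)
  have hlk : l ≠ k := fun e => hal (e ▸ hak)
  obtain ⟨b, hb⟩ := Finset.card_eq_one.1 (hc1 j l hj hl hlj.symm)
  have hbj : b ∈ E j := (Finset.mem_inter.1 (hb.symm ▸ Finset.mem_singleton_self b)).1
  have hbl : b ∈ E l := (Finset.mem_inter.1 (hb.symm ▸ Finset.mem_singleton_self b)).2
  obtain ⟨c, hc⟩ := Finset.card_eq_one.1 (hc1 k l hk.1 hl hlk.symm)
  have hck : c ∈ E k := (Finset.mem_inter.1 (hc.symm ▸ Finset.mem_singleton_self c)).1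
  have hcl : c ∈ E l := (Finset.mem_inter.1 (hc.symm ▸ Finset.mem_singleton_self c)).2
  have hab : a ≠ b := fun e => hal (e ▸ hbl)
  have hac : a ≠ c := fun e => hal (e ▸ hcl)
  have hbc : b ≠ c := fun e => hab (by
    have h1 : b ∈ E j ∩ E k := Finset.mem_inter.2 ⟨hbj, e ▸ hck⟩
    rw [ha, Finset.mem_singleton] at h1
    exact h1.symm)
  have hsub : ∀ {q u v}, q ≠ i → u ∈ E q → v ∈ E q → u ≠ v → E q = {u, v} :=
    fun {q u v} hq hu hv huv => (Finset.eq_of_subset_of_card_le
      (Finset.insert_subset hu (Finset.singleton_subset_iff.2 hv))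
      (by rw [hc2 q hq, Finset.card_pair huv])).symm
  have hEj := hsub hj haj hbj hab
  have hEk := hsub hk.1 hak hck hac
  have hEl := hsub hl hbl hcl hbc
  have hall : ∀ q, q = i ∨ q = j ∨ q = k ∨ q = l := by
    intro q
    by_contra hq
    push Not at hq
    obtain ⟨hqi, hqj, hqk, hql⟩ := hq
    obtain ⟨x, hx⟩ := Finset.card_eq_one.1 (hc1 q j hqi hj hqj)
    obtain ⟨y, hy⟩ := Finset.card_eq_one.1 (hc1 q k hqi hk.1 hqk)
    obtain ⟨w, hw⟩ := Finset.card_eq_one.1 (hc1 q l hqi hl hql)
    have hq2 := hc2 q hqi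
    by_cases hqa : a ∈ E q
    · obtain ⟨d, hd⟩ : ∃ d, d ∈ E q ∩ E l := ⟨w, hw.symm ▸ Finset.mem_singleton_self w⟩
      rw [Finset.mem_inter, hEl, Finset.mem_insert, Finset.mem_singleton] at hd
      rcases hd.2 with rfl | rfl
      · have h5 := hc1 q j hqi hj hqj
        rw [hsub hqi hqa hd.1 hab, hEj, Finset.inter_self, Finset.card_pair hab] at h5
        omega
      · have h5 := hc1 q k hqi hk.1 hqk
        rw [hsub hqi hqa hd.1 hac, hEk, Finset.inter_self, Finset.card_pair hac] at h5
        omega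
    · have hx' : x ∈ E q ∩ E j := hx.symm ▸ Finset.mem_singleton_self x
      rw [Finset.mem_inter, hEj, Finset.mem_insert, Finset.mem_singleton] at hx'
      have hy' : y ∈ E q ∩ E k := hy.symm ▸ Finset.mem_singleton_self y
      rw [Finset.mem_inter, hEk, Finset.mem_insert, Finset.mem_singleton] at hy'
      have hxb : b ∈ E q := by
        rcases hx'.2 with rfl | rfl
        · exact absurd hx'.1 hqa
        · exact hx'.1
      have hyc : c ∈ E q := by
        rcases hy'.2 with rfl | rfl
        · exact absurd hy'.1 hqa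
        · exact hy'.1
      have h5 := hc1 q l hqi hl hql
      rw [hsub hqi hxb hyc hbc, hEl, Finset.inter_self, Finset.card_pair hbc] at h5
      omega
  have huniv : (Finset.univ : Finset R) = {i, j, k, l} := by
    ext q
    simpa using hall q
  have hR4 : Fintype.card R = 4 := by
    refine le_antisymm ?_ h4
    rw [← Finset.card_univ, huniv]
    exact Finset.card_le_four
  have hmod : ∀ r, (4 : ℤ) ∣ (∑ q, z r q * z r q) -
      (if r = a ∨ r = b ∨ r = c then 2 else 0) := by
    intro r
    have hsum : ∑ q, z r q * z r q =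
        z r i * z r i + z r j * z r j + z r k * z r k + z r l * z r l := by
      rw [huniv, Finset.sum_insert (by simp [Ne.symm hj, Ne.symm hk.1, Ne.symm hl]),
        Finset.sum_insert (by simp [Ne.symm hk.2, hlj.symm]),
        Finset.sum_pair hlk.symm]
      ring
    have aj := abs_le_one hg hj.symm r
    have ak := abs_le_one hg (Ne.symm hk.1) r
    have al := abs_le_one hg hl.symm r
    have ajk := abs_le_one hg (Ne.symm hk.2) r
    have ajl := abs_le_one hg hlj.symm r
    have akl := abs_le_one hg hlk.symm r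
    have mj : z r i = z r j ↔ ¬ (r = a ∨ r = b) := by
      rw [← not_iff_not, not_not, ← ne_eq, ← hmem j r, hEj]; simp
    have mk : z r i = z r k ↔ ¬ (r = a ∨ r = c) := by
      rw [← not_iff_not, not_not, ← ne_eq, ← hmem k r, hEk]; simp
    have ml : z r i = z r l ↔ ¬ (r = b ∨ r = c) := by
      rw [← not_iff_not, not_not, ← ne_eq, ← hmem l r, hEl]; simp
    rw [hsum]
    obtain ⟨x, hx⟩ : ∃ x, x = z r i := ⟨_, rfl⟩
    rw [← hx] at aj ak al mj mk ml ⊢
    by_cases r1 : r = a
    · have e1 : x ≠ z r j := fun h => mj.1 h (Or.inl r1)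
      have e2 : x ≠ z r k := fun h => mk.1 h (Or.inl r1)
      have e3 : x = z r l := ml.2 (fun h => h.elim (fun h => hab (r1.symm.trans h))
        fun h => hac (r1.symm.trans h))
      rw [if_pos (Or.inl r1), ← e3, show z r k = z r j by omega]
      rcases (by omega : z r j = x + 1 ∨ z r j = x - 1) with h | h <;> rw [h]
      · exact ⟨x * x + x, by ring⟩
      · exact ⟨x * x - x, by ring⟩
    by_cases r2 : r = b
    · have e1 : x ≠ z r j := fun h => mj.1 h (Or.inr r2)
      have e2 : x ≠ z r l := fun h => ml.1 h (Or.inl r2)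
      have e3 : x = z r k := mk.2 (fun h => h.elim r1 fun h => hbc (r2.symm.trans h))
      rw [if_pos (Or.inr (Or.inl r2)), ← e3, show z r l = z r j by omega]
      rcases (by omega : z r j = x + 1 ∨ z r j = x - 1) with h | h <;> rw [h]
      · exact ⟨x * x + x, by ring⟩
      · exact ⟨x * x - x, by ring⟩
    by_cases r3 : r = c
    · have e1 : x ≠ z r k := fun h => mk.1 h (Or.inr r3)
      have e2 : x ≠ z r l := fun h => ml.1 h (Or.inr r3)
      have e3 : x = z r j := mj.2 (fun h => h.elim r1 r2)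
      rw [if_pos (Or.inr (Or.inr r3)), ← e3, show z r l = z r k by omega]
      rcases (by omega : z r k = x + 1 ∨ z r k = x - 1) with h | h <;> rw [h]
      · exact ⟨x * x + x, by ring⟩
      · exact ⟨x * x - x, by ring⟩
    rw [if_neg (by simp [r1, r2, r3]), ← mj.2 (by simp [r1, r2]), ← mk.2 (by simp [r1, r3]),
      ← ml.2 (by simp [r2, r3])]
    exact ⟨x * x, by ring⟩
  have htot : (4 : ℤ) ∣ ∑ r, ((∑ q, z r q * z r q) -
      (if r = a ∨ r = b ∨ r = c then 2 else 0)) := Finset.dvd_sum fun r _ => hmod r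
  rw [Finset.sum_sub_distrib, Finset.sum_comm, Finset.sum_congr rfl fun q _ => hg q q] at htot
  have h3 : ∑ r, (if r = a ∨ r = b ∨ r = c then (2 : ℤ) else 0) = 6 := by
    rw [← Finset.sum_filter, show Finset.univ.filter (fun r => r = a ∨ r = b ∨ r = c) = {a, b, c} by
      ext r; simp, Finset.sum_const, Finset.card_insert_of_notMem (by simp [hab, hac]),
      Finset.card_pair hbc]
    norm_num
  rw [h3] at htot
  simp only [if_true, Finset.sum_const, Finset.card_univ, hR4, nsmul_eq_mul] at htot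
  omega

/-- Equality for small `e`. -/
theorem rows_eq (hrow : ∀ r, ∃ i, z r i ≠ 0) (he : e ≤ 3)
    (hlt : Fintype.card R < Fintype.card ι)
    (hm : Fintype.card R = 1 ∨ (4 ≤ Fintype.card R ∧ e + 2 ≤ Fintype.card R)) :
    Fintype.card ι = Fintype.card R + e := by
  rcases hm with hm | ⟨h4, he2⟩
  · obtain ⟨i, hi⟩ := Fintype.card_eq_one_iff.1 hm
    have hz : ∀ r, z r i ≠ 0 := fun r => by
      obtain ⟨j, hj⟩ := hrow r; rwa [hi j] at hj
    have h1 := hg i i
    rw [if_pos rfl] at h1
    have hone : ∀ r, z r i * z r i = 1 := by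
      by_contra! hh
      obtain ⟨r₀, hr₀⟩ := hh
      have h2 : (4 : ℤ) ≤ z r₀ i * z r₀ i := by
        rcases (by omega : z r₀ i ≤ -2 ∨ z r₀ i = -1 ∨ z r₀ i = 0 ∨ z r₀ i = 1 ∨ 2 ≤ z r₀ i) with
          h | h | h | h | h
        · nlinarith
        · rw [h] at hr₀; norm_num at hr₀
        · exact absurd h (hz r₀)
        · rw [h] at hr₀; norm_num at hr₀
        · nlinarith
      obtain ⟨r₁, hr₁⟩ := Fintype.exists_ne_of_one_lt_card (by omega : 1 < Fintype.card ι) r₀
      have h3 : z r₀ i * z r₀ i + z r₁ i * z r₁ i ≤ ∑ r, z r i * z r i := by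
        rw [← Finset.sum_pair (Ne.symm hr₁) (f := fun r => z r i * z r i)]
        exact Finset.sum_le_sum_of_subset_of_nonneg (Finset.subset_univ _)
          fun r _ _ => mul_self_nonneg _
      have h5 := mul_self_pos.2 (hz r₁)
      omega
    simp only [hone, Finset.sum_const, Finset.card_univ, nsmul_eq_mul, mul_one] at h1
    omega
  choose C hC using exists_center hg h4
  obtain ⟨D, hD⟩ : ∃ D : R → R → ι → Prop, ∀ i j r, D i j r ↔ z r i ≠ z r j :=
    ⟨fun i j r => z r i ≠ z r j, fun _ _ _ => Iff.rfl⟩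
  -- the centres are the only rows which are not constant
  have hthird : ∀ i j : R, ∃ k, k ≠ i ∧ k ≠ j := by
    intro i j
    by_contra! hh
    have h5 := Finset.card_le_card (s := (Finset.univ : Finset R)) (t := {i, j}) fun x _ => by
      by_cases hx : x = i
      · simp [hx]
      · simp [hh x hx]
    have h6 := Finset.card_le_two (a := i) (b := j)
    rw [Finset.card_univ] at h5
    omega
  have hcne : ∀ i j, i ≠ j → C i ≠ C j := by
    intro i j hij heq
    obtain ⟨k, hki, hkj⟩ := hthird i j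
    have h1 := hC i k hki
    have h2 : z (C i) j ≠ z (C i) k := heq ▸ hC j k hkj
    have h3 := hC i j hij.symm
    have a1 := abs_le_one hg hki.symm (C i)
    have a2 := abs_le_one hg hkj.symm (C i)
    have a3 := abs_le_one hg hij (C i)
    omega
  have hpair : ∀ i j, i ≠ j → ∀ r, z r i ≠ z r j → r = C i ∨ r = C j := by
    intro i j hij r hr
    have h2 := card_diff hg hij
    have hsub : ({C i, C j} : Finset ι) ⊆ Finset.univ.filter fun r => z r i ≠ z r j := by
      refine Finset.insert_subset ?_ (Finset.singleton_subset_iff.2 ?_)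
      · exact Finset.mem_filter.2 ⟨Finset.mem_univ _, hC i j hij.symm⟩
      · exact Finset.mem_filter.2 ⟨Finset.mem_univ _, Ne.symm (hC j i hij)⟩
    have heq := Finset.eq_of_subset_of_card_le hsub (by rw [h2, Finset.card_pair (hcne i j hij)])
    have hr' : r ∈ ({C i, C j} : Finset ι) := heq ▸ Finset.mem_filter.2 ⟨Finset.mem_univ _, hr⟩
    simpa using hr'
  obtain ⟨i₀⟩ : Nonempty R := Fintype.card_pos_iff.1 (by omega)
  choose k₀ hk₀ hk₀' using fun i => hthird i i₀
  -- the base row value
  obtain ⟨u, hu⟩ : ∃ u : ι → ℤ, ∀ r j, r ≠ C j → u r = z r j := by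
    refine ⟨fun r => if h : ∃ i, r = C i then z r (k₀ h.choose) else z r i₀, fun r j hrj => ?_⟩
    dsimp only
    split_ifs with h
    · by_cases hj : k₀ h.choose = j
      · rw [hj]
      by_contra hne
      rcases hpair _ _ hj r hne with h5 | h5
      · exact hcne _ _ (hk₀ h.choose) (h5.symm.trans h.choose_spec)
      · exact hrj h5
    · by_cases hj : i₀ = j
      · rw [hj]
      by_contra hne
      rcases hpair i₀ j hj r hne with h5 | h5 <;> exact h ⟨_, h5⟩
  obtain ⟨σ, hσ⟩ : ∃ σ : R → ℤ, ∀ i, σ i = z (C i) i - u (C i) := ⟨_, fun _ => rfl⟩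
  have hzu : ∀ r i, z r i = u r + if r = C i then σ i else 0 := by
    intro r i
    split_ifs with h
    · subst h; rw [hσ]; ring
    · rw [hu r i h, add_zero]
  have hσ1 : ∀ i, σ i * σ i = 1 := by
    intro i
    have hne : C i ≠ C (k₀ i) := hcne _ _ (hk₀ i).symm
    have h1 := hC i (k₀ i) (hk₀ i)
    have h2 := abs_le_one hg (hk₀ i).symm (C i)
    rw [hzu, hzu (C i) (k₀ i), if_pos rfl, if_neg hne, add_zero] at h1 h2
    rcases (by omega : σ i = 1 ∨ σ i = -1) with h | h <;> rw [h] <;> norm_num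
  obtain ⟨N, hN⟩ : ∃ N : ℤ, N = ∑ r, u r * u r := ⟨_, rfl⟩
  have hdot : ∀ i j, ∑ r, z r i * z r j =
      N + σ i * u (C i) + σ j * u (C j) + if C i = C j then σ i * σ j else 0 := by
    intro i j
    rw [hN, Finset.sum_congr rfl (g := fun r => u r * u r + (if r = C i then σ i * u r else 0) +
      (if r = C j then σ j * u r else 0) +
      if r = C i then (if C i = C j then σ i * σ j else 0) else 0) fun r _ => ?_]
    · simp only [Finset.sum_add_distrib, Finset.sum_ite_eq', Finset.mem_univ, if_true]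
    · rw [hzu r i, hzu r j]
      by_cases ha : r = C i <;> by_cases hb : r = C j
      · rw [if_pos ha, if_pos hb, if_pos ha, if_pos hb, if_pos ha, if_pos (ha.symm.trans hb)]; ring
      · rw [if_pos ha, if_neg hb, if_pos ha, if_neg hb, if_pos ha,
          if_neg (fun h => hb (ha.trans h))]; ring
      · rw [if_neg ha, if_pos hb, if_neg ha, if_pos hb, if_neg ha]; ring
      · rw [if_neg ha, if_neg hb, if_neg ha, if_neg hb, if_neg ha]; ring
  obtain ⟨γ, hγ⟩ : ∃ γ : ℤ, γ = σ i₀ * u (C i₀) := ⟨_, rfl⟩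
  have hdiag : ∀ i, N + 2 * (σ i * u (C i)) = e := fun i => by
    have h1 := hg i i
    rw [hdot, if_pos rfl, if_pos rfl, hσ1] at h1
    linarith
  have hcen : ∀ i, u (C i) * u (C i) = γ * γ := fun i => by
    have h1 := hdiag i
    have h2 := hdiag i₀
    have h3 : σ i * u (C i) = γ := by rw [hγ]; omega
    calc u (C i) * u (C i) = σ i * σ i * (u (C i) * u (C i)) := by rw [hσ1, one_mul]
      _ = γ * γ := by rw [← h3]; ring
  obtain ⟨K, hK⟩ : ∃ K : Finset ι, K = Finset.univ \ Finset.univ.image C := ⟨_, rfl⟩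
  have hKcard : K.card + Fintype.card R = Fintype.card ι := by
    have hinj : Function.Injective C := fun i j h => by_contra fun hne => hcne i j hne h
    have h5 := Finset.card_sdiff_add_card_eq_card (Finset.subset_univ (Finset.univ.image C))
    rwa [Finset.card_image_of_injective _ hinj, Finset.card_univ, Finset.card_univ, ← hK] at h5
  have hu0 : ∀ r ∈ K, 1 ≤ u r * u r := by
    intro r hr
    rw [hK, Finset.mem_sdiff] at hr
    obtain ⟨i, hi⟩ := hrow r
    have hri : r ≠ C i := fun h => hr.2 (h ▸ Finset.mem_image_of_mem _ (Finset.mem_univ i))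
    rw [hzu, if_neg hri, add_zero] at hi
    exact mul_self_pos.2 hi
  have hNsplit : N = (Fintype.card R : ℤ) * (γ * γ) + ∑ r ∈ K, u r * u r := by
    have hinj : Function.Injective C := fun i j h => by_contra fun hne => hcne i j hne h
    rw [hN, ← Finset.sum_sdiff (Finset.subset_univ (Finset.univ.image C)), ← hK,
      Finset.sum_image hinj.injOn, Finset.sum_congr rfl fun i _ => hcen i, Finset.sum_const,
      Finset.card_univ, nsmul_eq_mul]
    ring
  have hKu : (K.card : ℤ) ≤ ∑ r ∈ K, u r * u r := by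
    simpa using Finset.sum_le_sum hu0
  have hmain := hdiag i₀
  rw [← hγ] at hmain
  have hK1 : 1 ≤ K.card := by omega
  have hγ0 : γ = 0 := by
    by_contra hne
    have h7 := mul_self_pos.2 hne
    have hRγ : (Fintype.card R : ℤ) - 2 ≤ (Fintype.card R : ℤ) * (γ * γ) + 2 * γ := by
      rcases (by omega : γ ≤ -1 ∨ 1 ≤ γ) with h | h
      · nlinarith
      · nlinarith
    have : ((e : ℤ) + 2) ≤ (Fintype.card R : ℤ) := by exact_mod_cast he2
    have : (1 : ℤ) ≤ (K.card : ℤ) := by exact_mod_cast hK1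
    linarith
  rw [hγ0] at hmain hNsplit
  have hKe : ∑ r ∈ K, u r * u r = e := by linarith
  have hall1 : ∀ r ∈ K, u r * u r = 1 := by
    intro r hr
    have h1 := hu0 r hr
    have h2 : u r * u r ≤ 3 := by
      have := Finset.single_le_sum (f := fun r => u r * u r) (fun r _ => mul_self_nonneg _) hr
      omega
    have h3 : -1 ≤ u r := by nlinarith
    have h4' : u r ≤ 1 := by nlinarith
    rcases (by omega : u r = -1 ∨ u r = 0 ∨ u r = 1) with h | h | h <;> rw [h] at h1 ⊢ <;> omega
  rw [Finset.sum_congr rfl hall1, Finset.sum_const, nsmul_eq_mul, mul_one] at hKe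
  omega

end Equal

end Cfsg.Agent.BlockChar.SignCoherence.Count
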