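import Cfsg.Agent.BlockChar.SignCoherence.Variance
import Mathlib.GroupTheory.GroupAction.Basic

/-!
# The Gram matrix of the Fourier coefficients of orthogonal invariant columns
-/

set_option autoImplicit false

namespace Cfsg.Agent.BlockChar.SignCoherence

open Cfsg.Agent Cfsg.Agent.Blocks
open scoped ComplexConjugate

universe u

variable {A : Type u} [CommGroup A] [Fintype A]

theorem sum_hom_eq [DecidableEq (A →* ℂˣ)] (χ : A →* ℂˣ) :
    ∑ a : A, (χ a : ℂ) = if χ = 1 then (Nat.card A : ℂ) else 0 := by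
  split_ifs with h
  · subst h
    simp [Nat.card_eq_fintype_card]
  · obtain ⟨a, ha⟩ : ∃ a, χ a ≠ 1 := by
      by_contra! hh; exact h (MonoidHom.ext hh)
    have e : (χ a : ℂ) * ∑ b : A, (χ b : ℂ) = ∑ b : A, (χ b : ℂ) := by
      rw [Finset.mul_sum]
      exact Fintype.sum_equiv (Equiv.mulLeft a) _ _ fun b => by simp
    have e' : ((χ a : ℂ) - 1) * ∑ b : A, (χ b : ℂ) = 0 := by linear_combination e
    exact (mul_eq_zero.1 e').resolve_left (sub_ne_zero.2 fun h1 => ha (Units.ext h1))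

/-- Composition with an automorphism. -/
def twistHom (σ : MulAut A) (ν : A →* ℂˣ) : A →* ℂˣ := ν.comp σ.toMonoidHom

omit [Fintype A] in
theorem twistHom_apply (σ : MulAut A) (ν : A →* ℂˣ) (a : A) : twistHom σ ν a = ν (σ a) := rfl

/-- An automorphism moving every non-identity element moves every nontrivial character. -/
theorem eq_one_of_twist_eq {σ : MulAut A} (hfree : ∀ a : A, σ a = a → a = 1) {ν : A →* ℂˣ}
    (h : twistHom σ ν = ν) : ν = 1 := by
  let d : A →* A :=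
    { toFun := fun a => σ a * a⁻¹
      map_one' := by simp
      map_mul' := fun a b => by rw [map_mul, mul_inv]; exact mul_mul_mul_comm _ _ _ _ }
  have hd : Function.Injective d := (injective_iff_map_eq_one d).2 fun a ha =>
    hfree a (mul_inv_eq_one.1 ha)
  refine MonoidHom.ext fun b => ?_
  obtain ⟨a, rfl⟩ := (Finite.injective_iff_surjective.1 hd) b
  show ν (σ a * a⁻¹) = 1
  rw [map_mul, ← twistHom_apply, h, map_inv, mul_inv_cancel]

/-- Invariance of the coefficients. -/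
theorem fourOut_bot_twist {σ : MulAut A} {r : A → ℂ} (hinv : ∀ a, a ≠ 1 → r (σ a) = r a)
    (ν : A →* ℂˣ) : fourOut ⊥ r (twistHom σ ν) = fourOut ⊥ r ν := by
  simp only [fourOut, four]
  congr 1
  refine Fintype.sum_equiv σ.toEquiv _ _ fun a => ?_
  rw [MulEquiv.toEquiv_eq_coe, EquivLike.coe_coe, twistHom_apply]
  by_cases ha : a = 1
  · rw [ha, map_one, if_pos (Subgroup.one_mem _)]
  · rw [if_neg (fun h => ha (Subgroup.mem_bot.1 h)),
      if_neg (fun h => ha (σ.map_eq_one_iff.1 (Subgroup.mem_bot.1 h))), hinv a ha]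

theorem fourOut_bot_sub [DecidableEq A] (r : A → ℂ) (ν : A →* ℂˣ) :
    fourOut ⊥ r ν - fourOut ⊥ r 1 = (Nat.card A : ℂ)⁻¹ * ∑ a : A, ((ν a : ℂ) - 1) * r a := by
  simp only [fourOut, four]
  rw [← mul_sub, ← Finset.sum_sub_distrib]
  congr 1
  refine Finset.sum_congr rfl fun a _ => ?_
  by_cases ha : a = 1
  · rw [ha, if_pos (Subgroup.one_mem _), map_one, map_one, Units.val_one]; ring
  · rw [if_neg (fun h => ha (Subgroup.mem_bot.1 h)), MonoidHom.one_apply, Units.val_one]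
    ring

/-- The Gram matrix. -/
theorem gram {ι : Type*} (S : Finset ι) (r : ι → A → ℂ) (E : Subgroup (MulAut A)) [Fintype E]
    (hfree : ∀ σ ∈ E, ∀ a : A, a ≠ 1 → σ a = a → σ = 1)
    (horth : ∀ a b : A, a ≠ 1 → b ≠ 1 →
      ((∃ σ ∈ E, σ a = b) → ∑ i ∈ S, r i a * conj (r i b) = (Nat.card A : ℂ)) ∧
      ((¬ ∃ σ ∈ E, σ a = b) → ∑ i ∈ S, r i a * conj (r i b) = 0))
    (ν μ : A →* ℂˣ) (hν : ν ≠ 1) (hμ : μ ≠ 1) [DecidableEq (A →* ℂˣ)] :
    ∑ i ∈ S, (fourOut ⊥ (r i) ν - fourOut ⊥ (r i) 1) *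
        conj (fourOut ⊥ (r i) μ - fourOut ⊥ (r i) 1) =
      ((Finset.univ.filter fun σ : E => twistHom σ μ = ν).card : ℂ) + (Nat.card E : ℂ) := by
  classical
  have hA : (Nat.card A : ℂ) ≠ 0 := Nat.cast_ne_zero.2 Nat.card_pos.ne'
  obtain ⟨K, hK⟩ : ∃ K, K = (Nat.card A : ℂ)⁻¹ := ⟨_, rfl⟩
  have hcol : ∀ a : A, ∑ b : A, ((ν a : ℂ) - 1) * conj ((μ b : ℂ) - 1) *
      (∑ i ∈ S, r i a * conj (r i b)) =
      (Nat.card A : ℂ) * ∑ σ : E, ((ν a : ℂ) - 1) * ((μ ((σ : MulAut A) a)⁻¹ : ℂ) - 1) := by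
    intro a
    by_cases ha : a = 1
    · simp [ha]
    rw [Finset.sum_congr rfl (g := fun b : A => if b ∈ (Finset.univ : Finset E).image
      (fun σ : E => (σ : MulAut A) a) then
        (Nat.card A : ℂ) * (((ν a : ℂ) - 1) * ((μ b⁻¹ : ℂ) - 1)) else 0) fun b _ => ?_,
      ← Finset.sum_filter, Finset.mul_sum]
    · rw [show Finset.univ.filter (fun b => b ∈ (Finset.univ : Finset E).image
        fun σ : E => (σ : MulAut A) a) = (Finset.univ : Finset E).image
          (fun σ : E => (σ : MulAut A) a) by ext b; simp, Finset.sum_image]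
      intro σ _ τ _ hst
      have h1 := hfree ((σ : MulAut A)⁻¹ * τ) (E.mul_mem (E.inv_mem σ.2) τ.2) a ha (by
        rw [MulAut.mul_apply, show (τ : MulAut A) a = (σ : MulAut A) a from hst.symm,
          ← MulAut.mul_apply, inv_mul_cancel, MulAut.one_apply])
      exact Subtype.ext (inv_mul_eq_one.1 h1)
    · have hmap : conj ((μ b : ℂ) - 1) = (μ b⁻¹ : ℂ) - 1 := by rw [map_sub, map_one, conj_hom]
      by_cases hb : b = 1
      · have hni : b ∉ (Finset.univ : Finset E).image (fun σ : E => (σ : MulAut A) a) := by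
          rw [Finset.mem_image]
          rintro ⟨σ, -, hσ⟩
          exact ha ((σ : MulAut A).map_eq_one_iff.1 (hσ.trans hb))
        rw [if_neg hni, hb]
        simp
      split_ifs with hin
      · obtain ⟨σ, -, hσ⟩ := Finset.mem_image.1 hin
        rw [(horth a b ha hb).1 ⟨σ, σ.2, hσ⟩, hmap]
        ring
      · rw [(horth a b ha hb).2 (fun ⟨σ, hσ, he⟩ =>
          hin (Finset.mem_image.2 ⟨⟨σ, hσ⟩, Finset.mem_univ _, he⟩)), mul_zero]
  have hlhs : ∑ i ∈ S, (fourOut ⊥ (r i) ν - fourOut ⊥ (r i) 1) *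
      conj (fourOut ⊥ (r i) μ - fourOut ⊥ (r i) 1) =
      K * K * ∑ a : A, ∑ b : A, ((ν a : ℂ) - 1) * conj ((μ b : ℂ) - 1) *
        (∑ i ∈ S, r i a * conj (r i b)) := by
    have hKc : conj K = K := by rw [hK, map_inv₀, map_natCast]
    simp only [fourOut_bot_sub, map_mul, map_sum, ← hK, hKc]
    rw [Finset.sum_congr rfl fun i _ => show
      K * (∑ a : A, ((ν a : ℂ) - 1) * r i a) *
        (K * ∑ b : A, conj ((μ b : ℂ) - 1) * conj (r i b)) =
      K * K * ∑ a : A, ∑ b : A, ((ν a : ℂ) - 1) * conj ((μ b : ℂ) - 1) *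
        (r i a * conj (r i b)) by
        rw [mul_mul_mul_comm, Finset.sum_mul_sum]
        congr 1
        exact Finset.sum_congr rfl fun a _ => Finset.sum_congr rfl fun b _ => by ring,
      ← Finset.mul_sum, Finset.sum_comm]
    congr 1
    refine Finset.sum_congr rfl fun a _ => ?_
    rw [Finset.sum_comm]
    exact Finset.sum_congr rfl fun b _ => by rw [Finset.mul_sum]
  rw [hlhs, Finset.sum_congr rfl fun a _ => hcol a, ← Finset.mul_sum, Finset.sum_comm]
  have hone : ∀ σ : E, ∑ a : A, ((ν a : ℂ) - 1) * ((μ ((σ : MulAut A) a)⁻¹ : ℂ) - 1) =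
      (Nat.card A : ℂ) * ((if twistHom σ μ = ν then 1 else 0) + 1) := by
    intro σ
    have e1 : ∀ a : A, ((ν a : ℂ) - 1) * ((μ ((σ : MulAut A) a)⁻¹ : ℂ) - 1) =
        ((ν * (twistHom σ μ)⁻¹) a : ℂ) - (ν a : ℂ) - ((twistHom σ μ)⁻¹ a : ℂ) + 1 := fun a => by
      simp only [MonoidHom.mul_apply, MonoidHom.inv_apply, twistHom_apply, Units.val_mul, map_inv]
      ring
    have hμ' : (twistHom σ μ)⁻¹ ≠ 1 := fun h => hμ (MonoidHom.ext fun b => by
      have h1 := DFunLike.congr_fun h ((σ : MulAut A).symm b)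
      rwa [MonoidHom.inv_apply, twistHom_apply, MulEquiv.apply_symm_apply, MonoidHom.one_apply,
        inv_eq_one] at h1)
    have hiff : ν * (twistHom σ μ)⁻¹ = 1 ↔ twistHom σ μ = ν := by
      refine ⟨fun h => MonoidHom.ext fun b => ?_, fun h => MonoidHom.ext fun b => ?_⟩
      · have h1 := DFunLike.congr_fun h b
        rw [MonoidHom.mul_apply, MonoidHom.inv_apply, MonoidHom.one_apply, mul_inv_eq_one] at h1
        exact h1.symm
      · rw [h, MonoidHom.mul_apply, MonoidHom.inv_apply, mul_inv_cancel, MonoidHom.one_apply]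
    rw [Finset.sum_congr rfl fun a _ => e1 a, Finset.sum_add_distrib, Finset.sum_sub_distrib,
      Finset.sum_sub_distrib, sum_hom_eq, sum_hom_eq, sum_hom_eq, if_neg hν, if_neg hμ',
      Finset.sum_const, Finset.card_univ, nsmul_eq_mul, mul_one, ← Nat.card_eq_fintype_card,
      if_congr hiff rfl rfl]
    split_ifs <;> ring
  rw [Finset.sum_congr rfl fun σ _ => hone σ, ← Finset.mul_sum, Finset.sum_add_distrib,
    Finset.sum_boole, Finset.sum_const, Finset.card_univ, nsmul_eq_mul, mul_one,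
    ← Nat.card_eq_fintype_card (α := E), hK]
  field_simp

/-- Representatives of the orbits on the nontrivial characters. -/
theorem exists_reps (E : Subgroup (MulAut A)) [Fintype E]
    (hfree : ∀ σ ∈ E, ∀ a : A, a ≠ 1 → σ a = a → σ = 1) [DecidableEq (A →* ℂˣ)] :
    ∃ R : Finset (A →* ℂˣ), (∀ ν ∈ R, ν ≠ 1) ∧
      (∀ ν ∈ R, ∀ μ ∈ R, (Finset.univ.filter fun σ : E => twistHom σ μ = ν).card =
        if ν = μ then 1 else 0) ∧
      (∀ ν : A →* ℂˣ, ν ≠ 1 → ∃ σ ∈ E, ∃ μ ∈ R, twistHom σ μ = ν) ∧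
      Nat.card E * R.card + 1 = Nat.card A := by
  classical
  letI : MulAction E (A →* ℂˣ) :=
    { smul := fun σ ν => twistHom (σ⁻¹ : E).1 ν
      one_smul := fun ν => MonoidHom.ext fun a => by
        show twistHom ((1 : E)⁻¹ : E).1 ν a = ν a
        rw [inv_one]; rfl
      mul_smul := fun σ τ ν => MonoidHom.ext fun a => by
        show twistHom ((σ * τ)⁻¹ : E).1 ν a = twistHom (σ⁻¹ : E).1 (twistHom (τ⁻¹ : E).1 ν) a
        rw [mul_inv_rev]; rfl }
  have hsmul : ∀ (σ : E) (ν : A →* ℂˣ), twistHom (σ : MulAut A) ν = σ⁻¹ • ν := fun σ ν => by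
    show _ = twistHom ((σ⁻¹)⁻¹ : E).1 ν
    rw [inv_inv]
  have hstab : ∀ σ : E, ∀ ν : A →* ℂˣ, ν ≠ 1 → twistHom (σ : MulAut A) ν = ν → σ = 1 := by
    intro σ ν hν hfix
    refine Classical.byContradiction fun hσ => hν (eq_one_of_twist_eq (fun a ha => ?_) hfix)
    exact Classical.byContradiction fun ha1 => hσ (Subtype.ext (hfree σ σ.2 a ha1 ha))
  let q : (A →* ℂˣ) → MulAction.orbitRel.Quotient E (A →* ℂˣ) := fun ν => Quotient.mk'' ν
  letI : Fintype (MulAction.orbitRel.Quotient E (A →* ℂˣ)) :=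
    Fintype.ofSurjective q Quotient.mk''_surjective
  obtain ⟨R, hR⟩ : ∃ R : Finset (A →* ℂˣ),
      R = ((Finset.univ : Finset (MulAction.orbitRel.Quotient E (A →* ℂˣ))).image
        Quotient.out).filter (fun ν => ν ≠ 1) := ⟨_, rfl⟩
  have hrel : ∀ ν, ∃ σ : E, twistHom (σ : MulAut A) (q ν).out = ν := by
    intro ν
    obtain ⟨τ, hτ⟩ : ∃ τ : E, τ • ν = (q ν).out := by
      have h1 : MulAction.orbitRel E (A →* ℂˣ) (q ν).out ν := Quotient.exact (Quotient.out_eq (q ν))
      rw [MulAction.orbitRel_apply] at h1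
      exact h1
    exact ⟨τ, by rw [hsmul, ← hτ, inv_smul_smul]⟩
  have hone : ∀ σ : MulAut A, twistHom σ (1 : A →* ℂˣ) = 1 := fun σ => MonoidHom.ext fun a => rfl
  have hmemR : ∀ ν, ν ≠ 1 → (q ν).out ∈ R := fun ν hν => by
    rw [hR, Finset.mem_filter]
    refine ⟨Finset.mem_image_of_mem _ (Finset.mem_univ _), fun h => hν ?_⟩
    obtain ⟨σ, hσ⟩ := hrel ν
    rw [← hσ, h, hone]
  have hcanon : ∀ μ ∈ R, (q μ).out = μ := by
    intro μ hμ
    rw [hR, Finset.mem_filter, Finset.mem_image] at hμ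
    obtain ⟨⟨o, -, rfl⟩, -⟩ := hμ
    show (Quotient.mk'' o.out : MulAction.orbitRel.Quotient E (A →* ℂˣ)).out = o.out
    rw [Quotient.out_eq']
  have hsep : ∀ ν ∈ R, ∀ μ ∈ R, ∀ σ : E, twistHom (σ : MulAut A) μ = ν → ν = μ := by
    intro ν hν μ hμ σ hσ
    have h2 : q ν = q μ := Quotient.sound' (by
      rw [MulAction.orbitRel_apply, ← hσ, hsmul]
      exact MulAction.mem_orbit _ _)
    rw [← hcanon ν hν, ← hcanon μ hμ, h2]
  have hR1 : ∀ ν ∈ R, ν ≠ 1 := fun ν hν => by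
    rw [hR, Finset.mem_filter] at hν
    exact hν.2
  refine ⟨R, hR1, fun ν hν μ hμ => ?_, fun ν hν => ?_, ?_⟩
  · have hν1 : ν ≠ 1 := hR1 ν hν
    split_ifs with h
    · subst h
      rw [Finset.card_eq_one]
      refine ⟨1, Finset.ext fun σ => ?_⟩
      simp only [Finset.mem_filter, Finset.mem_univ, true_and, Finset.mem_singleton]
      exact ⟨hstab σ ν hν1, fun h => by rw [h]; exact MonoidHom.ext fun a => rfl⟩
    · rw [Finset.card_eq_zero, Finset.filter_eq_empty_iff]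
      exact fun σ _ hσ => h (hsep ν hν μ hμ σ hσ)
  · obtain ⟨σ, hσ⟩ := hrel ν
    exact ⟨σ, σ.2, _, hmemR ν hν, hσ⟩
  · have hcard : ((Finset.univ : Finset E) ×ˢ R).card =
        (Finset.univ.erase (1 : A →* ℂˣ)).card := by
      refine Finset.card_bij (fun x _ => twistHom (x.1 : MulAut A) x.2) (fun x hx => ?_)
        (fun x hx x' hx' heq => ?_) fun ν hν => ?_
      · have hx2 := (Finset.mem_product.1 hx).2
        have hν1 : x.2 ≠ 1 := hR1 _ hx2
        refine Finset.mem_erase.2 ⟨fun h => hν1 ?_, Finset.mem_univ _⟩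
        rw [hsmul, inv_smul_eq_iff] at h
        rw [h]
        exact hone _
      · have hx2 := (Finset.mem_product.1 hx).2
        have hx2' := (Finset.mem_product.1 hx').2
        have h1 : twistHom (((x.1 : E) * x'.1⁻¹ : E) : MulAut A) x.2 = x'.2 := by
          rw [hsmul, mul_inv_rev, inv_inv, mul_smul, ← hsmul, heq, hsmul, smul_inv_smul]
        have he : x'.2 = x.2 := hsep _ hx2' _ hx2 _ h1
        have hν1 : x.2 ≠ 1 := hR1 _ hx2
        rw [he] at h1
        exact Prod.ext (mul_inv_eq_one.1 (hstab _ x.2 hν1 h1)) he.symm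
      · obtain ⟨σ, hσ⟩ := hrel ν
        exact ⟨(σ, (q ν).out), Finset.mem_product.2
          ⟨Finset.mem_univ _, hmemR ν (Finset.mem_erase.1 hν).1⟩, hσ⟩
    rw [Finset.card_product, Finset.card_univ, Finset.card_erase_of_mem (Finset.mem_univ _),
      Finset.card_univ, ← Nat.card_eq_fintype_card, ← Nat.card_eq_fintype_card,
      CommGroup.card_monoidHom_of_hasEnoughRootsOfUnity A ℂ] at hcard
    have := Nat.card_pos (α := A)
    omega

end Cfsg.Agent.BlockChar.SignCoherence
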