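import Cfsg.Agent.BlockChar.SignCoherence.Bottom
import Cfsg.Agent.BlockChar.SignCoherence.Gram
import Cfsg.Agent.BlockChar.SignCoherence.Count
import Cfsg.Agent.BlockChar.AbelianFree.Main
import Cfsg.Agent.BlockChar.RankOne

/-!
# Blocks with abelian defect group and free action of the inertial quotient
-/

set_option autoImplicit false

namespace Cfsg.Agent.BlockChar.SignCoherence

open Cfsg.Agent Cfsg.Agent.Blocks Cfsg.Agent.Blocks.Star Cfsg.Agent.BrauerPairs
open scoped ComplexConjugate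

universe u

attribute [local instance] Ideal.Quotient.field Fintype.ofFinite

variable {G : Type u} [Group G] [Finite G] {p : ℕ} [Fact p.Prime] {M : Ideal Cfsg.AlgInt}

local notation "CG[" Q "]" => Subgroup.centralizer ((Q : Subgroup G) : Set G)

variable {B : Set (Cfsg.IrrCharacter G)} {P : Subgroup G}
  {c : Set (Cfsg.IrrCharacter (Subgroup.centralizer (P : Set G)))}

/-- The local blocks are nilpotent. -/
theorem setup_of_free (hM : Cfsg.IsPModular p M) (hmax : Cfsg.IsMaximalBrauerPair p M B P c)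
    (hab : ∀ x ∈ P, ∀ y ∈ P, x * y = y * x) (T : Subgroup G)
    (hT : ∀ g : G, g ∈ T ↔ BrauerPairs.conjPair g ⟨P, c⟩ = ⟨P, c⟩)
    (hfree : ∀ g ∈ T, ∀ x ∈ P, x ≠ 1 → g * x * g⁻¹ = x → g ∈ CG[P]) : Setup p M B P c := by
  refine ⟨hM, hmax, hab, fun Q hQ hQ1 f hf => ?_⟩
  have hn := normal_of_le hM hmax hab hf
  have hPK : P ≤ CG[Q] := le_centralizer_of_abelian hab hQ
  have hCK : CG[P] ≤ CG[Q] := BrauerPairs.centralizer_mono hQ
  have hmaxK := BlockChar.Cyclic.maximal_local hM hmax hn hPK hCK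
  rw [BrauerPairs.nilpotent_iff_of_abelian hM hmaxK fun x hx y hy => Subtype.ext (hab _ hx _ hy)]
  intro g hgN hgst
  obtain ⟨h1, h2⟩ := BlockChar.Cyclic.stab_of_local_stab hM hmax.1.1.2 hPK hCK hgN hgst
  have hgT : (g : G) ∈ T := (hT _).2 ((conjPair_eq_iff hM hmax.1.1.2 _).2 ⟨h1, h2⟩)
  obtain ⟨x, hxQ, hx1⟩ := Q.bot_or_exists_ne_one.resolve_left hQ1
  have hgP : (g : G) ∈ CG[P] := hfree g hgT x (hQ hxQ) hx1 (by
    rw [← Subgroup.mem_centralizer_iff.1 g.2 x hxQ, mul_inv_cancel_right])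
  exact Subgroup.mem_centralizer_iff.2 fun u hu =>
    Subtype.ext (Subgroup.mem_centralizer_iff.1 hgP (u : G) hu)

omit [Finite G] [Fact p.Prime] in
/-- The centralizer of the trivial subgroup is everything. -/
theorem centralizer_bot : CG[⊥] = ⊤ :=
  Subgroup.eq_top_iff' _ |>.2 mem_CG_bot

/-- The block of the centralizer of `1` is the block. -/
theorem bottom_invariants {h : Setup p M B P c} (D : Data h) :
    Nat.card (D.f ⊥) = Nat.card B ∧ Cfsg.blockRank p (D.f ⊥) = Cfsg.blockRank p B := by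
  have hM := h.hM
  let φ : CG[⊥] ≃* G :=
    { toFun := fun z => (z : G)
      invFun := fun g => ⟨g, mem_CG_bot g⟩
      left_inv := fun _ => rfl
      right_inv := fun _ => rfl
      map_mul' := fun _ _ => rfl }
  have hpair := (isBrauerPairOf_iff_of_subpairLE hM (D.hf ⊥ bot_le) B).1 h.hmax.1
  have hmap : mapBlock φ (D.f ⊥) = B := by
    have hb := isPBlock_mapBlock φ (D.isBlock (R := ⊥) bot_le)
    obtain ⟨ξ, hξ⟩ := IsPBlock.nonempty hM (D.isBlock (R := ⊥) bot_le)
    obtain ⟨ξ', hξ'⟩ : ∃ ξ', ξ' = compIrr φ.symm ξ := ⟨_, rfl⟩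
    have hcomp : compIrr φ ξ' = ξ := Subtype.ext (funext fun z => by
      rw [hξ', compIrr_apply, compIrr_apply, MulEquiv.symm_apply_apply])
    have h1 := hpair.2.2 ξ hξ
    rw [brauerOmega_eq] at h1
    have e : omega (ξ : CG[⊥] → ℂ) (fun z : CG[⊥] => Cfsg.blockCoeff B (z : G)) =
        omega (ξ' : G → ℂ) (Cfsg.blockCoeff B) := by
      rw [omega, omega, ← hcomp]
      congr 1
      · exact Fintype.sum_equiv φ.toEquiv _ _ fun z => by rw [compIrr_apply]; rfl
    rw [e] at h1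
    classical
    rw [omega_blockCoeff] at h1
    have hmemB : ξ' ∈ B := by
      refine Classical.byContradiction fun hne => not_memLocalIdeal_one hM ?_
      rw [if_neg hne, zero_sub] at h1
      simpa using memLocalIdeal_neg h1
    have hmem' : ξ' ∈ mapBlock φ (D.f ⊥) := by
      show compIrr φ ξ' ∈ D.f ⊥
      rw [hcomp]; exact hξ
    rw [IsPBlock.eq_blockOf hM hb hmem', IsPBlock.eq_blockOf hM h.hmax.1.2.1 hmemB]
  exact ⟨by rw [← card_mapBlock φ (D.f ⊥), hmap], by rw [← blockRank_mapBlock φ (D.f ⊥), hmap]⟩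

/-- The numerical invariants. -/
theorem counts (hM : Cfsg.IsPModular p M) (hmax : Cfsg.IsMaximalBrauerPair p M B P c)
    (hab : ∀ x ∈ P, ∀ y ∈ P, x * y = y * x) (hP : P ≠ ⊥) (T : Subgroup G)
    (hT : ∀ g : G, g ∈ T ↔ BrauerPairs.conjPair g ⟨P, c⟩ = ⟨P, c⟩)
    (hfree : ∀ g ∈ T, ∀ x ∈ P, x ≠ 1 → g * x * g⁻¹ = x → g ∈ CG[P]) :
    ∃ m : ℕ, Nat.card B = Cfsg.blockRank p B + m ∧ (CG[P]).relIndex T * m + 1 = Nat.card P ∧
      0 < (CG[P]).relIndex T ∧ Cfsg.blockRank p B ≤ (CG[P]).relIndex T ∧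
      ((CG[P]).relIndex T ≤ 3 → Cfsg.blockRank p B = (CG[P]).relIndex T) := by
  have hS := setup_of_free hM hmax hab T hT hfree
  obtain ⟨D⟩ := exists_data hS
  obtain ⟨ε, hε, -⟩ := exists_eps D
  letI := hS.commGroup
  letI : DecidableEq (P →* ℂˣ) := Classical.decEq _
  -- the action
  let φ : T →* MulAut P :=
    { toFun := fun t =>
        { toFun := fun x => ⟨(t : G) * x * (t : G)⁻¹, conj_mem_T T hT t.2 x.2⟩
          invFun := fun x => ⟨(t : G)⁻¹ * x * (t : G), by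
            simpa using conj_mem_T T hT (inv_mem t.2) x.2⟩
          left_inv := fun x => Subtype.ext (by group)
          right_inv := fun x => Subtype.ext (by group)
          map_mul' := fun a b => Subtype.ext (by push_cast; group) }
      map_one' := MulEquiv.ext fun x => Subtype.ext (by simp)
      map_mul' := fun a b => MulEquiv.ext fun x => Subtype.ext (by
        show ((a * b : T) : G) * x * ((a * b : T) : G)⁻¹ =
          (a : G) * ((b : G) * x * (b : G)⁻¹) * (a : G)⁻¹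
        push_cast; group) }
  have hφ : ∀ t x, ((φ t x : P) : G) = (t : G) * x * (t : G)⁻¹ := fun _ _ => rfl
  have hker : φ.ker = (CG[P]).subgroupOf T := by
    ext t
    rw [MonoidHom.mem_ker, Subgroup.mem_subgroupOf, Subgroup.mem_centralizer_iff]
    constructor
    · intro h1 x hx
      have h2 : ((φ t ⟨x, hx⟩ : P) : G) = x := by rw [h1]; rfl
      rw [hφ] at h2
      exact (mul_inv_eq_iff_eq_mul.1 h2).symm
    · intro h1
      exact MulEquiv.ext fun x => Subtype.ext (by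
        rw [hφ, ← h1 x x.2, mul_inv_cancel_right, MulAut.one_apply])
  obtain ⟨e, he⟩ : ∃ e, e = (CG[P]).relIndex T := ⟨_, rfl⟩
  have hE : Nat.card φ.range = e := by
    rw [he, Subgroup.relIndex, ← hker, Subgroup.index_ker]
  have hfreeE : ∀ σ ∈ φ.range, ∀ a : P, a ≠ 1 → σ a = a → σ = 1 := by
    rintro _ ⟨t, rfl⟩ a ha hfix
    have h1 : t ∈ φ.ker := by
      rw [hker, Subgroup.mem_subgroupOf]
      refine hfree t t.2 a a.2 (fun e => ha (Subtype.ext e)) ?_
      rw [← hφ, hfix]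
    exact h1
  have hCT : CG[P] ≤ T := fun g hg => (hT g).2 (by
    have hgN := Subgroup.centralizer_le_normalizer (P : Set G) hg
    refine idx_ext (map_conj_eq hgN) fun z => ?_
    rw [sbc_conjPair]
    have h1 := BrauerPairs.isInv_sbc c g⁻¹ (inv_mem hg) z
    rwa [inv_inv] at h1)
  -- counting the characters
  obtain ⟨hkB, hlB⟩ := bottom_invariants D
  obtain ⟨q, hq⟩ : ∃ q, q = Nat.card P := ⟨_, rfl⟩
  have hcount : e * Nat.card B + 1 = e * Cfsg.blockRank p B + q := by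
    have hf := abelian_trace_formula hM hmax hab T hT 1 (fun t _ x y _ => rfl)
      (fun x => D.f (Subgroup.zpowers (x : G))) (fun x => D.hf _ (Subgroup.zpowers_le.2 x.2))
    rw [if_pos rfl] at hf
    obtain ⟨N, hN⟩ : ∃ N, N = Nat.card CG[P] := ⟨_, rfl⟩
    have hTN : Nat.card T = e * N := by
      rw [he, hN, Subgroup.relIndex, ← Subgroup.card_mul_index ((CG[P]).subgroupOf T), mul_comm,
        Nat.card_congr (Subgroup.subgroupOfEquivOfLe hCT).toEquiv]
    have hgen : ∀ R : Subgroup G, R = ⊥ →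
        Nat.card (T ⊓ CG[R] : Subgroup G) = Nat.card T ∧
          Cfsg.blockRank p (D.f R) = Cfsg.blockRank p B := by
      rintro R rfl
      exact ⟨by rw [centralizer_bot, inf_top_eq], hlB⟩
    letI : DecidableEq P := Classical.decEq _
    have hterm : ∀ x : P, (Nat.card (T ⊓ CG[Subgroup.zpowers (x : G)] : Subgroup G) : ℂ) *
        ((1 : P →* ℂˣ) x : ℂ) * (Cfsg.blockRank p (D.f (Subgroup.zpowers (x : G))) : ℂ) =
        (N : ℂ) + if x = 1 then
          (Nat.card T : ℂ) * (Cfsg.blockRank p B : ℂ) - (N : ℂ) else 0 := by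
      intro x
      rw [MonoidHom.one_apply, Units.val_one, mul_one]
      split_ifs with hx
      · obtain ⟨h1, h2⟩ := hgen (Subgroup.zpowers (x : G))
          (Subgroup.zpowers_eq_bot.2 (by rw [hx]; rfl))
        rw [h1, h2]
        ring
      · have hx1 : (x : G) ≠ 1 := fun e => hx (Subtype.ext e)
        have hle : Subgroup.zpowers (x : G) ≤ P := Subgroup.zpowers_le.2 x.2
        have hr := (nilpotent_rank_one hM (hS.hnil _ hle
          (fun e => hx1 (Subgroup.zpowers_eq_bot.1 e)) _ (D.hf _ hle))).1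
        have hC : T ⊓ CG[Subgroup.zpowers (x : G)] = CG[P] := by
          refine le_antisymm (fun g hg => ?_) (le_inf hCT (BrauerPairs.centralizer_mono hle))
          refine hfree g hg.1 x x.2 hx1 ?_
          rw [← Subgroup.mem_centralizer_iff.1 hg.2 (x : G) (Subgroup.mem_zpowers _),
            mul_inv_cancel_right]
        rw [hC, hr, ← hN]
        ring
    replace hf : ∑ x : P, (Nat.card (T ⊓ CG[Subgroup.zpowers (x : G)] : Subgroup G) : ℂ) *
        ((1 : P →* ℂˣ) x : ℂ) * (Cfsg.blockRank p (D.f (Subgroup.zpowers (x : G))) : ℂ) =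
        (Nat.card T : ℂ) * (Nat.card B : ℂ) :=
      Eq.trans (Finset.sum_congr (by ext; simp) fun _ _ => rfl) hf
    rw [Finset.sum_congr rfl fun x _ => hterm x, Finset.sum_add_distrib, Finset.sum_const,
      Finset.card_univ, Finset.sum_ite_eq', if_pos (Finset.mem_univ _), nsmul_eq_mul,
      ← Nat.card_eq_fintype_card, ← hq, hTN] at hf
    have hN0 : (N : ℂ) ≠ 0 := by rw [hN]; exact Nat.cast_ne_zero.2 Nat.card_pos.ne'
    push_cast at hf
    have h1 : (e : ℂ) * (Nat.card B : ℂ) + 1 = (e : ℂ) * (Cfsg.blockRank p B : ℂ) + (q : ℂ) :=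
      mul_left_cancel₀ hN0 (by linear_combination -hf)
    exact_mod_cast h1
  -- representatives and integers
  obtain ⟨R, hR1, hRcard, hRrep, hRe⟩ := exists_reps φ.range hfreeE
  rw [hE, ← hq] at hRe
  have he0 : 0 < e := hE ▸ Nat.card_pos
  have hk : Nat.card B = Cfsg.blockRank p B + R.card := by
    refine Nat.eq_of_mul_eq_mul_left he0 ?_
    rw [Nat.mul_add]
    omega
  have hrinv : ∀ θ, ∀ σ ∈ φ.range, ∀ a : P, a ≠ 1 → rfun D ε θ (σ a) = rfun D ε θ a := by
    rintro θ _ ⟨t, rfl⟩ a ha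
    exact rfun_conj D T hT hε t.2 ha (hφ t a).symm θ
  have horth : ∀ a b : P, a ≠ 1 → b ≠ 1 →
      ((∃ σ ∈ φ.range, σ a = b) → ∑ θ ∈ (Set.toFinite (D.f ⊥)).toFinset,
        rfun D ε θ a * conj (rfun D ε θ b) = (Nat.card P : ℂ)) ∧
      ((¬ ∃ σ ∈ φ.range, σ a = b) → ∑ θ ∈ (Set.toFinite (D.f ⊥)).toFinset,
        rfun D ε θ a * conj (rfun D ε θ b) = 0) := by
    intro a b ha hb
    have ha1 : (a : G) ≠ 1 := fun e => ha (Subtype.ext e)
    have hb1 : (b : G) ≠ 1 := fun e => hb (Subtype.ext e)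
    have e1 : ∀ θ, rfun D ε θ a * conj (rfun D ε θ b) =
        ((ε (Subgroup.zpowers a) : ℂ) * (ε (Subgroup.zpowers b) : ℂ)) *
          (sval D ⊥ θ a * conj (sval D ⊥ θ b)) := fun θ => by
      rw [rfun, rfun, map_mul, map_intCast]; ring
    constructor
    · rintro ⟨σ, hσ, rfl⟩
      have hsq := (sign_facts hM (hε (Subgroup.zpowers a)
        (fun e => ha (Subgroup.zpowers_eq_bot.1 e))).1).1
      rw [← sum_sval_self D (U := ⊥) bot_le a.2 (notMem_bot ha1)]
      refine Finset.sum_congr rfl fun θ _ => ?_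
      rw [hrinv θ σ hσ a ha, rfun, map_mul, map_intCast]
      linear_combination sval D ⊥ θ a * conj (sval D ⊥ θ a) * hsq
    · intro hne
      simp only [e1, ← Finset.mul_sum]
      rw [sum_sval_orth D T hT a.2 ha1 b.2 hb1 fun t ht htab =>
        hne ⟨φ ⟨t, ht⟩, ⟨⟨t, ht⟩, rfl⟩, Subtype.ext htab⟩, mul_zero]
  choose z hz using fun (θ : D.f ⊥) (ν : R) =>
    exists_int_bottom D hP hε (θ : Cfsg.IrrCharacter CG[⊥]) (ν : P →* ℂˣ) 1
  have hgram : ∀ i j : R, ∑ θ, z θ i * z θ j = (if i = j then 1 else 0) + (e : ℤ) := by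
    intro i j
    have h1 := gram (Set.toFinite (D.f ⊥)).toFinset (fun θ a => rfun D ε θ a) φ.range hfreeE horth
      (i : P →* ℂˣ) j (hR1 _ i.2) (hR1 _ j.2)
    rw [hRcard _ i.2 _ j.2, hE, Finset.sum_subtype (p := fun θ => θ ∈ D.f ⊥) _
      fun θ => Set.Finite.mem_toFinset _] at h1
    apply Int.cast_injective (α := ℂ)
    push_cast
    rw [Finset.sum_congr rfl (g := fun θ : D.f ⊥ => (fourOut ⊥ (rfun D ε θ) i -
      fourOut ⊥ (rfun D ε θ) 1) * conj (fourOut ⊥ (rfun D ε θ) j - fourOut ⊥ (rfun D ε θ) 1))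
      fun θ _ => by rw [hz, hz, map_intCast]]
    rw [h1]
    congr 1
    by_cases hij : i = j
    · rw [if_pos hij, if_pos (congrArg Subtype.val hij), Nat.cast_one]
    · rw [if_neg hij, if_neg (fun e => hij (Subtype.ext e)), Nat.cast_zero]
  have hrow : ∀ θ, ∃ i, z θ i ≠ 0 := by
    intro θ
    by_contra! hall
    have hconst : ∀ ν : P →* ℂˣ, fourOut ⊥ (rfun D ε θ) ν = fourOut ⊥ (rfun D ε θ) 1 := by
      intro ν
      by_cases hν : ν = 1
      · rw [hν]
      obtain ⟨σ, hσ, μ, hμ, rfl⟩ := hRrep ν hν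
      rw [fourOut_bot_twist (fun a ha => hrinv θ σ hσ a ha) μ]
      have h1 := hz θ ⟨μ, hμ⟩
      rw [hall, Int.cast_zero, sub_eq_zero] at h1
      exact h1
    obtain ⟨a, ha, ha1, hne⟩ := exists_sval_ne_zero D hP θ.2
    have hb : (⟨a, ha⟩ : P) ≠ 1 := fun e => ha1 (congrArg Subtype.val e)
    refine mul_ne_zero hne (Int.cast_ne_zero.2 (?_ : ε (Subgroup.zpowers (⟨a, ha⟩ : P)) ≠ 0)) ?_
    · rcases (hε _ fun e => hb (Subgroup.zpowers_eq_bot.1 e)).1 with h1 | h1 <;> rw [h1] <;> decide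
    letI : DecidableEq P := Classical.decEq _
    letI : DecidablePred (· ∈ (⊥ : Subgroup P)) := Classical.decPred _
    have h1 := sum_four (fun b : P => if b ∈ (⊥ : Subgroup P) then 0 else rfun D ε θ b) ⟨a, ha⟩
    rw [if_neg (fun e => hb (Subgroup.mem_bot.1 e))] at h1
    show rfun D ε θ ⟨a, ha⟩ = 0
    rw [← h1, Finset.sum_congr rfl (g := fun ν : P →* ℂˣ =>
      fourOut ⊥ (rfun D ε θ) 1 * (ν (⟨a, ha⟩ : P)⁻¹ : ℂ)) fun ν _ => by
        rw [← hconst ν]
        congr 1,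
      ← Finset.mul_sum, sum_dual, if_neg (fun e => hb (inv_eq_one.1 e)), mul_zero]
  have hcard : Fintype.card (D.f ⊥) = Cfsg.blockRank p B + Fintype.card R := by
    rw [← Nat.card_eq_fintype_card, hkB, hk, Fintype.card_coe]
  have hl1 := BlockChar.blockRank_pos hM hmax.1.2.1
  have hP1 : 1 < q := hq ▸ (Subgroup.one_lt_card_iff_ne_bot P).2 hP
  have hRpos : 0 < R.card := Nat.pos_of_ne_zero fun h0 => by rw [h0, mul_zero] at hRe; omega
  have hle : Cfsg.blockRank p B ≤ e := by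
    have h1 := Count.rows_le (z := z) hgram hrow (by rw [Fintype.card_coe]; exact hRpos)
    omega
  refine ⟨R.card, hk, ?_, he ▸ he0, he ▸ hle, fun he3 => ?_⟩
  · rw [← he, ← hq]; exact hRe
  rw [← he] at he3 ⊢
  rcases (by omega : e = 1 ∨ e = 2 ∨ e = 3) with h1 | h23
  · omega
  by_cases hprime : q.Prime
  · haveI : Fact (Nat.card P).Prime := ⟨hq ▸ hprime⟩
    haveI : M.IsMaximal := hM.2.1
    have hcyc : IsCyclic P := isCyclic_of_prime_card (p := Nat.card P) rfl
    rw [he]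
    exact BlockChar.Cyclic.blockRank_eq_relIndex hM hmax hcyc fun g =>
      (hT g).trans (conjPair_eq_iff hM hmax.1.1.2 g)
  have hm : Fintype.card R = 1 ∨ (4 ≤ Fintype.card R ∧ e + 2 ≤ Fintype.card R) := by
    rw [Fintype.card_coe]
    obtain ⟨j, hj⟩ := IsPGroup.iff_card.1 hmax.1.1.1
    rw [← hq] at hj
    have hp2 := hM.1.two_le
    have h8 : q ≠ 2 ∧ q ≠ 3 ∧ q ≠ 5 ∧ q ≠ 7 ∧ q ≠ 11 ∧ q ≠ 13 := by
      refine ⟨?_, ?_, ?_, ?_, ?_, ?_⟩ <;> intro h' <;> exact hprime (h' ▸ by norm_num)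
    have h10 : q ≠ 10 := by
      intro h'
      have h2 : 2 ∣ p ^ j := ⟨5, by omega⟩
      have h5 : 5 ∣ p ^ j := ⟨2, by omega⟩
      have e2 := (Nat.prime_dvd_prime_iff_eq Nat.prime_two hM.1).1 (Nat.prime_two.dvd_of_dvd_pow h2)
      have e5 := (Nat.prime_dvd_prime_iff_eq (by norm_num) hM.1).1
        ((by norm_num : Nat.Prime 5).dvd_of_dvd_pow h5)
      omega
    rcases h23 with rfl | rfl <;> omega
  have h1 := Count.rows_eq hgram hrow he3 (by omega) hm
  omega

end Cfsg.Agent.BlockChar.SignCoherence
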