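import Cfsg.Agent.Blocks.Modular
import Cfsg.Agent.Blocks.LocalIdem
import Cfsg.Agent.BlockChar.Galois
import Mathlib.GroupTheory.FiniteAbelian.Duality
import Mathlib.RingTheory.RootsOfUnity.AlgebraicallyClosed
import Mathlib.GroupTheory.Index

/-!
# Functions on a finite abelian `p`-group with local Fourier coefficients
-/

set_option autoImplicit false

namespace Cfsg.Agent.BlockChar.SignCoherence

open Cfsg.Agent Cfsg.Agent.Blocks
open scoped ComplexConjugate

universe u

variable {A : Type u} [CommGroup A] [Fintype A] {p : ℕ} {M : Ideal Cfsg.AlgInt}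

noncomputable instance : Fintype (A →* ℂˣ) :=
  letI : Finite (A →* ℂˣ) :=
    Finite.of_equiv A (CommGroup.monoidHom_mulEquiv_of_hasEnoughRootsOfUnity A ℂ).some.symm.toEquiv
  Fintype.ofFinite _

theorem sum_dual [DecidableEq A] (a : A) :
    ∑ ν : A →* ℂˣ, (ν a : ℂ) = if a = 1 then (Nat.card A : ℂ) else 0 := by
  split_ifs with h
  · subst h
    simp only [map_one, Units.val_one, Finset.sum_const, Finset.card_univ, nsmul_eq_mul, mul_one]
    rw [← Nat.card_eq_fintype_card]
    exact_mod_cast CommGroup.card_monoidHom_of_hasEnoughRootsOfUnity A ℂ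
  · obtain ⟨χ, hχ⟩ := CommGroup.exists_apply_ne_one_of_hasEnoughRootsOfUnity A ℂ h
    have e : (χ a : ℂ) * ∑ ν : A →* ℂˣ, (ν a : ℂ) = ∑ ν : A →* ℂˣ, (ν a : ℂ) := by
      rw [Finset.mul_sum]
      exact Fintype.sum_equiv (Equiv.mulLeft χ) _ _ fun ν => by simp
    have hne : (χ a : ℂ) ≠ 1 := fun h1 => hχ (Units.ext h1)
    have e' : ((χ a : ℂ) - 1) * ∑ ν : A →* ℂˣ, (ν a : ℂ) = 0 := by linear_combination e
    exact (mul_eq_zero.1 e').resolve_left (sub_ne_zero.2 hne)

theorem sum_char {W : Subgroup A} [DecidablePred (· ∈ W)] (ν : A →* ℂˣ) :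
    ∑ a : A, (if a ∈ W then (ν a : ℂ) else 0) = 0 ∨
      ∑ a : A, (if a ∈ W then (ν a : ℂ) else 0) = (Nat.card W : ℂ) := by
  by_cases h : ∀ w ∈ W, ν w = 1
  · refine Or.inr ?_
    rw [← Finset.sum_filter, Finset.sum_congr rfl (g := fun _ => (1 : ℂ)) fun a ha => by
      rw [h a (Finset.mem_filter.1 ha).2, Units.val_one], Finset.sum_const, nsmul_eq_mul, mul_one,
      Nat.card_eq_fintype_card, Fintype.card_subtype]
  · refine Or.inl ?_
    push Not at h
    obtain ⟨w, hw, hw1⟩ := h
    have e : (ν w : ℂ) * ∑ a : A, (if a ∈ W then (ν a : ℂ) else 0) =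
        ∑ a : A, (if a ∈ W then (ν a : ℂ) else 0) := by
      rw [Finset.mul_sum]
      refine Fintype.sum_equiv (Equiv.mulLeft w) _ _ fun a => ?_
      by_cases ha : a ∈ W
      · simp [ha, W.mul_mem_cancel_left hw, map_mul]
      · simp [ha, W.mul_mem_cancel_left hw]
    have e' : ((ν w : ℂ) - 1) * ∑ a : A, (if a ∈ W then (ν a : ℂ) else 0) = 0 := by
      linear_combination e
    exact (mul_eq_zero.1 e').resolve_left (sub_ne_zero.2 fun h1 => hw1 (Units.ext h1))

theorem hom_pow_card (ν : A →* ℂˣ) (a : A) : (ν a : ℂ) ^ Nat.card A = 1 := by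
  rw [← Units.val_pow_eq_pow_val, ← map_pow, pow_card_eq_one', map_one, Units.val_one]

theorem isIntegral_hom (ν : A →* ℂˣ) (a : A) : IsIntegral ℤ (ν a : ℂ) :=
  isIntegral_of_pow_eq_one Nat.card_pos (hom_pow_card ν a)

theorem memLocalIdeal_hom_sub_one (hM : Cfsg.IsPModular p M) {k : ℕ}
    (hA : Nat.card A = p ^ k) (ν : A →* ℂˣ) (a : A) :
    Cfsg.MemLocalIdeal M ((ν a : ℂ) - 1) := by
  have h2 := sub_one_mem_of_pow_prime_pow hM (z := ⟨(ν a : ℂ), isIntegral_hom ν a⟩) (k := k)
    (Subtype.ext (by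
      show (ν a : ℂ) ^ p ^ k = ((1 : Cfsg.AlgInt) : ℂ)
      rw [← hA, hom_pow_card ν a]; rfl))
  exact (memLocalIdeal_coe_iff hM _).2 h2

theorem conj_hom (ν : A →* ℂˣ) (a : A) : conj (ν a : ℂ) = (ν a⁻¹ : ℂ) := by
  have h1 : ‖(ν a : ℂ)‖ = 1 :=
    Complex.norm_eq_one_of_pow_eq_one (hom_pow_card ν a) Nat.card_pos.ne'
  rw [map_inv, Units.val_inv_eq_inv_val, Complex.inv_eq_conj h1]

/-- The Fourier coefficient. -/
noncomputable def four (f : A → ℂ) (ν : A →* ℂˣ) : ℂ :=
  (Nat.card A : ℂ)⁻¹ * ∑ a, (ν a : ℂ) * f a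

theorem sum_four (f : A → ℂ) (a : A) : ∑ ν : A →* ℂˣ, four f ν * (ν a⁻¹ : ℂ) = f a := by
  classical
  have hA : (Nat.card A : ℂ) ≠ 0 := Nat.cast_ne_zero.2 Nat.card_pos.ne'
  simp only [four, mul_assoc, ← Finset.mul_sum, Finset.sum_mul]
  rw [Finset.sum_comm]
  have e : ∀ b : A, ∑ ν : A →* ℂˣ, (ν b : ℂ) * (f b * (ν a⁻¹ : ℂ)) =
      f b * if b = a then (Nat.card A : ℂ) else 0 := by
    intro b
    rw [show (if b = a then (Nat.card A : ℂ) else 0) = if b * a⁻¹ = 1 then (Nat.card A : ℂ) else 0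
      from if_congr mul_inv_eq_one.symm rfl rfl, ← sum_dual (b * a⁻¹), Finset.mul_sum]
    exact Finset.sum_congr rfl fun ν _ => by rw [map_mul, Units.val_mul]; ring
  simp only [e, mul_ite, mul_zero, Finset.sum_ite_eq', Finset.mem_univ, if_true]
  field_simp

theorem four_sub (f g : A → ℂ) (ν : A →* ℂˣ) :
    four (fun a => f a - g a) ν = four f ν - four g ν := by
  simp only [four, mul_sub, Finset.sum_sub_distrib]

theorem sum_four_mul_conj (f : A → ℂ) :
    ∑ ν : A →* ℂˣ, four f ν * conj (four f ν) =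
      (Nat.card A : ℂ)⁻¹ * ∑ a, f a * conj (f a) := by
  have e : ∀ ν : A →* ℂˣ, four f ν * conj (four f ν) =
      (Nat.card A : ℂ)⁻¹ * ∑ a, conj (f a) * (four f ν * (ν a⁻¹ : ℂ)) := by
    intro ν
    conv_lhs => arg 2; rw [four]
    simp only [map_mul, map_inv₀, map_natCast, map_sum, conj_hom, Finset.mul_sum]
    exact Finset.sum_congr rfl fun a _ => by ring
  rw [Finset.sum_congr rfl fun ν _ => e ν, ← Finset.mul_sum, Finset.sum_comm]
  congr 1
  refine Finset.sum_congr rfl fun a _ => ?_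
  rw [← Finset.mul_sum, sum_four, mul_comm]

/-- All Fourier coefficients are local. -/
def LGen (M : Ideal Cfsg.AlgInt) (f : A → ℂ) : Prop := ∀ ν, Cfsg.MemLocalRing M (four f ν)

theorem memLocalRing_of_lGen (hM : Cfsg.IsPModular p M) {f : A → ℂ} (hf : LGen M f) (a : A) :
    Cfsg.MemLocalRing M (f a) := by
  rw [← sum_four f a]
  exact (localRing hM).sum_mem fun ν _ =>
    (localRing hM).mul_mem (hf ν) (memLocalRing_of_isIntegral hM (isIntegral_hom ν _))

theorem lGen_const (hM : Cfsg.IsPModular p M) {c : ℂ} (hc : Cfsg.MemLocalRing M c) :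
    LGen M (fun _ : A => c) := by
  classical
  intro ν
  have hA : (Nat.card A : ℂ) ≠ 0 := Nat.cast_ne_zero.2 Nat.card_pos.ne'
  rw [four, ← Finset.sum_mul]
  rcases sum_char (W := (⊤ : Subgroup A)) ν with h | h <;>
    simp only [Subgroup.mem_top, if_true] at h <;> rw [h]
  · rw [zero_mul, mul_zero]; exact (localRing hM).zero_mem
  · rw [show Nat.card {x : A // True} = Nat.card A from
      Nat.card_congr (Equiv.subtypeUnivEquiv fun _ => trivial), inv_mul_cancel_left₀ hA]
    exact hc

theorem LGen.add (hM : Cfsg.IsPModular p M) {f g : A → ℂ} (hf : LGen M f) (hg : LGen M g) :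
    LGen M (fun a => f a + g a) := fun ν => by
  rw [show four (fun a => f a + g a) ν = four f ν + four g ν by
    simp only [four, mul_add, Finset.sum_add_distrib]]
  exact (localRing hM).add_mem (hf ν) (hg ν)

theorem LGen.sub (hM : Cfsg.IsPModular p M) {f g : A → ℂ} (hf : LGen M f) (hg : LGen M g) :
    LGen M (fun a => f a - g a) := fun ν => by
  rw [four_sub]
  exact (localRing hM).sub_mem (hf ν) (hg ν)

theorem LGen.mul (hM : Cfsg.IsPModular p M) {f g : A → ℂ} (hf : LGen M f) (hg : LGen M g) :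
    LGen M (fun a => f a * g a) := by
  intro ν
  have e : four (fun a => f a * g a) ν = ∑ μ : A →* ℂˣ, four f μ * four g (ν * μ⁻¹) := by
    rw [four, Finset.sum_congr rfl (g := fun a => ∑ μ : A →* ℂˣ,
        four f μ * ((ν * μ⁻¹) a : ℂ) * g a) fun a _ => ?_, Finset.sum_comm, Finset.mul_sum]
    · refine Finset.sum_congr rfl fun μ _ => ?_
      simp only [four, mul_assoc, ← Finset.mul_sum]
      ring
    · conv_lhs => rw [← sum_four f a]
      simp only [Finset.sum_mul, Finset.mul_sum]
      refine Finset.sum_congr rfl fun μ _ => ?_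
      simp only [MonoidHom.mul_apply, MonoidHom.inv_apply, map_inv, Units.val_mul]
      ring
  rw [e]
  exact (localRing hM).sum_mem fun μ _ => (localRing hM).mul_mem (hf μ) (hg _)

theorem LGen.congr (hM : Cfsg.IsPModular p M) {f g : A → ℂ} (hf : LGen M f)
    (h : ∀ a, Cfsg.MemLocalRing M ((g a - f a) / (Nat.card A : ℂ))) : LGen M g := by
  intro ν
  have e : four g ν = four f ν + ∑ a, (ν a : ℂ) * ((g a - f a) / (Nat.card A : ℂ)) := by
    simp only [four, Finset.mul_sum, ← Finset.sum_add_distrib]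
    exact Finset.sum_congr rfl fun a _ => by ring
  rw [e]
  exact (localRing hM).add_mem (hf ν) ((localRing hM).sum_mem fun a _ =>
    (localRing hM).mul_mem (memLocalRing_of_isIntegral hM (isIntegral_hom ν a)) (h a))

theorem LGen.congr_residue (hM : Cfsg.IsPModular p M) {k : ℕ} (hA : Nat.card A = p ^ k)
    {f : A → ℂ} (hf : LGen M f) (a b : A) : Cfsg.MemLocalIdeal M (f a - f b) := by
  rw [← sum_four f a, ← sum_four f b, ← Finset.sum_sub_distrib]
  refine memLocalIdeal_sum hM _ fun ν _ => ?_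
  rw [← mul_sub]
  refine memLocalIdeal_mul_left hM (hf ν) ?_
  have := memLocalIdeal_sub hM (memLocalIdeal_hom_sub_one hM hA ν a⁻¹)
    (memLocalIdeal_hom_sub_one hM hA ν b⁻¹)
  simpa using this

theorem LGen.not_memLocalIdeal (hM : Cfsg.IsPModular p M) {k : ℕ} (hA : Nat.card A = p ^ k)
    {f : A → ℂ} (hf : LGen M f) {a : A} (ha : ¬ Cfsg.MemLocalIdeal M (f a)) (b : A) :
    ¬ Cfsg.MemLocalIdeal M (f b) := fun h => ha (by
  simpa using memLocalIdeal_add hM (hf.congr_residue hM hA a b) h)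

theorem LGen.inv (hM : Cfsg.IsPModular p M) {k : ℕ} (hA : Nat.card A = p ^ k)
    {f : A → ℂ} (hf : LGen M f) (h1 : ¬ Cfsg.MemLocalIdeal M (f 1)) :
    LGen M (fun a => (f a)⁻¹) := by
  obtain ⟨r, hr⟩ : ∃ r, r = f 1 := ⟨_, rfl⟩
  rw [← hr] at h1
  have hrR : Cfsg.MemLocalRing M r := hr ▸ memLocalRing_of_lGen hM hf 1
  have hr0 : r ≠ 0 := fun h => h1 (h ▸ memLocalIdeal_zero hM)
  have hu : ∀ a, ¬ Cfsg.MemLocalIdeal M (f a) := fun a => hf.not_memLocalIdeal hM hA (hr ▸ h1) a
  have hf0 : ∀ a, f a ≠ 0 := fun a h => hu a (h ▸ memLocalIdeal_zero hM)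
  have hrinv : Cfsg.MemLocalRing M r⁻¹ := memLocalRing_inv hrR h1
  let d : A → ℂ := fun a => r⁻¹ * (r - f a)
  have hd : ∀ a, Cfsg.MemLocalIdeal M (d a) := fun a =>
    memLocalIdeal_mul_left hM hrinv (hr ▸ hf.congr_residue hM hA 1 a)
  choose m hm using fun a => exists_pow_eq_mul hM (hd a)
  obtain ⟨N, hN⟩ : ∃ N, N = (Finset.univ.sup m) * (k + 1) := ⟨_, rfl⟩
  have hdN : ∀ a, Cfsg.MemLocalRing M (d a ^ N / (Nat.card A : ℂ)) := by
    intro a
    obtain ⟨c, hc, e⟩ := hm a (Finset.univ.sup m) (Finset.le_sup (Finset.mem_univ a))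
    have hp0 : (p : ℂ) ≠ 0 := Nat.cast_ne_zero.2 hM.1.ne_zero
    rw [hN, pow_mul, e, hA, Nat.cast_pow, mul_pow, pow_succ (p : ℂ), mul_assoc,
      mul_div_assoc, mul_comm, div_mul_cancel₀ _ (pow_ne_zero _ hp0)]
    exact (localRing hM).mul_mem (memLocalRing_natCast hM p) ((localRing hM).pow_mem hc _)
  let s : A → ℂ := fun a => r⁻¹ * ∑ j ∈ Finset.range N, d a ^ j
  have hdgen : LGen M d := (lGen_const hM hrinv).mul hM ((lGen_const hM hrR).sub hM hf)
  have hpow : ∀ j : ℕ, LGen M (fun a => d a ^ j) := by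
    intro j
    induction j with
    | zero => simpa using lGen_const hM (localRing hM).one_mem
    | succ j ih => simpa [pow_succ] using ih.mul hM hdgen
  have hsum : ∀ n : ℕ, LGen M (fun a => ∑ j ∈ Finset.range n, d a ^ j) := by
    intro n
    induction n with
    | zero => simpa using lGen_const hM (localRing hM).zero_mem
    | succ n ih => simpa [Finset.sum_range_succ] using ih.add hM (hpow n)
  have hsgen : LGen M s := (lGen_const hM hrinv).mul hM (hsum N)
  refine hsgen.congr hM fun a => ?_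
  have hg := geom_sum_mul_neg (d a) N
  have e1 : 1 - d a = r⁻¹ * f a := by simp only [d]; field_simp; ring
  rw [e1] at hg
  have key : (f a)⁻¹ - s a = (f a)⁻¹ * d a ^ N := by
    refine mul_left_cancel₀ (hf0 a) ?_
    rw [← mul_assoc, mul_sub, mul_inv_cancel₀ (hf0 a), one_mul]
    show 1 - f a * (r⁻¹ * ∑ j ∈ Finset.range N, d a ^ j) = _
    linear_combination -hg
  rw [key, mul_div_assoc]
  exact (localRing hM).mul_mem
    (memLocalRing_inv (memLocalRing_of_lGen hM hf a) (hu a)) (hdN a)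

/-! ## Functions of subgroups -/

section Marks

variable (t : Subgroup A → ℂ)

/-- The average over the subgroups above `V`. -/
noncomputable def avg (V : Subgroup A) : ℂ :=
  (Nat.card A : ℂ)⁻¹ * ∑ a : A, t (V ⊔ Subgroup.zpowers a)

theorem exists_marks (U : Subgroup A) (h : ∀ V, U ≤ V → Cfsg.MemLocalRing M (avg t V))
    (hM : Cfsg.IsPModular p M) :
    ∃ c : Subgroup A → ℂ, (∀ V, U ≤ V → Cfsg.MemLocalRing M (c V)) ∧
      ∀ V, U ≤ V → t V = ∑ᶠ (W : Subgroup A) (_ : V ≤ W), c W * (W.index : ℂ) := by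
  classical
  letI := Fintype.ofFinite (Subgroup A)
  obtain ⟨c, hc⟩ : ∃ c : Subgroup A → ℂ, ∀ V, c V = avg t V -
      ∑ W ∈ Finset.univ.filter (fun W => V < W), c W := by
    refine ⟨wellFounded_gt.fix fun V F => avg t V -
      ∑ W ∈ (Finset.univ.filter (fun W => V < W)).attach, F W.1 (Finset.mem_filter.1 W.2).2,
      fun V => ?_⟩
    conv_lhs => rw [WellFounded.fix_eq]
    congr 1
    exact Finset.sum_attach (Finset.univ.filter (fun W => V < W))
      (fun W => wellFounded_gt.fix _ W)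
  have hcle : ∀ V, avg t V = ∑ W ∈ Finset.univ.filter (fun W => V ≤ W), c W := by
    intro V
    rw [show Finset.univ.filter (fun W => V ≤ W) =
      insert V (Finset.univ.filter (fun W => V < W)) from ?_, Finset.sum_insert (by simp), hc V]
    · ring
    · ext W; simp [le_iff_lt_or_eq, or_comm, eq_comm]
  refine ⟨c, fun V hV => ?_, fun V hV => ?_⟩
  · induction V using WellFoundedGT.induction with
    | _ V ih =>
      rw [hc V]
      exact (localRing hM).sub_mem (h V hV) ((localRing hM).sum_mem fun W hW =>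
        ih W (Finset.mem_filter.1 hW).2 (hV.trans (Finset.mem_filter.1 hW).2.le))
  · rw [finsum_eq_sum_of_fintype]
    simp only [finsum_eq_if]
    induction V using WellFoundedGT.induction with
    | _ V ih =>
      let E : Subgroup A → ℂ := fun V => ∑ W, if V ≤ W then c W * (W.index : ℂ) else 0
      show t V = E V
      have hA : (Nat.card A : ℂ) ≠ 0 := Nat.cast_ne_zero.2 Nat.card_pos.ne'
      have h1 : ∑ a : A, E (V ⊔ Subgroup.zpowers a) = ∑ a : A, t (V ⊔ Subgroup.zpowers a) := by
        rw [← mul_inv_cancel_left₀ hA (∑ a : A, t (V ⊔ Subgroup.zpowers a)), ← avg, hcle V]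
        simp only [E]
        rw [Finset.sum_comm, Finset.mul_sum, Finset.sum_filter]
        refine Finset.sum_congr rfl fun W _ => ?_
        by_cases hVW : V ≤ W
        · rw [if_pos hVW, Finset.sum_congr rfl (g := fun a => if a ∈ W then c W * (W.index : ℂ) else 0)
            fun a _ => if_congr (by simp [hVW]) rfl rfl, ← Finset.sum_filter, Finset.sum_const,
            nsmul_eq_mul, ← Fintype.card_subtype, ← W.card_mul_index, Nat.cast_mul,
            Nat.card_eq_fintype_card]
          ring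
        · rw [if_neg hVW, Finset.sum_eq_zero fun a _ => if_neg fun h' => hVW (le_sup_left.trans h')]
      have h2 : ∑ a : A, (t (V ⊔ Subgroup.zpowers a) - E (V ⊔ Subgroup.zpowers a)) =
          (Nat.card V : ℂ) * (t V - E V) := by
        rw [Finset.sum_congr rfl (g := fun a => if a ∈ V then t V - E V else 0) fun a _ => ?_,
          ← Finset.sum_filter, Finset.sum_const, nsmul_eq_mul, ← Fintype.card_subtype,
          Nat.card_eq_fintype_card]
        split_ifs with ha
        · rw [sup_eq_left.2 (Subgroup.zpowers_le.2 ha)]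
        · rw [sub_eq_zero]
          exact ih _ (left_lt_sup.2 fun h' => ha (h' (Subgroup.mem_zpowers a))) (hV.trans le_sup_left)
      rw [Finset.sum_sub_distrib, h1, sub_self, eq_comm, mul_eq_zero, sub_eq_zero] at h2
      exact h2.resolve_left (Nat.cast_ne_zero.2 Nat.card_pos.ne')

/-- A function of subgroups whose averages are local gives a function with local coefficients. -/
theorem lGen_of_avg (hM : Cfsg.IsPModular p M) (U : Subgroup A)
    (h : ∀ V, U ≤ V → Cfsg.MemLocalRing M (avg t V)) :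
    LGen M (fun a => t (U ⊔ Subgroup.zpowers a)) := by
  classical
  letI := Fintype.ofFinite (Subgroup A)
  obtain ⟨c, hc, he⟩ := exists_marks t U h hM
  intro ν
  have hA : (Nat.card A : ℂ) ≠ 0 := Nat.cast_ne_zero.2 Nat.card_pos.ne'
  have e : four (fun a => t (U ⊔ Subgroup.zpowers a)) ν = ∑ W ∈ Finset.univ.filter (fun W => U ≤ W),
      c W * ((W.index : ℂ) * (Nat.card A : ℂ)⁻¹ * ∑ a : A, if a ∈ W then (ν a : ℂ) else 0) := by
    simp only [four]
    rw [Finset.mul_sum, Finset.sum_congr rfl (g := fun a => ∑ W ∈ Finset.univ.filter (fun W => U ≤ W),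
      c W * ((W.index : ℂ) * (Nat.card A : ℂ)⁻¹ * if a ∈ W then (ν a : ℂ) else 0)) fun a _ => ?_,
      Finset.sum_comm]
    · exact Finset.sum_congr rfl fun W _ => by rw [Finset.mul_sum, Finset.mul_sum]
    · rw [he _ le_sup_left, finsum_eq_sum_of_fintype]
      simp only [finsum_eq_if, Finset.mul_sum]
      rw [Finset.sum_filter]
      refine Finset.sum_congr rfl fun W _ => ?_
      by_cases hUW : U ≤ W <;> by_cases ha : a ∈ W <;> simp [hUW, ha] <;> ring
  rw [e]
  refine (localRing hM).sum_mem fun W hW => ?_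
  refine (localRing hM).mul_mem (hc W (Finset.mem_filter.1 hW).2) ?_
  rcases sum_char (W := W) ν with h' | h' <;> rw [h']
  · rw [mul_zero]; exact (localRing hM).zero_mem
  · rw [show (W.index : ℂ) * (Nat.card A : ℂ)⁻¹ * (Nat.card W : ℂ) = 1 by
      rw [← W.card_mul_index, Nat.cast_mul]
      have hi : (W.index : ℂ) ≠ 0 := Nat.cast_ne_zero.2 Subgroup.index_ne_zero_of_finite
      have hw : (Nat.card W : ℂ) ≠ 0 := Nat.cast_ne_zero.2 Nat.card_pos.ne'
      field_simp]
    exact (localRing hM).one_mem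

theorem avg_congr {t' : Subgroup A → ℂ} (V : Subgroup A) (h : ∀ W, V ≤ W → t W = t' W) :
    avg t V = avg t' V := by
  simp only [avg]
  congr 1
  exact Finset.sum_congr rfl fun a _ => h _ le_sup_left

/-- The value at `U` making the average at `U` vanish. -/
theorem exists_completion (hM : Cfsg.IsPModular p M) (U : Subgroup A)
    (hloc : ∀ V, U < V → Cfsg.MemLocalRing M (t V))
    (h : ∀ V, U < V → Cfsg.MemLocalRing M (avg t V)) :
    ∃ x, Cfsg.MemLocalRing M x ∧ ∀ t' : Subgroup A → ℂ, t' U = x → (∀ V, U < V → t' V = t V) →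
      LGen M (fun a => t' (U ⊔ Subgroup.zpowers a)) := by
  classical
  letI : Fintype (A ⧸ U) := Fintype.ofFinite _
  let F : A ⧸ U → ℂ := fun q => if q = 1 then 0 else t (U ⊔ Subgroup.zpowers q.out)
  have hq : ∀ a b : A, (a : A ⧸ U) = b → U ⊔ Subgroup.zpowers a = U ⊔ Subgroup.zpowers b := by
    have key : ∀ a b : A, (a : A ⧸ U) = b → U ⊔ Subgroup.zpowers b ≤ U ⊔ Subgroup.zpowers a := by
      intro a b hab
      refine sup_le le_sup_left (Subgroup.zpowers_le.2 ?_)
      have := Subgroup.mul_mem_sup (QuotientGroup.eq.1 hab) (Subgroup.mem_zpowers a)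
      rwa [mul_comm a⁻¹ b, inv_mul_cancel_right] at this
    exact fun a b hab => le_antisymm (key b a hab.symm) (key a b hab)
  have hsum : ∑ a : A, (if a ∈ U then 0 else t (U ⊔ Subgroup.zpowers a)) =
      (Nat.card U : ℂ) * ∑ q, F q := by
    rw [← Finset.sum_fiberwise Finset.univ (fun a : A => (a : A ⧸ U)), Finset.mul_sum]
    refine Finset.sum_congr rfl fun q _ => ?_
    rw [Finset.sum_congr rfl (g := fun _ => F q) fun a ha => ?_, Finset.sum_const, nsmul_eq_mul]
    · congr 2
      induction q using QuotientGroup.induction_on with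
      | H b =>
        rw [Nat.card_eq_fintype_card, ← Fintype.card_subtype]
        refine Fintype.card_congr
          { toFun := fun a => ⟨b⁻¹ * a.1, QuotientGroup.eq.1 a.2.symm⟩
            invFun := fun u => ⟨b * u.1, QuotientGroup.mk_mul_of_mem b u.2⟩
            left_inv := fun a => Subtype.ext (by simp)
            right_inv := fun u => Subtype.ext (by simp) }
    · obtain rfl := (Finset.mem_filter.1 ha).2
      simp only [F, QuotientGroup.eq_one_iff]
      split_ifs with hu
      · rfl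
      · rw [hq a _ (QuotientGroup.out_eq' (a : A ⧸ U)).symm]
  refine ⟨-∑ q, F q, (localRing hM).neg_mem ((localRing hM).sum_mem fun q _ => ?_),
    fun t' hU ht' => lGen_of_avg t' hM U fun V hV => ?_⟩
  · simp only [F]
    split_ifs with h1
    · exact (localRing hM).zero_mem
    · refine hloc _ (left_lt_sup.2 fun h' => h1 ?_)
      rw [← QuotientGroup.out_eq' q, QuotientGroup.eq_one_iff]
      exact h' (Subgroup.mem_zpowers _)
  · rcases eq_or_lt_of_le hV with rfl | hlt
    · have e : ∀ a : A, t' (U ⊔ Subgroup.zpowers a) = (if a ∈ U then t' U else 0) +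
          (if a ∈ U then 0 else t (U ⊔ Subgroup.zpowers a)) := by
        intro a
        split_ifs with ha
        · rw [sup_eq_left.2 (Subgroup.zpowers_le.2 ha), add_zero]
        · rw [ht' _ (left_lt_sup.2 fun h' => ha (h' (Subgroup.mem_zpowers a))), zero_add]
      rw [avg, Finset.sum_congr rfl fun a _ => e a, Finset.sum_add_distrib, hsum,
        ← Finset.sum_filter, Finset.sum_const, nsmul_eq_mul, ← Fintype.card_subtype,
        ← Nat.card_eq_fintype_card, hU]
      rw [mul_neg, neg_add_cancel, mul_zero]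
      exact (localRing hM).zero_mem
    · rw [avg_congr t' (t' := t) V fun W hW => ht' W (hlt.trans_le hW)]
      exact h V hlt

end Marks

end Cfsg.Agent.BlockChar.SignCoherence
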