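import Cfsg.Agent.BlockThms.Homocyclic
import Cfsg.Agent.Blocks.Star.Watanabe

/-!
# The inertial quotient on a homocyclic defect group of rank two
-/

set_option autoImplicit false

namespace Cfsg.Agent.BlockChar.SignCoherence

open Cfsg.Agent Cfsg.Agent.Blocks Cfsg.Agent.Blocks.Star Cfsg.Agent.BrauerPairs

universe u

/-- An automorphism of odd order fixing the involutions of an abelian `2`-group is trivial. -/
theorem eq_one_of_fix_involutions {A : Type u} [CommGroup A] (hA : IsPGroup 2 A) {σ : MulAut A}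
    {r : ℕ} (hr : ¬ 2 ∣ r) (hσ : σ ^ r = 1) (h : ∀ z : A, z * z = 1 → σ z = z) : σ = 1 := by
  refine MulEquiv.ext fun x => ?_
  obtain ⟨j, hj⟩ := hA x
  rw [MulAut.one_apply]
  induction j generalizing x with
  | zero => rw [pow_zero, pow_one] at hj; rw [hj, map_one]
  | succ j ih =>
    have hxx : σ (x * x) = x * x := ih _ (by rw [← pow_two, ← pow_mul, ← pow_succ']; exact hj)
    rw [map_mul] at hxx
    have hd2 : σ x * x⁻¹ * (σ x * x⁻¹) = 1 := by
      rw [mul_mul_mul_comm, hxx, ← mul_inv, mul_inv_cancel]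
    have hfix := h _ hd2
    have hiter : ∀ k : ℕ, (σ ^ k) x = (σ x * x⁻¹) ^ k * x := by
      intro k
      induction k with
      | zero => simp
      | succ k ihk =>
        rw [pow_succ' σ, MulAut.mul_apply, ihk, map_mul, map_pow, hfix, pow_succ, mul_assoc,
          inv_mul_cancel_right]
    have h1 := hiter r
    rw [hσ, MulAut.one_apply, eq_comm, mul_eq_right] at h1
    have h2 : σ x * x⁻¹ = 1 := orderOf_eq_one_iff.1 (Nat.eq_one_of_dvd_coprimes
      (Nat.prime_two.coprime_iff_not_dvd.2 hr)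
      (orderOf_dvd_of_pow_eq_one (by rw [pow_two]; exact hd2)) (orderOf_dvd_of_pow_eq_one h1))
    exact mul_inv_eq_one.1 h2

/-- A group of automorphisms of odd order of a homocyclic `2`-group of rank two has order one or
three and acts freely. -/
theorem free_of_homocyclic {A : Type u} [CommGroup A] [Finite A] (hA : IsPGroup 2 A) {m : ℕ}
    (hm : 1 ≤ m) (e : A ≃* Multiplicative (ZMod (2 ^ m) × ZMod (2 ^ m))) (E : Subgroup (MulAut A))
    (hE : ¬ 2 ∣ Nat.card E) :
    (Nat.card E = 1 ∨ Nat.card E = 3) ∧ ∀ σ ∈ E, ∀ a : A, a ≠ 1 → σ a = a → σ = 1 := by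
  classical
  haveI : Finite E := Nat.finite_of_card_ne_zero fun h => hE (h ▸ dvd_zero 2)
  let X := {z : A // z ≠ 1 ∧ z * z = 1}
  have hX : Nat.card X = 3 := BlockThms.Homocyclic.card_involutions hm e
  letI : MulAction E X :=
    { smul := fun σ z => ⟨(σ : MulAut A) z.1,
        fun h => z.2.1 ((σ : MulAut A).map_eq_one_iff.1 h), by rw [← map_mul, z.2.2, map_one]⟩
      one_smul := fun z => Subtype.ext rfl
      mul_smul := fun σ τ z => Subtype.ext rfl }
  have hsmul : ∀ (σ : E) (z : X), ((σ • z : X) : A) = (σ : MulAut A) z.1 := fun _ _ => rfl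
  obtain ⟨ψ, hψdef⟩ : ∃ ψ : E →* Equiv.Perm X, ψ = MulAction.toPermHom E X := ⟨_, rfl⟩
  have hinj : Function.Injective ψ := (injective_iff_map_eq_one ψ).2 fun σ h => Subtype.ext (by
    refine eq_one_of_fix_involutions hA hE ?_ fun z hz => ?_
    · rw [← Subgroup.coe_pow, pow_card_eq_one', Subgroup.coe_one]
    · by_cases hz1 : z = 1
      · rw [hz1, map_one]
      have h1 : ψ σ ⟨z, hz1, hz⟩ = ⟨z, hz1, hz⟩ := by rw [h]; rfl
      rw [hψdef] at h1
      exact congrArg Subtype.val h1)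
  have hperm : Nat.card (Equiv.Perm X) = 6 := by rw [Nat.card_perm, hX]; rfl
  have h13 : Nat.card E = 1 ∨ Nat.card E = 3 := by
    have hd : Nat.card E ∣ 6 := hperm ▸ Subgroup.card_dvd_of_injective ψ hinj
    have h6 := Nat.le_of_dvd (by norm_num) hd
    have h0 : 0 < Nat.card E := Nat.card_pos
    rcases (by omega : Nat.card E = 1 ∨ Nat.card E = 2 ∨ Nat.card E = 3 ∨ Nat.card E = 4 ∨
      Nat.card E = 5 ∨ Nat.card E = 6) with h | h | h | h | h | h
    · exact Or.inl h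
    · exact absurd (h ▸ dvd_rfl) hE
    · exact Or.inr h
    · rw [h] at hd; norm_num at hd
    · rw [h] at hd; norm_num at hd
    · exact absurd (h ▸ (by norm_num : (2 : ℕ) ∣ 6)) hE
  refine ⟨h13, fun σ hσ a ha hfix => ?_⟩
  rcases h13 with h1 | h3
  · haveI := (Nat.card_eq_one_iff_unique.1 h1).1
    exact congrArg Subtype.val (Subsingleton.elim (⟨σ, hσ⟩ : E) 1)
  have : Finite X := Nat.finite_of_card_ne_zero (by omega)
  let eX : X ≃ Fin 3 := (Finite.equivFin X).trans (finCongr hX)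
  obtain ⟨j, hj⟩ := IsPGroup.iff_orderOf.1 hA a
  obtain ⟨i, rfl⟩ : ∃ i, j = i + 1 := ⟨j - 1, by
    rcases Nat.eq_zero_or_pos j with rfl | h
    · exact absurd (orderOf_eq_one_iff.1 (hj.trans (pow_zero 2))) ha
    · omega⟩
  have hw2 : a ^ 2 ^ i * a ^ 2 ^ i = 1 := by
    rw [← pow_add, ← two_mul, ← pow_succ']
    exact hj ▸ pow_orderOf_eq_one a
  have hw1 : a ^ 2 ^ i ≠ 1 := fun h => by
    have h1 := orderOf_dvd_of_pow_eq_one h
    rw [hj] at h1
    have h2 := (Nat.pow_dvd_pow_iff_le_right (by norm_num : 1 < 2)).1 h1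
    omega
  have hz : ψ ⟨σ, hσ⟩ ⟨a ^ 2 ^ i, hw1, hw2⟩ = ⟨a ^ 2 ^ i, hw1, hw2⟩ := by
    rw [hψdef]
    exact Subtype.ext (by show σ (a ^ 2 ^ i) = a ^ 2 ^ i; rw [map_pow, hfix])
  have h3' : ψ ⟨σ, hσ⟩ ^ 3 = 1 := by
    rw [← map_pow, ← h3, pow_card_eq_one', map_one]
  have h1 := BlockThms.Homocyclic.perm_fin_three (eX.permCongrHom (ψ ⟨σ, hσ⟩))
    (by rw [← map_pow, h3', map_one]) (eX ⟨a ^ 2 ^ i, hw1, hw2⟩)
    (by show eX (ψ ⟨σ, hσ⟩ (eX.symm (eX ⟨a ^ 2 ^ i, hw1, hw2⟩))) = eX ⟨a ^ 2 ^ i, hw1, hw2⟩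
        rw [eX.symm_apply_apply, hz])
  exact congrArg Subtype.val (hinj ((eX.permCongrHom.injective (by rw [h1, map_one] :
    eX.permCongrHom (ψ ⟨σ, hσ⟩) = eX.permCongrHom 1)).trans (map_one ψ).symm))

variable {G : Type u} [Group G] [Finite G] {p : ℕ} {M : Ideal Cfsg.AlgInt}
  {B : Set (Cfsg.IrrCharacter G)} {P : Subgroup G}
  {c : Set (Cfsg.IrrCharacter (Subgroup.centralizer (P : Set G)))}

/-- A homocyclic defect group of rank two has inertial index one or three, with free action. -/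
theorem free_homocyclic_pair (hM : Cfsg.IsPModular 2 M)
    (hmax : Cfsg.IsMaximalBrauerPair 2 M B P c) {m : ℕ} (hm : 1 ≤ m)
    (e : P ≃* Multiplicative (ZMod (2 ^ m) × ZMod (2 ^ m))) (T : Subgroup G)
    (hT : ∀ g : G, g ∈ T ↔ BrauerPairs.conjPair g ⟨P, c⟩ = ⟨P, c⟩) :
    ((Subgroup.centralizer (P : Set G)).relIndex T = 1 ∨
      (Subgroup.centralizer (P : Set G)).relIndex T = 3) ∧
    ∀ g ∈ T, ∀ x ∈ P, x ≠ 1 → g * x * g⁻¹ = x → g ∈ Subgroup.centralizer (P : Set G) := by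
  classical
  letI := Fintype.ofFinite G
  haveI := Fact.mk hM.1
  have hab : ∀ x ∈ P, ∀ y ∈ P, x * y = y * x := fun x hx y hy =>
    congrArg Subtype.val (e.injective (by rw [map_mul, map_mul, mul_comm]) :
      (⟨x, hx⟩ : P) * ⟨y, hy⟩ = ⟨y, hy⟩ * ⟨x, hx⟩)
  letI : CommGroup P :=
    { (inferInstance : Group P) with mul_comm := fun a b => Subtype.ext (hab a a.2 b b.2) }
  let φ : T →* MulAut P :=
    { toFun := fun t =>
        { toFun := fun x => ⟨(t : G) * x * (t : G)⁻¹, conj_mem_of_stabilizer (c := c) T hT t.2 x.2⟩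
          invFun := fun x => ⟨(t : G)⁻¹ * x * (t : G), by
            simpa using conj_mem_of_stabilizer (c := c) T hT (inv_mem t.2) x.2⟩
          left_inv := fun x => Subtype.ext (by group)
          right_inv := fun x => Subtype.ext (by group)
          map_mul' := fun a b => Subtype.ext (by push_cast; group) }
      map_one' := MulEquiv.ext fun x => Subtype.ext (by simp)
      map_mul' := fun a b => MulEquiv.ext fun x => Subtype.ext (by
        show ((a * b : T) : G) * x * ((a * b : T) : G)⁻¹ =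
          (a : G) * ((b : G) * x * (b : G)⁻¹) * (a : G)⁻¹
        push_cast; group) }
  have hφ : ∀ t x, ((φ t x : P) : G) = (t : G) * x * (t : G)⁻¹ := fun _ _ => rfl
  have hker : φ.ker = (Subgroup.centralizer (P : Set G)).subgroupOf T := by
    ext t
    rw [MonoidHom.mem_ker, Subgroup.mem_subgroupOf, Subgroup.mem_centralizer_iff]
    constructor
    · intro h1 x hx
      have h2 : ((φ t ⟨x, hx⟩ : P) : G) = x := by rw [h1]; rfl
      rw [hφ] at h2
      exact (mul_inv_eq_iff_eq_mul.1 h2).symm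
    · intro h1
      exact MulEquiv.ext fun x => Subtype.ext (by
        rw [hφ, ← h1 x x.2, mul_inv_cancel_right, MulAut.one_apply])
  have hodd : ¬ 2 ∣ Nat.card φ.range := by
    intro hd
    obtain ⟨⟨_, s, rfl⟩, hs⟩ := exists_prime_orderOf_dvd_card' 2 hd
    rw [← Subgroup.orderOf_coe] at hs
    change orderOf (φ s) = 2 at hs
    obtain ⟨n, hn⟩ : ∃ n : ℕ, (s : G) ^ n = pPartOf 2 (s : G) := ⟨_, rfl⟩
    have h1 : φ (s ^ n) = 1 := by
      rw [← MonoidHom.mem_ker, hker, Subgroup.mem_subgroupOf, Subgroup.coe_pow, hn]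
      exact mem_centralizer_of_stabilizer hM hmax hab T hT
        (by rw [← hn]; exact T.pow_mem s.2 n) (orderOf_pPartOf hM.1 (s : G))
    have h2 : φ ((s ^ n)⁻¹ * s) = φ s := by rw [map_mul, map_inv, h1, inv_one, one_mul]
    have h3 : orderOf (φ s) ∣ orderOf ((s ^ n)⁻¹ * s) := h2 ▸ orderOf_map_dvd φ _
    have h4 : (((s ^ n)⁻¹ * s : T) : G) = pPrimePartOf 2 (s : G) := by
      rw [Subgroup.coe_mul, Subgroup.coe_inv, Subgroup.coe_pow, hn]
      nth_rw 2 [← pPartOf_mul_pPrimePartOf hM.1 (s : G)]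
      rw [inv_mul_cancel_left]
    rw [hs, ← Subgroup.orderOf_coe, h4] at h3
    exact not_dvd_orderOf_pPrimePartOf hM.1 _ h3
  obtain ⟨h13, hfree⟩ := free_of_homocyclic hmax.1.1.1 hm e φ.range hodd
  refine ⟨?_, fun g hg x hx hx1 hfix => ?_⟩
  · rw [Subgroup.relIndex, ← hker, Subgroup.index_ker]
    exact h13
  · have h1 := hfree (φ ⟨g, hg⟩) ⟨⟨g, hg⟩, rfl⟩ ⟨x, hx⟩
      (fun e => hx1 (congrArg Subtype.val e)) (Subtype.ext hfix)
    rw [← MonoidHom.mem_ker, hker, Subgroup.mem_subgroupOf] at h1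
    exact h1

end Cfsg.Agent.BlockChar.SignCoherence
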