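import Cfsg.Agent.BlockChar.SignCoherence.Equivariance
import Cfsg.Agent.Blocks.Star.StarChar
import Cfsg.Agent.Blocks.Star.FStable
import Cfsg.Agent.BrauerPairs.AbelianDefect
import Cfsg.Agent.BlockChar.Cyclic.Main

/-!
# The columns of the block at the singular subsections
-/

set_option autoImplicit false

namespace Cfsg.Agent.BlockChar.SignCoherence

open Cfsg.Agent Cfsg.Agent.Blocks Cfsg.Agent.Blocks.Star Cfsg.Agent.BrauerPairs
open scoped ComplexConjugate

universe u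

attribute [local instance] Ideal.Quotient.field Fintype.ofFinite

variable {G : Type u} [Group G] [Finite G] {p : ℕ} [Fact p.Prime] {M : Ideal Cfsg.AlgInt}

local notation "CG[" Q "]" => Subgroup.centralizer ((Q : Subgroup G) : Set G)

variable {B : Set (Cfsg.IrrCharacter G)} {P : Subgroup G}
  {c : Set (Cfsg.IrrCharacter (Subgroup.centralizer (P : Set G)))} {h : Setup p M B P c}

omit [Finite G] [Fact p.Prime] in
theorem mem_CG_bot (g : G) : g ∈ CG[⊥] :=
  Subgroup.mem_centralizer_iff.2 fun u hu => by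
    rw [Subgroup.coe_bot, Set.mem_singleton_iff] at hu
    rw [hu, one_mul, mul_one]

omit [Finite G] [Fact p.Prime] in
theorem bot_map_conj (t : G) :
    (⊥ : Subgroup G) = (⊥ : Subgroup G).map (MulAut.conj t).toMonoidHom :=
  (Subgroup.map_bot _).symm

omit [Finite G] in
theorem up_zpowers (a : P) : up (Subgroup.zpowers a) = ⊥ ⊔ Subgroup.zpowers (a : G) := by
  rw [bot_sup_eq, up, MonoidHom.map_zpowers]
  rfl

omit [Fact p.Prime] in
theorem notMem_bot {a : G} (ha1 : a ≠ 1) : a ∉ (⊥ : Subgroup G) :=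
  fun e => ha1 (Subgroup.mem_bot.1 e)

/-- The signed value. -/
noncomputable def rfun (D : Data h) (ε : Subgroup P → ℤ) (θ : Cfsg.IrrCharacter CG[⊥]) (a : P) : ℂ :=
  sval D ⊥ θ (a : G) * (ε (Subgroup.zpowers a) : ℂ)

/-- The Fourier coefficients of the signed values differ by integers. -/
theorem exists_int_bottom (D : Data h) {ε : Subgroup P → ℤ} (hP : P ≠ ⊥)
    (hε : ∀ U, U ≠ ⊥ → Good D ε U) (θ : Cfsg.IrrCharacter CG[⊥]) :
    ∀ ν ν' : P →* ℂˣ, ∃ n : ℤ,
      @fourOut P h.commGroup _ ⊥ (rfun D ε θ) ν - @fourOut P h.commGroup _ ⊥ (rfun D ε θ) ν' = n := by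
  letI := h.commGroup
  letI : DecidableEq P := Classical.decEq _
  letI : DecidableEq (Subgroup P) := Classical.decEq _
  letI : DecidablePred (· ∈ (⊥ : Subgroup P)) := Classical.decPred _
  intro ν ν'
  have hM := h.hM
  have hA : Nat.card P = p ^ D.k := card_pow D
  have hbot : ∀ a : P, a ∉ (⊥ : Subgroup P) → Subgroup.zpowers a ≠ ⊥ := fun a ha e =>
    ha (by rw [Subgroup.mem_bot]; exact Subgroup.zpowers_eq_bot.1 e)
  obtain ⟨a₀, ha₀⟩ : ∃ a₀ : P, a₀ ∉ (⊥ : Subgroup P) := by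
    obtain ⟨x, hx, hx1⟩ := P.bot_or_exists_ne_one.resolve_left hP
    exact ⟨⟨x, hx⟩, fun e => hx1 (congrArg Subtype.val (Subgroup.mem_bot.1 e))⟩
  have htloc : ∀ V, ⊥ < V → Cfsg.MemLocalRing M (tf D ε V) := fun V hV =>
    (localRing hM).mul_mem (sign_facts hM (hε V hV.ne').1).2.2.1 (memLocalRing_nR D _)
  obtain ⟨x, -, hx⟩ := exists_completion (tf D ε) hM ⊥ htloc fun V hV => (hε V hV.ne').2.2.2.1
  obtain ⟨g', hg'⟩ : ∃ g' : P → ℂ, g' = fun a =>
      Function.update (tf D ε) ⊥ x (⊥ ⊔ Subgroup.zpowers a) := ⟨_, rfl⟩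
  have hg'gen : LGen M g' := hg' ▸ hx (Function.update (tf D ε) ⊥ x) (by rw [Function.update_self])
    fun V hV => by rw [Function.update_of_ne hV.ne']
  have hg'out : ∀ a : P, a ∉ (⊥ : Subgroup P) → g' a = tf D ε (Subgroup.zpowers a) := fun a ha => by
    rw [hg']
    dsimp only
    rw [bot_sup_eq, Function.update_of_ne (hbot a ha)]
  have hg'u : ∀ a : P, ¬ Cfsg.MemLocalIdeal M (g' a) := fun a =>
    hg'gen.not_memLocalIdeal hM hA (a := a₀) (by
      rw [hg'out a₀ ha₀]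
      exact not_memLocalIdeal_mul hM (sign_facts hM (hε _ (hbot a₀ ha₀)).1).2.2.1
        (memLocalRing_nR D _) (sign_facts hM (hε _ (hbot a₀ ha₀)).1).2.2.2
        (hε _ (hbot a₀ ha₀)).2.2.1) a
  obtain ⟨F, hF⟩ : ∃ F : P → ℂ, ∀ a, F a =
      if a ∈ (⊥ : Subgroup P) then gfun D ⊥ θ (a : G) * (g' a)⁻¹ else rfun D ε θ a :=
    ⟨fun a => if a ∈ (⊥ : Subgroup P) then gfun D ⊥ θ (a : G) * (g' a)⁻¹ else rfun D ε θ a,
      fun _ => rfl⟩
  have hq : LGen M (fun a : P => gfun D ⊥ θ (a : G) * (g' a)⁻¹) :=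
    (lGen_gfun D bot_le θ).mul hM (hg'gen.inv hM hA (hg'u 1))
  have hFgen : LGen M F := hq.congr hM fun a => by
    rw [hF a, hA]
    split_ifs with ha
    · rw [sub_self, zero_div]
      exact (localRing hM).zero_mem
    · have hu := hε _ (hbot a ha)
      obtain ⟨hsq, -, hεR, hεI⟩ := sign_facts hM hu.1
      have hn0 : nR D (up (Subgroup.zpowers a)) ≠ 0 := fun e =>
        hu.2.2.1 (e ▸ memLocalIdeal_zero hM)
      have he0 : (ε (Subgroup.zpowers a) : ℂ) ≠ 0 := fun e => hεI (e ▸ memLocalIdeal_zero hM)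
      have hg := gfun_congr D (U := ⊥) bot_le θ a.2
        (notMem_bot fun e => ha (Subgroup.mem_bot.2 (Subtype.ext e)))
      rw [← up_zpowers] at hg
      rw [hg'out a ha, tf, rfun]
      have e : sval D ⊥ θ a * (ε (Subgroup.zpowers a) : ℂ) -
          gfun D ⊥ θ a * ((ε (Subgroup.zpowers a) : ℂ) * nR D (up (Subgroup.zpowers a)))⁻¹ =
          -((gfun D ⊥ θ a - sval D ⊥ θ a * nR D (up (Subgroup.zpowers a))) *
            ((ε (Subgroup.zpowers a) : ℂ) * nR D (up (Subgroup.zpowers a)))⁻¹) := by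
        field_simp
        linear_combination sval D ⊥ θ a * nR D (up (Subgroup.zpowers a)) * hsq
      rw [e, neg_div, mul_div_right_comm]
      exact (localRing hM).neg_mem ((localRing hM).mul_mem hg
        (memLocalRing_inv ((localRing hM).mul_mem hεR (memLocalRing_nR D _))
          (not_memLocalIdeal_mul hM hεR (memLocalRing_nR D _) hεI hu.2.2.1)))
  have hFout : ∀ a : P, a ∉ (⊥ : Subgroup P) → F a = rfun D ε θ a := fun a ha => by
    rw [hF a, if_neg ha]
  have hrint : ∀ a : P, IsIntegral ℤ (rfun D ε θ a) := fun a =>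
    (isIntegral_sval D bot_le θ a.2).mul (isIntegral_algebraMap (R := ℤ))
  have hfour : ∀ μ : P →* ℂˣ,
      fourOut ⊥ (rfun D ε θ) μ = four F μ - (Nat.card P : ℂ)⁻¹ * F 1 := by
    intro μ
    have e2 : ∀ a : P, (μ a : ℂ) * F a =
        (μ a : ℂ) * (if a ∈ (⊥ : Subgroup P) then 0 else rfun D ε θ a) +
          if a = 1 then F 1 else 0 := by
      intro a
      by_cases ha : a ∈ (⊥ : Subgroup P)
      · rw [if_pos ha, Subgroup.mem_bot.1 ha, if_pos rfl, map_one, Units.val_one]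
        ring
      · rw [if_neg ha, if_neg (fun e => ha (Subgroup.mem_bot.2 e)), hFout a ha]
        ring
    rw [four, Finset.sum_congr rfl fun a _ => e2 a, Finset.sum_add_distrib,
      Finset.sum_ite_eq', if_pos (Finset.mem_univ _), mul_add, fourOut, four, add_sub_cancel_right]
  refine exists_int_fourOut_sub ⊥ (rfun D ε θ) hM hA (fun a _ => hrint a) ?_ ν ν' ?_
  · intro ψ j hj hψ a ha hmem
    have hz : Subgroup.zpowers (a ^ j) = Subgroup.zpowers a := by
      refine le_antisymm (Subgroup.zpowers_le.2 ⟨j, zpow_natCast a j⟩) ?_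
      obtain ⟨m, hm⟩ := exists_pow_eq_self_of_coprime
        (Nat.Coprime.coprime_dvd_right (orderOf_dvd_natCard a) hj)
      exact Subgroup.zpowers_le.2 ⟨m, by simpa using hm⟩
    have hRC : (a : G) ∈ (⊥ : Subgroup G) ⊔ Subgroup.zpowers (a : G) :=
      Subgroup.mem_sup_right (Subgroup.mem_zpowers _)
    have hRle : ⊥ ⊔ Subgroup.zpowers (a : G) ≤ P := sup_zpowers_le bot_le a.2
    have hs := mem_qBar_of_isIntegral (isIntegral_sval D bot_le θ a.2)
    have hzG : Subgroup.zpowers ((a ^ j : P) : G) = Subgroup.zpowers (a : G) := by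
      have h1 := congrArg (Subgroup.map P.subtype) hz
      rwa [MonoidHom.map_zpowers, MonoidHom.map_zpowers] at h1
    have hval : sval D ⊥ θ ((a ^ j : P) : G) =
        secVal (incC (le_sup_left : (⊥ : Subgroup G) ≤ ⊥ ⊔ Subgroup.zpowers (a : G)))
          (D.f (⊥ ⊔ Subgroup.zpowers (a : G))) θ
          (elC (⊥ ⊔ Subgroup.zpowers (a : G)) (a : G) ^ j) := by
      rw [sval_eq_of_eq D le_sup_left θ _ (by rw [hzG]),
        show elC (⊥ ⊔ Subgroup.zpowers (a : G)) ((a ^ j : P) : G) =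
          elC (⊥ ⊔ Subgroup.zpowers (a : G)) (a : G) ^ j from Subtype.ext (by
            rw [coe_elC (h.mem_CG hRle (a ^ j).2), Subgroup.coe_pow, Subgroup.coe_pow,
              coe_elC (h.mem_CG hRle a.2)])]
    have e : (⟨rfun D ε θ a, hmem⟩ : BlockChar.QBar) =
        (⟨sval D ⊥ θ a, hs⟩ : BlockChar.QBar) * ((ε (Subgroup.zpowers a) : ℤ) : BlockChar.QBar) :=
      Subtype.ext (by simp [rfun])
    rw [e, map_mul, map_intCast, rfun, hz, hval, ← galois_secVal _ _ θ (elC_mem_center h hRC hRle)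
      (q := Nat.card P) (Subtype.ext (by
        rw [Subgroup.coe_pow, coe_elC (h.mem_CG hRle a.2), ← Subgroup.coe_pow, pow_card_eq_one',
          Subgroup.coe_one, Subgroup.coe_one])) ψ hψ hs]
    rfl
  · rw [hfour, hfour, show ∀ u v w : ℂ, u - w - (v - w) = u - v from fun u v w => by ring]
    exact (localRing hM).sub_mem (hFgen ν) (hFgen ν')

variable (D : Data h) (T : Subgroup G)
  (hT : ∀ g : G, g ∈ T ↔ BrauerPairs.conjPair g ⟨P, c⟩ = ⟨P, c⟩)
include hT

omit D in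
theorem conj_mem_T {t a : G} (ht : t ∈ T) (ha : a ∈ P) : t * a * t⁻¹ ∈ P :=
  conj_mem ((hT t).1 ht) ha

theorem sval_bot_conj {t a : G} (ht : t ∈ T) (ha : a ∈ P) (ha1 : a ≠ 1)
    (θ : Cfsg.IrrCharacter CG[⊥]) : sval D ⊥ θ (t * a * t⁻¹) = sval D ⊥ θ a := by
  refine sval_conj D ((hT t).1 ht) bot_le (bot_map_conj t) ha (notMem_bot ha1) fun z => ?_
  rw [show conjC t (bot_map_conj t) z = (⟨t, mem_CG_bot t⟩ : CG[⊥]) * z * ⟨t, mem_CG_bot t⟩⁻¹ from
    Subtype.ext rfl]
  exact Char.isClassFunction_of_isIrr θ.2 _ _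

theorem rfun_conj {ε : Subgroup P → ℤ} (hε : ∀ U, U ≠ ⊥ → Good D ε U) {t : G} (ht : t ∈ T)
    {a b : P} (ha : a ≠ 1) (hb : t * (a : G) * t⁻¹ = b) (θ : Cfsg.IrrCharacter CG[⊥]) :
    rfun D ε θ b = rfun D ε θ a := by
  have ha1 : (a : G) ≠ 1 := fun e => ha (Subtype.ext e)
  have h1 : ε (Subgroup.zpowers b) = ε (Subgroup.zpowers a) :=
    eps_conj D ((hT t).1 ht) hε _ (fun e => ha (Subgroup.zpowers_eq_bot.1 e)) _ (by
      rw [up_zpowers, up_zpowers, bot_sup_eq, bot_sup_eq, ← hb, map_zpowers_conj])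
  rw [rfun, rfun, h1, ← hb, sval_bot_conj D T hT ht a.2 ha1]

omit D in
/-- An element fusing two subsections of the block is replaced by one of the stabilizer. -/
theorem exists_T_of_fusion (D : Data h) {a b : G} (ha : a ∈ P) (hb : b ∈ P) {g : CG[⊥]}
    (hg : g * elC ⊥ a * g⁻¹ = elC ⊥ b) (hge : conjF g (eF D ⊥ a) = eF D ⊥ b) :
    ∃ t ∈ T, t * a * t⁻¹ = b := by
  obtain ⟨ba, -, hsa, -, hlea⟩ := exists_pair D (U := ⊥) bot_le ha
  obtain ⟨bb, -, hsb, -, hleb⟩ := exists_pair D (U := ⊥) bot_le hb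
  have hbelow : Below p M (P.subgroupOf CG[⊥])
      (resBlock (h.le_CG bot_le) (BrauerPairs.centralizer_mono bot_le) c)
      (g * elC ⊥ a * g⁻¹) (conjF g (Cfsg.subgroupBlockCoeff _ ba)) := by
    rw [hg, hsa, hge]
    exact ⟨bb, hleb, hsb⟩
  obtain ⟨y, hy, hyv⟩ := BrauerPairs.exists_fixing_extend h.hM (D.maximal bot_le)
    (fun x hx z hz => Subtype.ext (h.hab _ hx _ hz)) (Q := Subgroup.zpowers (elC ⊥ a)) hlea
    ((below_conj_iff ba).1 hbelow)
  obtain ⟨h1, h2⟩ := (conjPair_eq_iff h.hM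
    (isPBlock_resBlock (h.le_CG bot_le) (BrauerPairs.centralizer_mono bot_le) h.hmax.1.1.2) y).1 hy
  obtain ⟨h3, h4⟩ := BlockChar.Cyclic.stab_of_local_stab h.hM h.hmax.1.1.2
    (h.le_CG bot_le) (BrauerPairs.centralizer_mono bot_le) h1 h2
  refine ⟨y, (hT _).2 ((conjPair_eq_iff h.hM h.hmax.1.1.2 _).2 ⟨h3, h4⟩), ?_⟩
  have h5 := hyv (elC ⊥ a) (Subgroup.mem_zpowers _)
  rw [hg] at h5
  have h6 := congrArg (fun z : CG[⊥] => (z : G)) h5
  simpa [coe_elC (h.mem_CG bot_le ha), coe_elC (h.mem_CG bot_le hb)] using h6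

/-- Columns of non-fused subsections are orthogonal. -/
theorem sum_sval_orth {a b : G} (ha : a ∈ P) (ha1 : a ≠ 1) (hb : b ∈ P) (hb1 : b ≠ 1)
    (hne : ∀ t ∈ T, t * a * t⁻¹ ≠ b) :
    ∑ θ ∈ (Set.toFinite (D.f ⊥)).toFinset, sval D ⊥ θ a * conj (sval D ⊥ θ b) = 0 := by
  have h1 := sum_sval_mul_conj D (U := ⊥) bot_le ha (notMem_bot ha1) hb (notMem_bot hb1)
  have h0 : IsEmpty {g : CG[⊥] // g * elC ⊥ a * g⁻¹ = elC ⊥ b ∧
      conjF g (eF D ⊥ a) = eF D ⊥ b} := ⟨fun g => by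
    obtain ⟨t, ht, hte⟩ := exists_T_of_fusion T hT D ha hb g.2.1 g.2.2
    exact hne t ht hte⟩
  rw [Nat.card_of_isEmpty, Nat.cast_zero, zero_mul] at h1
  exact (mul_eq_zero.1 h1).resolve_right
    (mul_ne_zero (phi_one_ne_zero D _) (phi_one_ne_zero D _))

/-- Fused columns are equal. -/
theorem sum_sval_fused {a b : G} (ha : a ∈ P) (ha1 : a ≠ 1)
    (hab : ∃ t ∈ T, t * a * t⁻¹ = b) :
    ∑ θ ∈ (Set.toFinite (D.f ⊥)).toFinset, sval D ⊥ θ a * conj (sval D ⊥ θ b) =
      (Nat.card P : ℂ) := by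
  obtain ⟨t, ht, rfl⟩ := hab
  rw [← sum_sval_self D (U := ⊥) bot_le ha (notMem_bot ha1)]
  exact Finset.sum_congr rfl fun θ _ => by rw [sval_bot_conj D T hT ht ha ha1]

omit hT

/-- Every character of the block meets a singular subsection. -/
theorem exists_sval_ne_zero (hP : P ≠ ⊥) {θ : Cfsg.IrrCharacter CG[⊥]} (hθ : θ ∈ D.f ⊥) :
    ∃ a : G, a ∈ P ∧ a ≠ 1 ∧ sval D ⊥ θ a ≠ 0 := by
  refine Classical.byContradiction fun hcon => ?_
  have hall : ∀ a : G, a ∈ P → a ≠ 1 → sval D ⊥ θ a = 0 := fun a ha ha1 => by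
    rcases eq_or_ne (sval D ⊥ θ a) 0 with h0 | h0
    · exact h0
    · exact absurd ⟨a, ha, ha1, h0⟩ hcon
  have hM := h.hM
  have hp : p.Prime := hM.1
  have hmaxK := D.maximal (R := ⊥) bot_le
  have hBK := D.isBlock (R := ⊥) bot_le
  -- the character vanishes on the singular elements
  have hvan : ∀ x : CG[⊥], p ∣ orderOf x → (θ : CG[⊥] → ℂ) x = 0 := by
    intro x hx
    have h1 := Phi_eq_self hM (W := fun _ _ => (0 : ℂ)) θ x fun e he hne => by
      exfalso
      obtain ⟨b, hb, rfl⟩ := mem_Bk.1 he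
      have hu := orderOf_pPartOf hp x
      have hy : pPrimePartOf p x ∈ regC p (pPartOf p x) := by
        simp [regC, not_dvd_orderOf_pPrimePartOf hp, (commute_pPartOf_pPrimePartOf x).eq]
      have hpair := pair_of_sect_ne_zero hM hBK hθ hu hb hy hne
      obtain ⟨g, b', hb', hbe⟩ := (exists_below_iff hM hmaxK b).2 hpair
      have hmem := BlockChar.le_of_subpairLE hb' (Subgroup.mem_zpowers _)
      obtain ⟨a, hadef⟩ : ∃ a : G, a = ((g * pPartOf p x * g⁻¹ : CG[⊥]) : G) := ⟨_, rfl⟩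
      have haP : a ∈ P := hadef ▸ hmem
      have hae : elC ⊥ a = g * pPartOf p x * g⁻¹ :=
        Subtype.ext (by rw [coe_elC (mem_CG_bot a), hadef])
      have ha1 : a ≠ 1 := by
        rintro rfl
        have h2 : g * pPartOf p x * g⁻¹ = 1 := Subtype.ext hadef.symm
        have h3 : pPartOf p x = 1 := by
          have h4 := congrArg (fun z => g⁻¹ * z * g) h2
          simpa [mul_assoc] using h4
        refine not_dvd_orderOf_pPrimePartOf hp x ?_
        have h5 := pPartOf_mul_pPrimePartOf hp x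
        rw [h3, one_mul] at h5
        rwa [h5]
      obtain ⟨ba, -, hsa, -, hlea⟩ := exists_pair D (U := ⊥) bot_le haP
      have hce : conjF g (Cfsg.subgroupBlockCoeff _ b) = eF D ⊥ a := by
        rw [← hbe, ← hsa]
        have key : ∀ u : CG[⊥], u = elC ⊥ a → ∀ b₁ : Set (Cfsg.IrrCharacter
            (Subgroup.centralizer ((Subgroup.zpowers u : Subgroup CG[⊥]) : Set CG[⊥]))),
            Cfsg.SubpairLE p M (Subgroup.zpowers u) b₁ (P.subgroupOf CG[⊥])
              (resBlock (h.le_CG bot_le) (BrauerPairs.centralizer_mono bot_le) c) →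
            Cfsg.subgroupBlockCoeff _ b₁ = Cfsg.subgroupBlockCoeff _ ba := by
          intro u hu b₁ hb₁
          subst hu
          rw [(existsUnique_subpairLE hM hmaxK.1.1
            (BlockChar.le_of_subpairLE hlea)).unique hb₁ hlea]
        exact key _ hae.symm b' hb'
      have h6 : sect (θ : CG[⊥] → ℂ) (elC ⊥ a) (eF D ⊥ a) (g * pPrimePartOf p x * g⁻¹) = 0 := by
        have hC : ((g * pPrimePartOf p x * g⁻¹ : CG[⊥]) : G) ∈ CG[⊥ ⊔ Subgroup.zpowers a] := by
          refine (mem_range_incC h bot_le haP _).1 (mem_zpowers_centralizer.2 ?_)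
          rw [hae]
          have h7 := (commute_pPartOf_pPrimePartOf (p := p) x).eq
          calc g * pPartOf p x * g⁻¹ * (g * pPrimePartOf p x * g⁻¹)
              = g * (pPartOf p x * pPrimePartOf p x) * g⁻¹ := by group
            _ = g * (pPrimePartOf p x * pPartOf p x) * g⁻¹ := by rw [h7]
            _ = _ := by group
        have e : g * pPrimePartOf p x * g⁻¹ =
            incC (le_sup_left : (⊥ : Subgroup G) ≤ ⊥ ⊔ Subgroup.zpowers a) ⟨_, hC⟩ :=
          Subtype.ext rfl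
        rw [e, sect_eF D bot_le haP (notMem_bot ha1) θ, hall a haP ha1, zero_mul]
        rw [← orderOf_injective _ (incC_injective le_sup_left), ← e]
        rw [show orderOf (g * pPrimePartOf p x * g⁻¹) = orderOf (pPrimePartOf p x) from
          orderOf_injective (MulAut.conj g).toMonoidHom (MulAut.conj g).injective _]
        exact not_dvd_orderOf_pPrimePartOf hp x
      rw [← hce, hae, sect_conjF (Char.isClassFunction_of_isIrr θ.2)] at h6
      exact hne h6
    rw [← h1]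
    simp [Phi]
  -- so its regular inner products are those of an irreducible character
  have hq : ∀ ψ : Cfsg.IrrCharacter CG[⊥], BlockChar.regM p (D.f ⊥) θ ψ =
      ((p ^ Cfsg.blockDefect p (D.f ⊥) : ℕ) : ℂ) *
        Cfsg.classInner (θ : CG[⊥] → ℂ) (ψ : CG[⊥] → ℂ) := fun ψ => by
    rw [BlockChar.regM, Cfsg.classInner, div_eq_mul_inv, mul_assoc]
    congr 2
    rw [BlockChar.regSum]
    refine Finset.sum_congr rfl fun w _ => ?_
    split_ifs with hw
    · rfl
    · rw [hvan w (not_not.1 hw), zero_mul]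
  obtain ⟨ψ₀, hψ₀, h0⟩ := BlockThms.exists_height_zero hM hBK
  have hd := BlockChar.card_defectGroup hM hBK (isDefectGroup_of_maximal hM hmaxK)
  rw [Nat.card_congr (Subgroup.subgroupOfEquivOfLe (h.le_CG bot_le)).toEquiv] at hd
  by_cases hne : θ = ψ₀
  · subst hne
    obtain ⟨ψ, -, hu⟩ := BlockChar.exists_unit_entry hM hBK hθ h0
    refine hu ?_
    rw [hq ψ, Char.classInner_irrChar]
    split_ifs
    · rw [mul_one]
      refine (memLocalIdeal_natCast_iff hM _).2 (dvd_pow_self p fun hzero => hP ?_)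
      rw [hzero, pow_zero] at hd
      exact Subgroup.card_eq_one.1 hd
    · rw [mul_zero]; exact memLocalIdeal_zero hM
  · refine BlockChar.not_memLocalIdeal_omega_regConj hM hBK hθ hψ₀ h0 ?_
    have h2 := BlockChar.regM_eq hM.1 hθ ψ₀
    rw [hq ψ₀, Char.classInner_irrChar, if_neg hne, mul_zero, mul_zero, eq_comm, mul_eq_zero, Nat.cast_eq_zero] at h2
    rw [h2.resolve_left (BlockChar.redDeg_mul hM.1 hθ).2.2.ne']
    exact memLocalIdeal_zero hM

end Cfsg.Agent.BlockChar.SignCoherence
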