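import Cfsg.Agent.BlockChar.SignCoherence.Sect

/-!
# The second orthogonality relation for the sections
-/

set_option autoImplicit false

namespace Cfsg.Agent.BlockChar.SignCoherence

open Cfsg.Agent Cfsg.Agent.Blocks Cfsg.Agent.Blocks.Star
open scoped ComplexConjugate

universe u

variable {G : Type u} [Group G] [Fintype G] {p : ℕ} {M : Ideal Cfsg.AlgInt}

local notation "CG[" Q "]" => Subgroup.centralizer ((Q : Subgroup G) : Set G)
local notation "sbc" => Cfsg.subgroupBlockCoeff

theorem eq_zero_of_singular (hM : Cfsg.IsPModular p M) {u : G} {e : G → ℂ} (he : e ∈ Bk M u)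
    {w : G} (hw : e w ≠ 0) : ¬ p ∣ orderOf w ∧ u * w = w * u := by
  obtain ⟨b, hb, rfl⟩ := mem_Bk.1 he
  letI := Fintype.ofFinite CG[Subgroup.zpowers u]
  by_cases h : w ∈ CG[Subgroup.zpowers u]
  · refine ⟨fun hd => hw ?_, mem_zpowers_centralizer.1 h⟩
    rw [BrauerPairs.sbc_of_mem b h]
    exact blockCoeff_eq_zero_of_dvd hM hb (by rwa [Subgroup.orderOf_mk])
  · exact absurd (BrauerPairs.sbc_of_notMem b h) hw

theorem conj_Bk {u : G} {e : G → ℂ} (he : e ∈ Bk M u) (w : G) : conj (e w) = e w⁻¹ := by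
  obtain ⟨b, hb, rfl⟩ := mem_Bk.1 he
  classical
  by_cases h : w ∈ CG[Subgroup.zpowers u]
  · rw [BrauerPairs.sbc_of_mem b h, BrauerPairs.sbc_of_mem b (inv_mem h)]
    letI := Fintype.ofFinite CG[Subgroup.zpowers u]
    rw [blockCoeff_eq_sum, blockCoeff_eq_sum, map_mul, map_inv₀, map_natCast, map_sum]
    congr 1
    refine Finset.sum_congr rfl fun η _ => ?_
    split_ifs
    · rw [map_mul, Complex.conj_conj, show (⟨w⁻¹, inv_mem h⟩ : CG[Subgroup.zpowers u]) =
        (⟨w, h⟩ : CG[Subgroup.zpowers u])⁻¹ from rfl,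
        Char.IsChar.inv_eq_conj (Char.IsIrr.isCharacter η.2), Complex.conj_conj]
      obtain ⟨d, -, hd⟩ := Char.IsIrr.degree η.2
      rw [hd, map_natCast]
    · simp
  · rw [BrauerPairs.sbc_of_notMem b h, BrauerPairs.sbc_of_notMem b fun h' => h (by simpa using inv_mem h'),
      map_zero]

/-- Orthogonality of the functions of two blocks. -/
theorem sum_Bk_mul_conj (hM : Cfsg.IsPModular p M) {u : G} {e e' : G → ℂ} (he : e ∈ Bk M u)
    (he' : e' ∈ Bk M u) [Decidable (e = e')] :
    ∑ w, e w * conj (e' w) = if e = e' then e 1 else 0 := by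
  classical
  have h := congrFun (conv_Bk hM he he') 1
  rw [show ∑ w, e w * conj (e' w) = conv e e' 1 by
    simp [conv, conj_Bk he'], h]
  split_ifs <;> rfl

open scoped Classical in
/-- The second orthogonality relation at the identity of the sections. -/
theorem sum_sect_one (hM : Cfsg.IsPModular p M) {u u' : G} (hu : ∃ k, orderOf u = p ^ k)
    (hu' : ∃ k, orderOf u' = p ^ k) {e e' : G → ℂ} (he : e ∈ Bk M u) (he' : e' ∈ Bk M u') :
    ∑ χ : Cfsg.IrrCharacter G, sect (χ : G → ℂ) u e 1 * conj (sect (χ : G → ℂ) u' e' 1) =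
      ((Finset.univ.filter fun g : G => g * u * g⁻¹ = u' ∧ conjF g e = e').card : ℂ) * e 1 := by
  have hp := hM.1
  simp only [sect, mul_one, map_sum, map_mul, Finset.sum_mul_sum]
  rw [Finset.sum_comm]
  rw [Finset.sum_congr rfl (g := fun w => ∑ w', e w * conj (e' w') *
    ∑ χ : Cfsg.IrrCharacter G, (χ : G → ℂ) (u * w) * conj ((χ : G → ℂ) (u' * w'))) fun w _ => by
      rw [Finset.sum_comm]
      refine Finset.sum_congr rfl fun w' _ => ?_
      rw [Finset.mul_sum]
      exact Finset.sum_congr rfl fun χ _ => by ring]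
  have horth : ∀ a b : G, ∑ χ : Cfsg.IrrCharacter G, (χ : G → ℂ) a * conj ((χ : G → ℂ) b) =
      ((Finset.univ.filter fun g : G => g * a * g⁻¹ = b).card : ℂ) := by
    intro a b
    rw [Char.second_orthogonality]
    split_ifs with h
    · obtain ⟨g₀, hg₀⟩ := isConj_iff.1 h
      rw [Nat.card_eq_fintype_card, Fintype.card_subtype]
      congr 1
      refine Finset.card_bij' (fun c _ => g₀ * c) (fun g _ => g₀⁻¹ * g) (fun c hc => ?_)
        (fun g hg => ?_) (fun c _ => inv_mul_cancel_left _ _) fun g _ => mul_inv_cancel_left _ _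
      · rw [Finset.mem_filter, Subgroup.mem_centralizer_singleton_iff] at hc
        refine Finset.mem_filter.2 ⟨Finset.mem_univ _, ?_⟩
        rw [← hg₀]
        calc g₀ * c * a * (g₀ * c)⁻¹ = g₀ * (c * a) * c⁻¹ * g₀⁻¹ := by group
          _ = g₀ * a * g₀⁻¹ := by rw [hc.2]; group
      · rw [Finset.mem_filter] at hg
        refine Finset.mem_filter.2 ⟨Finset.mem_univ _, Subgroup.mem_centralizer_singleton_iff.2 ?_⟩
        calc g₀⁻¹ * g * a = g₀⁻¹ * (g * a * g⁻¹) * g := by group
          _ = g₀⁻¹ * (g₀ * a * g₀⁻¹) * g := by rw [hg.2, hg₀]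
          _ = a * (g₀⁻¹ * g) := by group
    · rw [Finset.filter_eq_empty_iff.2 fun g _ hg => h (isConj_iff.2 ⟨g, hg⟩), Finset.card_empty,
        Nat.cast_zero]
  have hpair : ∀ w w' : G, e w * conj (e' w') *
      ((Finset.univ.filter fun g : G => g * (u * w) * g⁻¹ = u' * w').card : ℂ) =
      ∑ g : G, if g * u * g⁻¹ = u' then (if w' = g * w * g⁻¹ then e w * conj (e' w') else 0) else 0 := by
    intro w w'
    by_cases h0 : e w * conj (e' w') = 0
    · simp [h0]
    obtain ⟨hw, hwc⟩ := eq_zero_of_singular hM he (left_ne_zero_of_mul h0)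
    obtain ⟨hw', hwc'⟩ := eq_zero_of_singular hM he'
      (fun h => right_ne_zero_of_mul h0 (by rw [h, map_zero]))
    rw [Finset.card_filter, Nat.cast_sum, Finset.mul_sum]
    refine Finset.sum_congr rfl fun g _ => ?_
    by_cases hg : g * (u * w) * g⁻¹ = u' * w'
    · obtain ⟨e1, e2⟩ := parts_mul hp (show Commute u w from hwc) hu hw
      obtain ⟨e1', e2'⟩ := parts_mul hp (show Commute u' w' from hwc') hu' hw'
      have h1 : g * u * g⁻¹ = u' := by rw [← e1', ← hg, pPartOf_conj, e1]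
      rw [if_pos hg, if_pos h1, if_pos ?_, Nat.cast_one, mul_one]
      calc w' = u'⁻¹ * (u' * w') := by group
        _ = (g * u * g⁻¹)⁻¹ * (g * (u * w) * g⁻¹) := by rw [h1, hg]
        _ = g * w * g⁻¹ := by group
    · rw [if_neg hg, Nat.cast_zero, mul_zero]
      split_ifs with h1 h2
      · exact absurd (by rw [← h1, h2]; group) hg
      · rfl
      · rfl
  simp only [horth, hpair]
  rw [Finset.sum_congr rfl fun w _ => Finset.sum_comm, Finset.sum_comm]
  rw [Finset.card_filter, Nat.cast_sum, Finset.sum_mul]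
  refine Finset.sum_congr rfl fun g _ => ?_
  by_cases hg : g * u * g⁻¹ = u'
  · simp only [if_pos hg, Finset.sum_ite_eq', Finset.mem_univ, if_true, hg, true_and]
    have he'' : conjF g⁻¹ e' ∈ Bk M u := by
      have := conjF_mem_Bk he' g⁻¹
      rwa [← hg, show g⁻¹ * (g * u * g⁻¹) * g⁻¹⁻¹ = u by group] at this
    rw [show ∑ w, e w * conj (e' (g * w * g⁻¹)) = ∑ w, e w * conj (conjF g⁻¹ e' w) by
      simp [conjF], sum_Bk_mul_conj hM he he'']
    have hiff : e = conjF g⁻¹ e' ↔ conjF g e = e' :=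
      ⟨fun h => by rw [h, conjF_conjF, mul_inv_cancel, conjF_one],
        fun h => by rw [← h, conjF_conjF, inv_mul_cancel, conjF_one]⟩
    simp only [hiff]
    split_ifs <;> simp
  · simp [hg]

end Cfsg.Agent.BlockChar.SignCoherence
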