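import Cfsg.Agent.BlockChar.SignCoherence.Sect
import Cfsg.Agent.BlockChar.RegInner
import Cfsg.Agent.BlockChar.Cyclic.OrdTwist
import Cfsg.Agent.BlockChar.Cyclic.Tee
import Cfsg.Agent.Blocks.Star.AbelianLocal
import Cfsg.Agent.Blocks.Star.Compat
import Cfsg.Agent.Blocks.Star.NilpotentMain
import Cfsg.Agent.S0133

/-!
# Compatible idempotents of the local blocks

For a block with abelian defect group whose local blocks are nilpotent a single element of the
group ring gives idempotents in the local blocks of all subgroups of the defect group.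
-/

set_option autoImplicit false

namespace Cfsg.Agent.BlockChar.SignCoherence

open Cfsg.Agent Cfsg.Agent.Blocks Cfsg.Agent.Blocks.Star Cfsg.Agent.BrauerPairs
open scoped ComplexConjugate

universe u

attribute [local instance] Ideal.Quotient.field Fintype.ofFinite

variable {G : Type u} [Group G] [Finite G] {p : ℕ} {M : Ideal Cfsg.AlgInt}

local notation "CG[" Q "]" => Subgroup.centralizer ((Q : Subgroup G) : Set G)
local notation "sbc" => Cfsg.subgroupBlockCoeff

/-- A block with abelian defect group whose local blocks are nilpotent. -/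
structure Setup (p : ℕ) (M : Ideal Cfsg.AlgInt) (B : Set (Cfsg.IrrCharacter G)) (P : Subgroup G)
    (c : Set (Cfsg.IrrCharacter CG[P])) : Prop where
  hM : Cfsg.IsPModular p M
  hmax : Cfsg.IsMaximalBrauerPair p M B P c
  hab : ∀ x ∈ P, ∀ y ∈ P, x * y = y * x
  hnil : ∀ R : Subgroup G, R ≤ P → R ≠ ⊥ → ∀ f : Set (Cfsg.IrrCharacter CG[R]),
    Cfsg.SubpairLE p M R f P c → Cfsg.IsNilpotentBlock p M f

variable {B : Set (Cfsg.IrrCharacter G)} {P : Subgroup G}
  {c : Set (Cfsg.IrrCharacter (Subgroup.centralizer (P : Set G)))}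

omit [Finite G] in
theorem Setup.mem_CG (h : Setup p M B P c) {R : Subgroup G} (hR : R ≤ P) {x : G} (hx : x ∈ P) :
    x ∈ CG[R] :=
  Subgroup.mem_centralizer_iff.2 fun y hy => h.hab y (hR hy) x hx

omit [Finite G] in
theorem Setup.le_CG (h : Setup p M B P c) {R : Subgroup G} (hR : R ≤ P) : P ≤ CG[R] :=
  fun _ hx => h.mem_CG hR hx

omit [Finite G] in
theorem mem_CG_of_mem_CG {U R : Subgroup G} (hUR : U ≤ R) {z : G} (hz : z ∈ CG[R]) : z ∈ CG[U] :=
  Subgroup.mem_centralizer_iff.2 fun u hu => Subgroup.mem_centralizer_iff.1 hz u (hUR hu)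

open scoped Classical in
/-- `y` in the centralizer of `R`, or `1`. -/
noncomputable def elC (R : Subgroup G) (y : G) : CG[R] :=
  if hy : y ∈ CG[R] then ⟨y, hy⟩ else 1

omit [Finite G] in
theorem elC_eq {R : Subgroup G} {y : G} (hy : y ∈ CG[R]) : elC R y = ⟨y, hy⟩ := by
  rw [elC, dif_pos hy]

omit [Finite G] in
theorem coe_elC {R : Subgroup G} {y : G} (hy : y ∈ CG[R]) : (elC R y : G) = y := by
  rw [elC_eq hy]

/-- The set fixing the local idempotents. -/
def fixSet (P R : Subgroup G) (y : G) : Set CG[R] :=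
  {z | (z : G) ∈ P ∨ (z : G) = y}

/-- The choices below `(P, c)`. -/
structure Data (h : Setup p M B P c) [Fact p.Prime] where
  k : ℕ
  hk : Nat.card P = p ^ k
  f : ∀ R : Subgroup G, Set (Cfsg.IrrCharacter CG[R])
  hf : ∀ R, R ≤ P → Cfsg.SubpairLE p M R (f R) P c
  φ : ∀ R : Subgroup G, Cfsg.IrrCharacter CG[R]
  hφ : ∀ R, R ≤ P → φ R ∈ f R ∧ Cfsg.blockHeight p (f R) (φ R : CG[R] → ℂ) = 0
  y : G
  hy : ¬ p ∣ orderOf y
  hyC : y ∈ CG[P]
  S : ∀ R : Subgroup G, GA CG[R] h.hM k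
  hSmem : ∀ R, R ≤ P → S R ∈ cen h.hM k (fixSet P R y)
  hSid : ∀ R, R ≤ P → IsIdempotentElem (S R)
  hcompat : ∀ U R : Subgroup G, U ≤ R → R ≤ P → ∀ (z : G) (hz : z ∈ CG[R]) (hz' : z ∈ CG[U]),
    (red h.hM k (S U)).coeff ⟨z, hz'⟩ = (red h.hM k (S R)).coeff ⟨z, hz⟩
  hred : ∀ R, R ≤ P →
    red h.hM k (S R) * redFun h.hM (Cfsg.blockCoeff (f R)) = red h.hM k (S R)
  hn : ¬ Cfsg.MemLocalIdeal M (ofR h.hM k
    (tau h.hM k (φ P : CG[P] → ℂ) (MonoidAlgebra.single (elC P y) 1 * S P)))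

/-- Some regular value of a height zero character is a unit. -/
theorem exists_regular_unit (hM : Cfsg.IsPModular p M) {H : Type u} [Group H] [Finite H]
    {b : Set (Cfsg.IrrCharacter H)} (hb : Cfsg.IsPBlock M b) {ψ : Cfsg.IrrCharacter H}
    (hψ : ψ ∈ b) (h0 : Cfsg.blockHeight p b (ψ : H → ℂ) = 0) :
    ∃ y : H, ¬ p ∣ orderOf y ∧ ¬ Cfsg.MemLocalIdeal M ((ψ : H → ℂ) y) := by
  classical
  haveI := Fact.mk hM.1
  by_contra! hall
  refine BlockChar.not_memLocalIdeal_omega_regConj hM hb hψ hψ h0 ?_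
  have : Finite (ConjClasses H) := Quotient.finite _
  letI := Fintype.ofFinite (ConjClasses H)
  rw [omega_eq_sum_classes (Char.isClassFunction_of_isIrr ψ.2)
    (BlockChar.isClassFunction_regConj (Char.isClassFunction_of_isIrr ψ.2))]
  refine memLocalIdeal_sum hM _ fun C _ =>
    memLocalIdeal_mul_right hM ?_ (memLocalRing_centralChar hM ψ.2 _)
  simp only [BlockChar.regConj]
  split_ifs with hreg
  · rw [← Char.IsChar.inv_eq_conj (Char.IsIrr.isCharacter ψ.2)]
    refine hall _ ?_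
    rw [orderOf_inv]
    exact hreg
  · exact memLocalIdeal_zero hM

/-- The trace of an element reducing to the block idempotent reduces to the value. -/
theorem memLocalIdeal_of_trace [Fact p.Prime] (hM : Cfsg.IsPModular p M) (k : ℕ) {H : Type u}
    [Group H] [Fintype H] {b : Set (Cfsg.IrrCharacter H)} (hb : Cfsg.IsPBlock M b)
    {φ : Cfsg.IrrCharacter H} (hφ : φ ∈ b) (y : H) {S : GA H hM k}
    (hS : red hM k S = redFun hM (Cfsg.blockCoeff b))
    (hI : Cfsg.MemLocalIdeal M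
      (ofR hM k (tau hM k (φ : H → ℂ) (MonoidAlgebra.single y 1 * S)))) :
    Cfsg.MemLocalIdeal M ((φ : H → ℂ) y) := by
  classical
  have hφR : ∀ z : H, Cfsg.MemLocalRing M ((φ : H → ℂ) z) := fun z =>
    memLocalRing_of_isIntegral hM (Char.IsChar.isIntegral (Char.IsIrr.isCharacter φ.2) z)
  have hbR := memLocalRing_blockCoeff hM hb
  rw [← resFun_eq_zero_iff hM (hφR y)]
  rw [← resFun_eq_zero_iff hM (memLocalRing_ofR hM k _)] at hI
  rw [← rbar_toR hM k (memLocalRing_ofR hM k _), toR_ofR, tau_apply, map_sum] at hI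
  rw [← hI]
  have hsum := sum_blockCoeff_mul_irr b φ y
  rw [if_pos hφ] at hsum
  conv_lhs => rw [← hsum]
  rw [resFun_sum hM _ _ fun a _ => (localRing hM).mul_mem (hbR a) (hφR _)]
  refine Fintype.sum_equiv (Equiv.mulLeft y) _ _ fun a => ?_
  rw [Equiv.coe_mulLeft, map_mul, rbar_toR hM k (hφR _),
    MonoidAlgebra.coeff_single_mul_apply, inv_mul_cancel_left, one_mul, ← coeff_red, hS,
    coeff_redFun, resFun_mul hM (hbR a) (hφR _)]

/-- Restriction of coefficients to a subgroup is multiplicative on supported elements. -/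
theorem mapDomain_restrict {k : Type} [CommSemiring k] (H : Subgroup G)
    (a : MonoidAlgebra k H) (x : MonoidAlgebra k G) (hx : ∀ z : H, a.coeff z = x.coeff (z : G))
    (hsupp : ∀ z, z ∉ H → x.coeff z = 0) :
    MonoidAlgebra.mapDomainRingHom k H.subtype a = x := by
  classical
  refine alg_ext fun z => ?_
  rw [show a = ∑ h, MonoidAlgebra.single h (a.coeff h) from alg_ext fun w => by
    simp [Finsupp.single_apply], map_sum]
  simp only [MonoidAlgebra.mapDomainRingHom_apply, MonoidAlgebra.mapDomain_single,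
    MonoidAlgebra.coeff_sum, Finsupp.finsetSum_apply, MonoidAlgebra.coeff_single,
    Finsupp.single_apply]
  by_cases hz : z ∈ H
  · rw [Finset.sum_eq_single (⟨z, hz⟩ : H)]
    · simpa using hx ⟨z, hz⟩
    · intro b _ hb
      exact if_neg fun e => hb (Subtype.ext e)
    · simp
  · rw [hsupp z hz]
    exact Finset.sum_eq_zero fun b _ => if_neg fun e : ((b : H) : G) = z => hz (e ▸ b.2)

open scoped Classical in
/-- The element of the group ring behind the local idempotents. -/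
theorem exists_compat_elem [Fact p.Prime] (h : Setup p M B P c) (k : ℕ) {y : G}
    (hy : ¬ p ∣ orderOf y) (hyC : y ∈ CG[P]) (f : ∀ R : Subgroup G, Set (Cfsg.IrrCharacter CG[R]))
    (hf : ∀ R, R ≤ P → Cfsg.SubpairLE p M R (f R) P c) :
    ∃ X : GA G h.hM k, X ∈ CS h.hM k P y ∧ IsIdempotentElem X ∧
      br h.hM k P X = bl h.hM P c ∧
      ∀ R, R ≤ P → br h.hM k R X * bl h.hM R (f R) = br h.hM k R X := by
  classical
  have hM := h.hM
  have hP := h.hmax.1.1.1
  have hc := h.hmax.1.1.2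
  have hyP : ∀ v ∈ P, y * v = v * y := fun v hv => (Subgroup.mem_centralizer_iff.1 hyC v hv).symm
  obtain ⟨X, hX, hgood⟩ := exists_points hM k hP hy hyP
  obtain ⟨F, hF⟩ : ∃ F, F = X.filter fun x => ∀ v ∈ P, cj (gU hM k v) x = x := ⟨_, rfl⟩
  have hFX : ∀ x ∈ F, x ∈ X := fun x hx => (Finset.mem_filter.1 (hF ▸ hx)).1
  have hFfix : ∀ x ∈ F, ∀ v ∈ P, cj (gU hM k v) x = x := fun x hx =>
    (Finset.mem_filter.1 (hF ▸ hx)).2
  have hFCS : ∀ x ∈ F, x ∈ CS hM k P y := fun x hx =>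
    (mem_CS_cj hM k).2 ⟨hFfix x hx, (mem_cen_iff_cj hM k).1 (hX.mem x (hFX x hx)).1 y rfl⟩
  have hblk : ∀ x ∈ F, ∃ g : Set (Cfsg.IrrCharacter CG[P]), Cfsg.IsPBlock M g ∧
      ∀ (Q : Subgroup G), Q ≤ P → ∀ b : Set (Cfsg.IrrCharacter CG[Q]),
        Cfsg.SubpairLE p M Q b P g → br hM k Q x * bl hM Q b = br hM k Q x := by
    intro x hx
    obtain ⟨hprim, hbr⟩ := hgood x (hFX x hx)
    have hst : stabU hM k P x = P :=
      le_antisymm (fun v hv => hv.1) fun v hv => ⟨hv, hFfix x hx v hv⟩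
    rw [hst] at hprim hbr
    exact exists_block_compat hM k hP hyP hprim hbr
  choose g hg hcompat using hblk
  obtain ⟨F', hF'⟩ : ∃ F', F' = F.filter fun x =>
      ∀ hx : x ∈ F, g x hx = c := ⟨_, rfl⟩
  have hsubP : ∀ R, R ≤ P → ∀ x ∈ F', br hM k R x * bl hM R (f R) = br hM k R x := by
    intro R hR x hx
    obtain ⟨hxF, hxc⟩ := Finset.mem_filter.1 (hF' ▸ hx)
    exact hcompat x hxF R hR (f R) (by rw [hxc hxF]; exact hf R hR)
  refine ⟨∑ x ∈ F', x, Subring.sum_mem _ fun x hx => hFCS x (Finset.mem_filter.1 (hF' ▸ hx)).1,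
    ?_, ?_, fun R hR => ?_⟩
  · show _ * _ = _
    rw [Finset.sum_mul]
    refine Finset.sum_congr rfl fun x hx => ?_
    have hxX := hFX x (Finset.mem_filter.1 (hF' ▸ hx)).1
    rw [Finset.mul_sum, Finset.sum_eq_single x
      (fun z hz hne => hX.orth x hxX z (hFX z (Finset.mem_filter.1 (hF' ▸ hz)).1) hne.symm)
      (fun hn => absurd hx hn)]
    exact (hX.mem x hxX).2.1.eq
  · have h1 : ∑ x ∈ F, br hM k P x = 1 := by
      rw [hF, ← br_sum_eq_fixed hM k hP X hX.stable, hX.sum, br_one]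
    have h2 := congrArg (· * bl hM P c) h1
    simp only [one_mul, Finset.sum_mul] at h2
    rw [br_sum, ← h2, hF', Finset.sum_filter]
    refine Finset.sum_congr rfl fun x hx => ?_
    have hgx := hcompat x hx P le_rfl (g x hx) Relation.ReflTransGen.refl
    by_cases hxc : g x hx = c
    · rw [if_pos fun _ => hxc]
      rw [hxc] at hgx
      exact hgx.symm
    · rw [if_neg fun hh => hxc (hh hx), ← hgx, mul_assoc, bl, bl,
        redFun_mul hM (memLocalRing_sbc hM (hg x hx)) (memLocalRing_sbc hM hc),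
        conv_sbc_disjoint (Set.disjoint_left.2 fun ξ h1' h2' =>
          hxc (BrauerPairs.eq_of_mem hM (hg x hx) hc h1' h2'))]
      symm
      refine alg_ext fun z => ?_
      rw [coeff_mul']
      refine Finset.sum_eq_zero fun a _ => ?_
      rw [coeff_redFun]
      rw [show (0 : G → ℂ) (a⁻¹ * z) = 0 from rfl,
        show resFun hM 0 = 0 from (residue hM).map_zero, mul_zero]
  · rw [br_sum, Finset.sum_mul]
    exact Finset.sum_congr rfl fun x hx => hsubP R hR x hx

/-- The data exist. -/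
theorem exists_data [Fact p.Prime] (h : Setup p M B P c) : Nonempty (Data h) := by
  have hM := h.hM
  haveI := hM.2.1
  have hP := h.hmax.1.1.1
  obtain ⟨k, hk⟩ := IsPGroup.iff_card.1 hP
  have hex : ∀ R : Subgroup G, ∃ f : Set (Cfsg.IrrCharacter CG[R]), ∃ φ : Cfsg.IrrCharacter CG[R],
      R ≤ P → Cfsg.SubpairLE p M R f P c ∧ φ ∈ f ∧
        Cfsg.blockHeight p f (φ : CG[R] → ℂ) = 0 := by
    intro R
    by_cases hR : R ≤ P
    · obtain ⟨f, hf⟩ := (existsUnique_subpairLE hM h.hmax.1.1 hR).exists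
      obtain ⟨φ, hφ, h0⟩ := BlockThms.exists_height_zero hM
        (isBrauerPair_of_subpairLE h.hmax.1.1 hf).2
      exact ⟨f, φ, fun _ => ⟨hf, hφ, h0⟩⟩
    · have hne : Nonempty (Cfsg.IrrCharacter CG[R]) := by
        haveI : Finite (ConjClasses CG[R]) := Quotient.finite _
        haveI : Nonempty (ConjClasses CG[R]) := ⟨ConjClasses.mk 1⟩
        refine (Nat.card_pos_iff.1 ?_).1
        rw [S0133.result]
        exact Nat.card_pos
      exact ⟨∅, hne.some, fun hh => absurd hh hR⟩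
  choose f φ hfφ using hex
  have hfP : f P = c := (existsUnique_subpairLE hM h.hmax.1.1 le_rfl).unique (hfφ P le_rfl).1
    Relation.ReflTransGen.refl
  obtain ⟨y₀, hy₀, hy₀u⟩ := exists_regular_unit hM
    (show Cfsg.IsPBlock M (f P) from hfP ▸ h.hmax.1.1.2) (hfφ P le_rfl).2.1 (hfφ P le_rfl).2.2
  have hy : ¬ p ∣ orderOf (y₀ : G) := by rwa [Subgroup.orderOf_coe]
  have hyC : (y₀ : G) ∈ CG[P] := y₀.2
  obtain ⟨X, hXmem, hXid, hXP, hXR⟩ :=
    exists_compat_elem h k hy hyC f fun R hR => (hfφ R hR).1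
  have hXfix := (mem_cen_iff hM k).1 hXmem
  -- restriction of coefficients
  obtain ⟨x₀, hx₀⟩ : ∃ x₀ : ∀ R : Subgroup G, GA CG[R] hM k,
      ∀ R, ∀ z : CG[R], (x₀ R).coeff z = X.coeff (z : G) :=
    ⟨fun R => ofFun fun z => X.coeff (z : G), fun R z => coeff_ofFun _ z⟩
  have hx₀cen : ∀ R, R ≤ P → x₀ R ∈ cen hM k (fixSet P R (y₀ : G)) := by
    intro R hR
    rw [mem_cen_iff]
    intro g hg z
    rw [hx₀, hx₀]
    refine hXfix (g : G) ?_ (z : G)
    rcases hg with hg | hg
    · exact Or.inl hg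
    · exact Or.inr hg
  have hmap : ∀ R, R ≤ P →
      MonoidAlgebra.mapDomainRingHom (Cfsg.AlgInt ⧸ M) CG[R].subtype (red hM k (x₀ R)) =
        br hM k R X := fun R hR =>
    mapDomain_restrict _ _ _ (fun z => by
      rw [coeff_red, hx₀, br, coeff_trunB_of_mem _ z.2, coeff_red])
      fun z hz => coeff_trunB_of_notMem _ hz
  have hblmap : ∀ R, R ≤ P →
      MonoidAlgebra.mapDomainRingHom (Cfsg.AlgInt ⧸ M) CG[R].subtype
        (redFun hM (Cfsg.blockCoeff (f R))) = bl hM R (f R) := fun R hR =>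
    mapDomain_restrict _ _ _ (fun z => by rw [coeff_redFun, bl, coeff_redFun, sbc_apply])
      fun z hz => coeff_bl_of_notMem hM _ hz
  have hinj : ∀ R : Subgroup G,
      Function.Injective (MonoidAlgebra.mapDomainRingHom (Cfsg.AlgInt ⧸ M) CG[R].subtype) := by
    intro R a b hab
    refine alg_ext fun z => ?_
    have h1 := congrArg (fun x : MonoidAlgebra (Cfsg.AlgInt ⧸ M) G => x.coeff (z : G)) hab
    simpa [MonoidAlgebra.mapDomainRingHom_apply, Finsupp.mapDomain_apply CG[R].subtype_injective]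
      using h1
  have hex' : ∀ R : Subgroup G, ∃ S : GA CG[R] hM k, R ≤ P →
      S ∈ cen hM k (fixSet P R (y₀ : G)) ∧ IsIdempotentElem S ∧
        red hM k S = red hM k (x₀ R) := by
    intro R
    by_cases hR : R ≤ P
    · have hid : IsIdempotentElem (red hM k (x₀ R)) := by
        refine hinj R ?_
        rw [map_mul, hmap R hR, ← br_mul hM k (hP.to_le hR) (S := (P : Set G) ∪ {(y₀ : G)})
          (fun q hq => Or.inl (hR hq)) hXmem hXmem, hXid.eq]
      obtain ⟨⟨S, hS⟩, hSid, hSe⟩ := exists_isIdempotentElem_eq_of_ker_isNilpotent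
        ((red hM k).comp (cen hM k (fixSet P R (y₀ : G))).subtype) (fun x hx => by
          obtain ⟨m, hm⟩ := isNilpotent_of_red hM k (x := (x : GA CG[R] hM k)) hx
          exact ⟨m, Subtype.ext hm⟩)
        (red hM k (x₀ R)) ⟨⟨_, hx₀cen R hR⟩, rfl⟩ hid
      exact ⟨S, fun _ => ⟨hS, congrArg Subtype.val hSid.eq, hSe⟩⟩
    · exact ⟨0, fun hh => absurd hh hR⟩
  choose S hS using hex'
  refine ⟨⟨k, hk, f, fun R hR => (hfφ R hR).1, φ, fun R hR => (hfφ R hR).2, (y₀ : G), hy, hyC, S,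
    fun R hR => (hS R hR).1, fun R hR => (hS R hR).2.1, fun U R hUR hR z hz hz' => ?_,
    fun R hR => ?_, ?_⟩⟩
  · rw [(hS U (hUR.trans hR)).2.2, (hS R hR).2.2, coeff_red, coeff_red, hx₀, hx₀]
  · refine hinj R ?_
    rw [map_mul, (hS R hR).2.2, hmap R hR, hblmap R hR, hXR R hR]
  · -- the residue at the top is `φ_P(y)`
    have hSP : red hM k (S P) = redFun hM (Cfsg.blockCoeff (f P)) := by
      refine hinj P ?_
      rw [(hS P le_rfl).2.2, hmap P le_rfl, hblmap P le_rfl, hXP, hfP]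
    intro hI
    refine hy₀u ?_
    have hel : elC P (y₀ : G) = y₀ := Subtype.ext (coe_elC hyC)
    rw [hel] at hI
    exact memLocalIdeal_of_trace hM k
      (show Cfsg.IsPBlock M (f P) from hfP ▸ h.hmax.1.1.2) (hfφ P le_rfl).2.1 y₀ hSP hI

end Cfsg.Agent.BlockChar.SignCoherence
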