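import Cfsg.Agent.BlockChar.SignCoherence.Signs

/-!
# The signs and the values are invariant under the stabilizer of the maximal pair
-/

set_option autoImplicit false

namespace Cfsg.Agent.BlockChar.SignCoherence

open Cfsg.Agent Cfsg.Agent.Blocks Cfsg.Agent.Blocks.Star Cfsg.Agent.BrauerPairs
open scoped ComplexConjugate

universe u

attribute [local instance] Ideal.Quotient.field Fintype.ofFinite

variable {G : Type u} [Group G] [Finite G] {p : ℕ} [Fact p.Prime] {M : Ideal Cfsg.AlgInt}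

local notation "CG[" Q "]" => Subgroup.centralizer ((Q : Subgroup G) : Set G)
local notation "sbc" => Cfsg.subgroupBlockCoeff

variable {B : Set (Cfsg.IrrCharacter G)} {P : Subgroup G}
  {c : Set (Cfsg.IrrCharacter (Subgroup.centralizer (P : Set G)))} {h : Setup p M B P c}

/-- Conjugation between centralizers. -/
def conjC (t : G) {R R' : Subgroup G} (hR : R' = R.map (MulAut.conj t).toMonoidHom) :
    CG[R] ≃* CG[R'] where
  toFun z := ⟨t * z * t⁻¹, Subgroup.mem_centralizer_iff.2 fun w hw => by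
    subst hR
    obtain ⟨r, hr, rfl⟩ := hw
    show t * r * t⁻¹ * (t * z * t⁻¹) = t * z * t⁻¹ * (t * r * t⁻¹)
    calc t * r * t⁻¹ * (t * z * t⁻¹) = t * (r * z) * t⁻¹ := by group
      _ = t * (z * r) * t⁻¹ := by rw [Subgroup.mem_centralizer_iff.1 z.2 r hr]
      _ = _ := by group⟩
  invFun z := ⟨t⁻¹ * z * t, Subgroup.mem_centralizer_iff.2 fun r hr => by
    subst hR
    have h1 : t * r * t⁻¹ * (z : G) = z * (t * r * t⁻¹) :=
      Subgroup.mem_centralizer_iff.1 z.2 _ ⟨r, hr, rfl⟩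
    calc r * (t⁻¹ * z * t) = t⁻¹ * (t * r * t⁻¹ * z) * t := by group
      _ = t⁻¹ * (z * (t * r * t⁻¹)) * t := by rw [h1]
      _ = _ := by group⟩
  left_inv z := Subtype.ext (by simp [mul_assoc])
  right_inv z := Subtype.ext (by simp [mul_assoc])
  map_mul' a b := Subtype.ext (by simp [mul_assoc])

omit [Finite G] in
theorem coe_conjC (t : G) {R R' : Subgroup G} (hR : R' = R.map (MulAut.conj t).toMonoidHom)
    (z : CG[R]) : (conjC t hR z : G) = t * z * t⁻¹ := rfl

theorem conj_mem {t : G} (hfix : BrauerPairs.conjPair (G := G) (t : G) ⟨P, c⟩ = ⟨P, c⟩) {a : G} (ha : a ∈ P) :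
    t * a * t⁻¹ ∈ P := by
  have himg : P.map (MulAut.conj t).toMonoidHom = P := congrArg Sigma.fst hfix
  rw [← himg]
  exact ⟨a, ha, rfl⟩

theorem map_conj_le {t : G} (hfix : BrauerPairs.conjPair (G := G) (t : G) ⟨P, c⟩ = ⟨P, c⟩) {R R' : Subgroup G}
    (hR' : R' = R.map (MulAut.conj t).toMonoidHom) (hR : R ≤ P) : R' ≤ P := by
  have himg : P.map (MulAut.conj t).toMonoidHom = P := congrArg Sigma.fst hfix
  rw [hR', ← himg]
  exact Subgroup.map_mono hR

variable (D : Data h) {t : G} (hfix : BrauerPairs.conjPair t ⟨P, c⟩ = ⟨P, c⟩)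
include hfix

/-- The local blocks are permuted. -/
theorem sbc_f_conj {R R' : Subgroup G} (hR : R ≤ P)
    (hR' : R' = R.map (MulAut.conj t).toMonoidHom) (z : G) :
    sbc CG[R'] (D.f R') z = sbc CG[R] (D.f R) (t⁻¹ * z * t) := by
  subst hR'
  have h1 := le_conjPair h.hM (a := ⟨R, D.f R⟩) (b := ⟨P, c⟩) (D.hf R hR) t
  rw [hfix] at h1
  have h2 := D.f_unique (map_conj_le hfix rfl hR) h1
  rw [← sbc_conjPair t ⟨R, D.f R⟩ z, ← h2]
  rfl

omit hfix in
theorem eF_eq_sbc {U : Subgroup G} {a : G} (z : CG[U]) :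
    eF D U a z = sbc CG[U ⊔ Subgroup.zpowers a] (D.f (U ⊔ Subgroup.zpowers a)) (z : G) := by
  by_cases hz : (z : G) ∈ CG[U ⊔ Subgroup.zpowers a]
  · rw [sbc_of_mem _ hz, eF, extFun]
    conv_lhs => rw [show z = incC (le_sup_left : U ≤ U ⊔ Subgroup.zpowers a) ⟨(z : G), hz⟩
      from rfl, (incC_injective _).extend_apply]
  · rw [sbc_of_notMem _ hz, eF, extFun,
      Function.extend_apply' _ _ _ fun ⟨w, hw⟩ => hz (hw ▸ w.2), Pi.zero_apply]

omit hfix [Finite G] [Fact p.Prime] in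
theorem map_sup_zpowers (t : G) {U V : Subgroup G} (hV : V = U.map (MulAut.conj t).toMonoidHom)
    (a : G) : V ⊔ Subgroup.zpowers (t * a * t⁻¹) =
      (U ⊔ Subgroup.zpowers a).map (MulAut.conj t).toMonoidHom := by
  rw [Subgroup.map_sup, MonoidHom.map_zpowers, ← hV]
  rfl

theorem eF_conj {U V : Subgroup G} (hU : U ≤ P) (hV : V = U.map (MulAut.conj t).toMonoidHom)
    {a : G} (ha : a ∈ P) (z : CG[U]) :
    eF D V (t * a * t⁻¹) (conjC t hV z) = eF D U a z := by
  rw [eF_eq_sbc, eF_eq_sbc,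
    sbc_f_conj D hfix (sup_zpowers_le hU ha) (map_sup_zpowers t hV a), coe_conjC]
  congr 1
  group

theorem phi_one_conj {U V : Subgroup G} (hU : U ≤ P)
    (hV : V = U.map (MulAut.conj t).toMonoidHom) {a : G} (ha : a ∈ P) (haU : a ∉ U) :
    (D.φ (V ⊔ Subgroup.zpowers (t * a * t⁻¹)) :
        CG[V ⊔ Subgroup.zpowers (t * a * t⁻¹)] → ℂ) 1 =
      (D.φ (U ⊔ Subgroup.zpowers a) : CG[U ⊔ Subgroup.zpowers a] → ℂ) 1 := by
  have haV : t * a * t⁻¹ ∉ V := by
    rw [hV]
    rintro ⟨r, hr, hra⟩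
    exact haU ((MulAut.conj t).injective hra ▸ hr)
  have h1 := eF_conj D hfix hU hV ha 1
  rw [map_one, eF_one D (map_conj_le hfix hV hU) (conj_mem hfix ha) haV, eF_one D hU ha haU,
    ← Nat.card_congr (conjC t (map_sup_zpowers t hV a)).toEquiv] at h1
  have hC : (Nat.card CG[U ⊔ Subgroup.zpowers a] : ℂ)⁻¹ ≠ 0 :=
    inv_ne_zero (Nat.cast_ne_zero.2 Nat.card_pos.ne')
  have hP : (Nat.card P : ℂ) ≠ 0 := Nat.cast_ne_zero.2 Nat.card_pos.ne'
  have h2 := mul_left_cancel₀ hP (mul_left_cancel₀ hC h1)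
  obtain ⟨d, -, hd⟩ := Char.IsIrr.degree (D.φ (V ⊔ Subgroup.zpowers (t * a * t⁻¹))).2
  obtain ⟨d', -, hd'⟩ := Char.IsIrr.degree (D.φ (U ⊔ Subgroup.zpowers a)).2
  rw [hd, hd'] at h2 ⊢
  have h3 : d ^ 2 = d' ^ 2 := by exact_mod_cast h2
  rw [Nat.pow_left_injective two_ne_zero h3]

/-- The values are transported. -/
theorem sval_conj {U V : Subgroup G} (hU : U ≤ P) (hV : V = U.map (MulAut.conj t).toMonoidHom)
    {a : G} (ha : a ∈ P) (haU : a ∉ U) {θ : Cfsg.IrrCharacter CG[U]}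
    {θ' : Cfsg.IrrCharacter CG[V]}
    (hθ : ∀ z, (θ' : CG[V] → ℂ) (conjC t hV z) = (θ : CG[U] → ℂ) z) :
    sval D V θ' (t * a * t⁻¹) = sval D U θ a := by
  have haV : t * a * t⁻¹ ∉ V := by
    rw [hV]
    rintro ⟨r, hr, hra⟩
    exact haU ((MulAut.conj t).injective hra ▸ hr)
  have hVP := map_conj_le hfix hV hU
  have hta := conj_mem hfix ha
  have hs : sect (θ' : CG[V] → ℂ) (elC V (t * a * t⁻¹)) (eF D V (t * a * t⁻¹)) 1 =
      sect (θ : CG[U] → ℂ) (elC U a) (eF D U a) 1 := by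
    rw [sect, sect]
    refine (Fintype.sum_equiv (conjC t hV).toEquiv _ _ fun z => ?_).symm
    rw [MulEquiv.toEquiv_eq_coe, EquivLike.coe_coe, eF_conj D hfix hU hV ha,
      show elC V (t * a * t⁻¹) = conjC t hV (elC U a) from Subtype.ext (by
        rw [coe_conjC, coe_elC (h.mem_CG hVP hta), coe_elC (h.mem_CG hU ha)]),
      mul_one, mul_one, ← map_mul, hθ]
  rw [sect_eF_one D hVP hta haV, sect_eF_one D hU ha haU, phi_one_conj D hfix hU hV ha haU] at hs
  exact mul_right_cancel₀ (phi_one_ne_zero D _) hs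

/-- The conjugate of a character of a local block. -/
theorem exists_conj_char {U V : Subgroup G} (hU : U ≤ P)
    (hV : V = U.map (MulAut.conj t).toMonoidHom) {θ : Cfsg.IrrCharacter CG[U]} (hθ : θ ∈ D.f U) :
    ∃ θ' ∈ D.f V, ∀ z, (θ' : CG[V] → ℂ) (conjC t hV z) = (θ : CG[U] → ℂ) z := by
  have hmap : mapBlock (conjC t hV) (D.f U) = D.f V := by
    refine BrauerPairs.blockCoeff_injective (funext fun w => ?_)
    obtain ⟨z, rfl⟩ := (conjC t hV).surjective w
    rw [blockCoeff_mapBlock, ← sbc_apply (D.f V), sbc_f_conj D hfix hU hV, coe_conjC,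
      show t⁻¹ * (t * (z : G) * t⁻¹) * t = (z : G) by group, sbc_apply]
  refine ⟨compIrr (conjC t hV).symm θ, ?_, fun z => by
    rw [compIrr_apply, MulEquiv.symm_apply_apply]⟩
  rw [← hmap]
  show compIrr (conjC t hV) (compIrr (conjC t hV).symm θ) ∈ D.f U
  convert hθ using 1
  exact Subtype.ext (funext fun z => by rw [compIrr_apply, compIrr_apply, MulEquiv.symm_apply_apply])

/-- The signs are invariant. -/
theorem eps_conj {ε : Subgroup P → ℤ} (hε : ∀ U, U ≠ ⊥ → Good D ε U) :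
    ∀ U : Subgroup P, U ≠ ⊥ → ∀ V : Subgroup P,
      up V = (up U).map (MulAut.conj t).toMonoidHom → ε V = ε U := by
  letI := h.commGroup
  intro U
  induction U using WellFoundedGT.induction with
  | _ U ih =>
  intro hU1 V hUV
  have hV1 : V ≠ ⊥ := fun e => up_ne_bot hU1 (by
    rw [e, up_bot, eq_comm] at hUV
    exact (Subgroup.map_eq_bot_iff_of_injective _ (MulAut.conj t).injective).1 hUV)
  have hcard : Nat.card V = Nat.card U := by
    have e1 : Nat.card V = Nat.card (up V) :=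
      Nat.card_congr (V.equivMapOfInjective _ P.subtype_injective).toEquiv
    have e2 : Nat.card U = Nat.card (up U) :=
      Nat.card_congr (U.equivMapOfInjective _ P.subtype_injective).toEquiv
    rw [e1, hUV, e2]
    exact Subgroup.card_map_of_injective (MulAut.conj t).injective
  have hidx : V.index = U.index := by
    have h1 := V.card_mul_index
    rw [hcard] at h1
    exact Nat.eq_of_mul_eq_mul_left Nat.card_pos (h1.trans U.card_mul_index.symm)
  by_cases h2 : U.index ≤ 2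
  · rw [(hε U hU1).2.1 h2, (hε V hV1).2.1 (hidx ▸ h2)]
  let σ : P →* P :=
    { toFun := fun a => ⟨t * a * t⁻¹, conj_mem hfix a.2⟩
      map_one' := Subtype.ext (by simp)
      map_mul' := fun a b => Subtype.ext (by simp [mul_assoc]) }
  have hσ : ∀ a : P, σ a ∈ V → a ∈ U := fun a ha => by
    have h1 := (mem_up V _).2 ha
    rw [hUV] at h1
    obtain ⟨r, hr, hra⟩ := h1
    exact (mem_up U a).1 ((MulAut.conj t).injective hra ▸ hr)
  obtain ⟨θ', hθ', hθe⟩ := exists_conj_char D hfix (up_le U) hUV (D.hφ _ (up_le U)).1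
  obtain ⟨μ, hμ⟩ := (hε U hU1).2.2.2.2 _ (D.hφ _ (up_le U)).1
  obtain ⟨μ', hμ'⟩ := (hε V hV1).2.2.2.2 θ' hθ'
  refine (sign_unique U (by omega) (μ := μ) (ν := μ'.comp σ) (hε U hU1).1 (hε V hV1).1
    fun a ha => ?_).symm
  have hlt : U < U ⊔ Subgroup.zpowers a :=
    left_lt_sup.2 fun h' => ha (h' (Subgroup.mem_zpowers a))
  have hR : up (V ⊔ Subgroup.zpowers (σ a)) =
      (up (U ⊔ Subgroup.zpowers a)).map (MulAut.conj t).toMonoidHom := by
    rw [up_sup_zpowers, up_sup_zpowers]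
    exact map_sup_zpowers t hUV a
  rw [MonoidHom.comp_apply, ← hμ a ha, ← hμ' (σ a) (fun h' => ha (hσ a h')),
    ih _ hlt (fun e => hU1 (le_bot_iff.1 (e ▸ hlt.le))) _ hR,
    show ((σ a : P) : G) = t * a * t⁻¹ from rfl,
    sval_conj D hfix (up_le U) hUV a.2 (fun h' => ha ((mem_up U a).1 h')) hθe]

end Cfsg.Agent.BlockChar.SignCoherence
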