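import Cfsg.Agent.BlockChar.SignCoherence.Data

/-!
# The local blocks of rank one and the values on their subsections
-/

set_option autoImplicit false

namespace Cfsg.Agent.BlockChar.SignCoherence

open Cfsg.Agent Cfsg.Agent.Blocks Cfsg.Agent.Blocks.Star Cfsg.Agent.BrauerPairs
open scoped ComplexConjugate

universe u

attribute [local instance] Ideal.Quotient.field Fintype.ofFinite

variable {G : Type u} [Group G] [Finite G] {p : ℕ} [Fact p.Prime] {M : Ideal Cfsg.AlgInt}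

local notation "CG[" Q "]" => Subgroup.centralizer ((Q : Subgroup G) : Set G)

variable {B : Set (Cfsg.IrrCharacter G)} {P : Subgroup G}
  {c : Set (Cfsg.IrrCharacter (Subgroup.centralizer (P : Set G)))} {h : Setup p M B P c}

theorem Data.isBlock (D : Data h) {R : Subgroup G} (hR : R ≤ P) : Cfsg.IsPBlock M (D.f R) :=
  (isBrauerPair_of_subpairLE h.hmax.1.1 (D.hf R hR)).2

theorem Data.y_mem (D : Data h) {R : Subgroup G} (hR : R ≤ P) : D.y ∈ CG[R] :=
  mem_CG_of_mem_CG hR D.hyC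

theorem Data.f_unique (D : Data h) {R : Subgroup G} (hR : R ≤ P)
    {b : Set (Cfsg.IrrCharacter CG[R])} (hb : Cfsg.SubpairLE p M R b P c) : b = D.f R :=
  (existsUnique_subpairLE h.hM h.hmax.1.1 hR).unique hb (D.hf R hR)

theorem Data.f_top (D : Data h) : D.f P = c :=
  (D.f_unique le_rfl Relation.ReflTransGen.refl).symm

theorem Data.maximal (D : Data h) {R : Subgroup G} (hR : R ≤ P) :
    Cfsg.IsMaximalBrauerPair p M (D.f R) (P.subgroupOf CG[R])
      (resBlock (h.le_CG hR) (BrauerPairs.centralizer_mono hR) c) :=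
  BlockChar.Cyclic.maximal_local h.hM h.hmax (normal_of_le h.hM h.hmax h.hab (D.hf R hR)) _ _

omit [Finite G] [Fact p.Prime] in
theorem elC_mem_center {R : Subgroup G} (_h : Setup p M B P c) {a : G} (ha : a ∈ R) (hR : R ≤ P) :
    elC R a ∈ Subgroup.center CG[R] := by
  rw [Subgroup.mem_center_iff]
  intro g
  refine Subtype.ext ?_
  have haC : a ∈ CG[R] := _h.mem_CG hR (hR ha)
  rw [Subgroup.coe_mul, Subgroup.coe_mul, coe_elC haC]
  exact (Subgroup.mem_centralizer_iff.1 g.2 a ha).symm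

theorem twist_equiv (D : Data h) {R : Subgroup G} (hR : R ≤ P) (hR1 : R ≠ ⊥) :
    ∃ Θ : Cfsg.IrrCharacter (P.subgroupOf CG[R]) ≃ D.f R, ∀ η (y : CG[R]), ¬ p ∣ orderOf y →
      ((Θ η : Cfsg.IrrCharacter CG[R]) : CG[R] → ℂ) y = (D.φ R : CG[R] → ℂ) y := by
  obtain ⟨Θ, hΘ⟩ := exists_twist_equiv h.hM (D.maximal hR) (h.hnil R hR hR1 _ (D.hf R hR))
    (D.hφ R hR).1 (D.hφ R hR).2
  refine ⟨Θ, fun η y hy => ?_⟩
  rw [hΘ η y hy, (BlockChar.Cyclic.irr_mul_of_comm
    (fun a ha b hb => Subtype.ext (h.hab _ ha _ hb)) η).1, one_mul]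

theorem Data.regular_eq (D : Data h) {R : Subgroup G} (hR : R ≤ P) (hR1 : R ≠ ⊥)
    {η : Cfsg.IrrCharacter CG[R]} (hη : η ∈ D.f R) {y : CG[R]} (hy : ¬ p ∣ orderOf y) :
    (η : CG[R] → ℂ) y = (D.φ R : CG[R] → ℂ) y := by
  obtain ⟨Θ, hΘ⟩ := twist_equiv D hR hR1
  obtain ⟨μ, hμ⟩ := Θ.surjective ⟨η, hη⟩
  have h1 := hΘ μ y hy
  rwa [hμ] at h1

theorem Data.card_f (D : Data h) {R : Subgroup G} (hR : R ≤ P) (hR1 : R ≠ ⊥) :
    Nat.card (D.f R) = Nat.card P := by
  obtain ⟨Θ, -⟩ := twist_equiv D hR hR1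
  obtain ⟨Q, hQ⟩ : ∃ Q, Q = P.subgroupOf CG[R] := ⟨_, rfl⟩
  rw [← Nat.card_congr Θ, S0133.result, ← hQ]
  have hQP : Nat.card Q = Nat.card P :=
    hQ ▸ Nat.card_congr (Subgroup.subgroupOfEquivOfLe (h.le_CG hR)).toEquiv
  rw [← hQP]
  letI : CommMonoid Q :=
    { (inferInstance : Monoid Q) with
      mul_comm := fun a b => Subtype.ext (Subtype.ext (h.hab _
        (show ((a : CG[R]) : G) ∈ P from (hQ ▸ a.2 : (a : CG[R]) ∈ P.subgroupOf CG[R])) _
        (show ((b : CG[R]) : G) ∈ P from (hQ ▸ b.2 : (b : CG[R]) ∈ P.subgroupOf CG[R])))) }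
  exact (Nat.card_congr ConjClasses.mkEquiv).symm

/-- Absolute value one of the scalar of a central element. -/
theorem scal_mul_conj {H : Type u} [Group H] [Fintype H] (η : Cfsg.IrrCharacter H) {u : H}
    (hu : u ∈ Subgroup.center H) : scal η u * conj (scal η u) = 1 := by
  have h1 : ‖scal η u‖ = 1 := Complex.norm_eq_one_of_pow_eq_one (n := orderOf u)
    (by rw [← scal_pow η hu, pow_orderOf_eq_one, scal_one]) (orderOf_pos u).ne'
  rw [Complex.mul_conj, Complex.normSq_eq_norm_sq, h1]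
  simp

/-- A central element below multiplies the values on a subsection. -/
theorem secVal_central_mul {K H : Type u} [Group K] [Group H] [Fintype K] [Fintype H]
    {ι : H →* K} (b : Set (Cfsg.IrrCharacter H)) (θ : Cfsg.IrrCharacter K) {u : H}
    (hu : u ∈ Subgroup.center H) (huK : ι u ∈ Subgroup.center K) (v : H) :
    secVal ι b θ (u * v) = scal θ (ι u) * secVal ι b θ v := by
  rw [secVal, secVal, Finset.mul_sum]
  refine Finset.sum_congr rfl fun η _ => ?_
  rw [scal_mul_mul η hu]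
  have key : rmult ι θ η = scal θ (ι u) * conj (scal η u) * rmult ι θ η := by
    have hsum : ∑ g : H, (θ : K → ℂ) (ι g) * conj ((η : H → ℂ) g) =
        scal θ (ι u) * conj (scal η u) * ∑ g : H, (θ : K → ℂ) (ι g) * conj ((η : H → ℂ) g) := by
      rw [Finset.mul_sum]
      refine (Fintype.sum_equiv (Equiv.mulLeft u) _ _ fun g => ?_).symm
      rw [Equiv.coe_mulLeft, map_mul, scal_mul θ huK, scal_mul η hu, map_mul]
      ring
    simp only [rmult, Cfsg.classInner]
    rw [mul_left_comm, ← hsum]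
  have hn := scal_mul_conj η hu
  linear_combination (scal η u * scal η v) * key + (scal θ (ι u) * rmult ι θ η * scal η v) * hn

/-- Equal residues differ by a multiple of the modulus. -/
theorem memLocalRing_div_of_toR_eq (hM : Cfsg.IsPModular p M) (k : ℕ) {x y : ℂ}
    (hx : Cfsg.MemLocalRing M x) (hy : Cfsg.MemLocalRing M y)
    (hxy : toR hM k x = toR hM k y) : Cfsg.MemLocalRing M ((x - y) / ((p ^ k : ℕ) : ℂ)) := by
  rw [toR_of_mem hM k hx, toR_of_mem hM k hy, Ideal.Quotient.eq,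
    Ideal.mem_span_singleton] at hxy
  obtain ⟨t, ht⟩ := hxy
  have hp0 : (p : ℂ) ≠ 0 := Nat.cast_ne_zero.2 hM.1.ne_zero
  have e : x - y = (p : ℂ) ^ (k + 1) * (t : ℂ) := by
    have h1 := congrArg (fun z : localRing hM => (z : ℂ)) ht
    simpa using h1
  have e' : (x - y) / ((p ^ k : ℕ) : ℂ) = (p : ℂ) * (t : ℂ) := by
    rw [e, Nat.cast_pow]
    field_simp
    ring
  rw [e']
  exact (localRing hM).mul_mem (memLocalRing_natCast hM p) t.2

/-- The inclusion of centralizers. -/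
noncomputable def incC {U R : Subgroup G} (hUR : U ≤ R) : CG[R] →* CG[U] :=
  Subgroup.inclusion (BrauerPairs.centralizer_mono hUR)

omit [Finite G] in
theorem incC_injective {U R : Subgroup G} (hUR : U ≤ R) : Function.Injective (incC hUR) :=
  Subgroup.inclusion_injective _

omit [Finite G] in
theorem coe_incC {U R : Subgroup G} (hUR : U ≤ R) (z : CG[R]) : (incC hUR z : G) = z := rfl

omit [Finite G] in
theorem incC_elC {U R : Subgroup G} (hUR : U ≤ R) {a : G} (ha : a ∈ CG[R]) :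
    incC hUR (elC R a) = elC U a :=
  Subtype.ext (by rw [coe_incC, coe_elC ha, coe_elC (mem_CG_of_mem_CG hUR ha)])

omit [Finite G] in
theorem elC_mul {R : Subgroup G} {a b : G} (ha : a ∈ CG[R]) (hb : b ∈ CG[R]) :
    elC R (a * b) = elC R a * elC R b :=
  Subtype.ext (by rw [Subgroup.coe_mul, coe_elC (mul_mem ha hb), coe_elC ha, coe_elC hb])

/-- The value of `θ` on the subsection `(a, f_R)`, for `R` generated by `U` and `a`. -/
noncomputable def sval (D : Data h) (U : Subgroup G) (θ : Cfsg.IrrCharacter CG[U]) (a : G) : ℂ :=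
  secVal (incC (U := U) (R := U ⊔ Subgroup.zpowers a) le_sup_left)
    (D.f (U ⊔ Subgroup.zpowers a)) θ (elC (U ⊔ Subgroup.zpowers a) a)

theorem sval_eq_of_eq (D : Data h) {U R : Subgroup G} (hUR : U ≤ R) (θ : Cfsg.IrrCharacter CG[U])
    (a : G) (hR : U ⊔ Subgroup.zpowers a = R) :
    sval D U θ a = secVal (incC hUR) (D.f R) θ (elC R a) := by
  subst hR
  rfl

omit [Finite G] [Fact p.Prime] in
theorem sup_zpowers_le {U : Subgroup G} (hU : U ≤ P) {a : G} (ha : a ∈ P) :
    U ⊔ Subgroup.zpowers a ≤ P :=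
  sup_le hU (Subgroup.zpowers_le.2 ha)

omit [Finite G] [Fact p.Prime] in
theorem sup_zpowers_ne_bot {U : Subgroup G} {a : G} (ha : a ∉ U) :
    U ⊔ Subgroup.zpowers a ≠ ⊥ := fun e => by
  obtain ⟨hU, h1⟩ := sup_eq_bot_iff.1 e
  exact ha (by rw [Subgroup.zpowers_eq_bot.1 h1]; exact one_mem _)

omit [Finite G] [Fact p.Prime] in
theorem sup_zpowers_mul {U : Subgroup G} {u : G} (hu : u ∈ U) (a : G) :
    U ⊔ Subgroup.zpowers (u * a) = U ⊔ Subgroup.zpowers a := by
  refine le_antisymm (sup_le le_sup_left ?_) (sup_le le_sup_left ?_)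
  · exact Subgroup.zpowers_le.2 (mul_mem (Subgroup.mem_sup_left hu)
      (Subgroup.mem_sup_right (Subgroup.mem_zpowers a)))
  · refine Subgroup.zpowers_le.2 ?_
    have h1 : u⁻¹ * (u * a) ∈ U ⊔ Subgroup.zpowers (u * a) :=
      mul_mem (Subgroup.mem_sup_left (inv_mem hu)) (Subgroup.mem_sup_right (Subgroup.mem_zpowers _))
    rwa [inv_mul_cancel_left] at h1

theorem isIntegral_sval (D : Data h) {U : Subgroup G} (hU : U ≤ P)
    (θ : Cfsg.IrrCharacter CG[U]) {a : G} (ha : a ∈ P) : IsIntegral ℤ (sval D U θ a) :=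
  isIntegral_secVal _ _ θ (elC_mem_center h (Subgroup.mem_sup_right (Subgroup.mem_zpowers a))
    (sup_zpowers_le hU ha))

theorem sval_mul (D : Data h) {U : Subgroup G} (hU : U ≤ P) (θ : Cfsg.IrrCharacter CG[U]) {u a : G}
    (hu : u ∈ U) (ha : a ∈ P) :
    sval D U θ (u * a) = scal θ (elC U u) * sval D U θ a := by
  have hR := sup_zpowers_le (P := P) hU ha
  have huR : u ∈ U ⊔ Subgroup.zpowers a := Subgroup.mem_sup_left hu
  rw [sval_eq_of_eq D le_sup_left θ (u * a) (sup_zpowers_mul hu a),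
    elC_mul (h.mem_CG hR (hU hu)) (h.mem_CG hR ha),
    secVal_central_mul _ _ (elC_mem_center h huR hR), incC_elC _ (h.mem_CG hR (hU hu))]
  · rfl
  · rw [incC_elC _ (h.mem_CG hR (hU hu))]
    exact elC_mem_center h hu hU

end Cfsg.Agent.BlockChar.SignCoherence
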