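import Cfsg.Agent.BlockChar.SignCoherence.Trace
import Cfsg.Agent.BlockChar.SignCoherence.Column
import Cfsg.Agent.Blocks.Star.Nilpotent
import Cfsg.Agent.Blocks.Star.AlgInt

/-!
# The values on the subsections have absolute value one in the local blocks
-/

set_option autoImplicit false

namespace Cfsg.Agent.BlockChar.SignCoherence

open Cfsg.Agent Cfsg.Agent.Blocks Cfsg.Agent.Blocks.Star Cfsg.Agent.BrauerPairs
open scoped ComplexConjugate

universe u

attribute [local instance] Ideal.Quotient.field Fintype.ofFinite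

variable {G : Type u} [Group G] [Finite G] {p : ℕ} [Fact p.Prime] {M : Ideal Cfsg.AlgInt}

local notation "CG[" Q "]" => Subgroup.centralizer ((Q : Subgroup G) : Set G)

variable {B : Set (Cfsg.IrrCharacter G)} {P : Subgroup G}
  {c : Set (Cfsg.IrrCharacter (Subgroup.centralizer (P : Set G)))} {h : Setup p M B P c}

/-- The idempotent of `f_R` in the centralizer of `U`, for `R` generated by `U` and `a`. -/
noncomputable def eF (D : Data h) (U : Subgroup G) (a : G) : CG[U] → ℂ :=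
  extFun (incC (U := U) (R := U ⊔ Subgroup.zpowers a) le_sup_left)
    (D.f (U ⊔ Subgroup.zpowers a))

theorem exists_orderOf_elC (h : Setup p M B P c) {U : Subgroup G} (hU : U ≤ P) {a : G} (ha : a ∈ P) :
    ∃ k, orderOf (elC U a) = p ^ k := by
  obtain ⟨i, hi⟩ := IsPGroup.iff_orderOf.1 h.hmax.1.1.1 ⟨a, ha⟩
  exact ⟨i, by rw [← Subgroup.orderOf_coe, coe_elC (h.mem_CG hU ha),
    show a = ((⟨a, ha⟩ : P) : G) from rfl, Subgroup.orderOf_coe, hi]⟩

omit [Finite G] [Fact p.Prime] in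
theorem mem_range_incC (h : Setup p M B P c) {U : Subgroup G} (hU : U ≤ P) {a : G} (ha : a ∈ P)
    (z : CG[U]) :
    z ∈ Subgroup.centralizer ((Subgroup.zpowers (elC U a) : Subgroup CG[U]) : Set CG[U]) ↔
      (z : G) ∈ CG[U ⊔ Subgroup.zpowers a] := by
  rw [mem_zpowers_centralizer]
  constructor
  · intro hz
    have h1 := congrArg (fun w : CG[U] => (w : G)) hz
    simp only [Subgroup.coe_mul, coe_elC (h.mem_CG hU ha)] at h1
    have hle : U ⊔ Subgroup.zpowers a ≤ Subgroup.centralizer {(z : G)} :=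
      sup_le (fun u hu => Subgroup.mem_centralizer_singleton_iff.2
          (Subgroup.mem_centralizer_iff.1 z.2 u hu))
        (Subgroup.zpowers_le.2 (Subgroup.mem_centralizer_singleton_iff.2 h1))
    exact Subgroup.mem_centralizer_iff.2 fun u hu =>
      Subgroup.mem_centralizer_singleton_iff.1 (hle hu)
  · intro hz
    refine Subtype.ext ?_
    simp only [Subgroup.coe_mul, coe_elC (h.mem_CG hU ha)]
    exact Subgroup.mem_centralizer_iff.1 hz a (Subgroup.mem_sup_right (Subgroup.mem_zpowers a))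

/-- The idempotent is that of a block of the centralizer of `a`, paired with `f_U`. -/
theorem exists_pair (D : Data h) {U : Subgroup G} (hU : U ≤ P) {a : G} (ha : a ∈ P) :
    ∃ b : Set (Cfsg.IrrCharacter (Subgroup.centralizer
        ((Subgroup.zpowers (elC U a) : Subgroup CG[U]) : Set CG[U]))),
      Cfsg.IsPBlock M b ∧ Cfsg.subgroupBlockCoeff _ b = eF D U a ∧
      Cfsg.IsBrauerPairOf p M (D.f U) (Subgroup.zpowers (elC U a)) b ∧
      Cfsg.SubpairLE p M (Subgroup.zpowers (elC U a)) b (P.subgroupOf CG[U])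
        (resBlock (h.le_CG hU) (BrauerPairs.centralizer_mono hU) c) := by
  have hM := h.hM
  have hR := sup_zpowers_le (P := P) hU ha
  let φ : CG[U ⊔ Subgroup.zpowers a] ≃*
      Subgroup.centralizer ((Subgroup.zpowers (elC U a) : Subgroup CG[U]) : Set CG[U]) :=
    { toFun := fun z => ⟨incC le_sup_left z, (mem_range_incC h hU ha _).2 z.2⟩
      invFun := fun z => ⟨((z : CG[U]) : G), (mem_range_incC h hU ha _).1 z.2⟩
      left_inv := fun z => rfl
      right_inv := fun z => rfl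
      map_mul' := fun _ _ => rfl }
  obtain ⟨b, hb⟩ : ∃ b, b = mapBlock φ (D.f (U ⊔ Subgroup.zpowers a)) := ⟨_, rfl⟩
  have hbB : Cfsg.IsPBlock M b := hb ▸ isPBlock_mapBlock φ (D.isBlock hR)
  have hsbc : Cfsg.subgroupBlockCoeff _ b = eF D U a := by
    funext z
    by_cases hz : z ∈ Subgroup.centralizer
      ((Subgroup.zpowers (elC U a) : Subgroup CG[U]) : Set CG[U])
    · obtain ⟨w, hw⟩ := φ.surjective ⟨z, hz⟩
      rw [sbc_of_mem b hz, ← hw, hb, blockCoeff_mapBlock]
      rw [show z = incC le_sup_left w from congrArg Subtype.val hw.symm, eF, extFun,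
        (incC_injective _).extend_apply]
    · rw [sbc_of_notMem b hz, eF, extFun, Function.extend_apply' _ _ _ fun ⟨w, hw⟩ =>
        hz ((mem_range_incC h hU ha z).2 (hw ▸ w.2)), Pi.zero_apply]
  have hle : Cfsg.SubpairLE p M (Subgroup.zpowers (elC U a)) b (P.subgroupOf CG[U])
      (resBlock (h.le_CG hU) (BrauerPairs.centralizer_mono hU) c) := by
    refine subpairLE_of_omega hM (D.maximal hU) (fun x hx z hz => Subtype.ext (h.hab _ hx _ hz))
      (Subgroup.zpowers_le.2 (Subgroup.mem_subgroupOf.2 (by rwa [coe_elC (h.mem_CG hU ha)])))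
      hbB fun ξ hξ => ?_
    have hn := (normal_of_le hM h.hmax h.hab (D.hf _ hR)).2.2.2.2.2
    have h1 := hn (compIrr (centIso (h.le_CG hU) (BrauerPairs.centralizer_mono hU)).symm ξ) hξ
    rw [← brauerOmega_res (h.le_CG hU) (BrauerPairs.centralizer_mono hU)] at h1
    refine (congrArg (fun β => Cfsg.MemLocalIdeal M (β - 1)) ?_).mp h1
    congr 1
    · funext t
      rw [hsbc]
      by_cases ht : (t : G) ∈ CG[U ⊔ Subgroup.zpowers a]
      · rw [sbc_of_mem _ ht, eF, extFun]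
        conv_rhs => rw [show t = incC (le_sup_left : U ≤ U ⊔ Subgroup.zpowers a) ⟨(t : G), ht⟩
          from rfl, (incC_injective _).extend_apply]
      · rw [sbc_of_notMem _ ht, eF, extFun,
          Function.extend_apply' _ _ _ fun ⟨w, hw⟩ => ht (hw ▸ w.2), Pi.zero_apply]
  exact ⟨b, hbB, hsbc, (isBrauerPairOf_iff_of_subpairLE hM hle (D.f U)).1 (D.maximal hU).1, hle⟩

theorem eF_mem_Bk (D : Data h) {U : Subgroup G} (hU : U ≤ P) {a : G} (ha : a ∈ P) :
    eF D U a ∈ Bk M (elC U a) := by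
  obtain ⟨b, hb, hsbc, -⟩ := exists_pair D hU ha
  exact hsbc ▸ mem_Bk.2 ⟨b, hb, rfl⟩

/-- Characters outside the block do not meet the subsection. -/
theorem sect_eF_eq_zero (D : Data h) {U : Subgroup G} (hU : U ≤ P) {a : G} (ha : a ∈ P)
    {θ : Cfsg.IrrCharacter CG[U]} (hθ : θ ∉ D.f U) {y : CG[U]}
    (hy : y ∈ regC p (elC U a)) : sect (θ : CG[U] → ℂ) (elC U a) (eF D U a) y = 0 := by
  have hM := h.hM
  obtain ⟨b, hb, hsbc, hpair, -⟩ := exists_pair D hU ha
  rw [← hsbc]
  rcases eq_or_ne (sect (θ : CG[U] → ℂ) (elC U a) (Cfsg.subgroupBlockCoeff _ b) y) 0 with h0 | hne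
  · exact h0
  exfalso
  have h1 := pair_of_sect_ne_zero hM (isPBlock_blockOf θ) (mem_blockOf_self hM θ)
    (exists_orderOf_elC h hU ha) hb hy hne
  exact hθ (block_unique hM h1 hpair ▸ mem_blockOf_self hM θ)

/-- The sections are the values on the subsection. -/
theorem sect_eF (D : Data h) {U : Subgroup G} (hU : U ≤ P) {a : G} (ha : a ∈ P) (haU : a ∉ U)
    (θ : Cfsg.IrrCharacter CG[U]) {y : CG[U ⊔ Subgroup.zpowers a]} (hy : ¬ p ∣ orderOf y) :
    sect (θ : CG[U] → ℂ) (elC U a) (eF D U a) (incC le_sup_left y) =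
      sval D U θ a * (D.φ (U ⊔ Subgroup.zpowers a) : CG[U ⊔ Subgroup.zpowers a] → ℂ) y := by
  have hR := sup_zpowers_le (P := P) hU ha
  rw [eF, ← incC_elC (le_sup_left : U ≤ U ⊔ Subgroup.zpowers a) (h.mem_CG hR ha)]
  exact sect_eq_secVal (incC_injective _) _
    (fun η hη z hz => D.regular_eq hR (sup_zpowers_ne_bot haU) hη hz) θ
    (elC_mem_center h (Subgroup.mem_sup_right (Subgroup.mem_zpowers a)) hR) hy

theorem one_reg {H : Type u} [Group H] : ¬ p ∣ orderOf (1 : H) := by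
  rw [orderOf_one, Nat.dvd_one]
  exact (Fact.out : p.Prime).ne_one

theorem sect_eF_one (D : Data h) {U : Subgroup G} (hU : U ≤ P) {a : G} (ha : a ∈ P) (haU : a ∉ U)
    (θ : Cfsg.IrrCharacter CG[U]) :
    sect (θ : CG[U] → ℂ) (elC U a) (eF D U a) 1 =
      sval D U θ a *
        (D.φ (U ⊔ Subgroup.zpowers a) : CG[U ⊔ Subgroup.zpowers a] → ℂ) 1 := by
  have h1 := sect_eF D hU ha haU θ (one_reg (p := p) (H := CG[U ⊔ Subgroup.zpowers a]))
  rwa [map_one] at h1

theorem phi_one_ne_zero (D : Data h) (R : Subgroup G) : (D.φ R : CG[R] → ℂ) 1 ≠ 0 :=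
  Char.IsIrr.one_ne_zero (D.φ R).2

theorem conj_phi_one (D : Data h) (R : Subgroup G) :
    conj ((D.φ R : CG[R] → ℂ) 1) = (D.φ R : CG[R] → ℂ) 1 := by
  obtain ⟨d, -, hd⟩ := Char.IsIrr.degree (D.φ R).2
  rw [hd, map_natCast]

theorem eF_one (D : Data h) {U : Subgroup G} (hU : U ≤ P) {a : G} (ha : a ∈ P) (haU : a ∉ U) :
    eF D U a 1 = (Nat.card CG[U ⊔ Subgroup.zpowers a] : ℂ)⁻¹ * ((Nat.card P : ℂ) *
      ((D.φ (U ⊔ Subgroup.zpowers a) : CG[U ⊔ Subgroup.zpowers a] → ℂ) 1) ^ 2) := by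
  classical
  have hR := sup_zpowers_le (P := P) hU ha
  have hR1 := sup_zpowers_ne_bot haU
  have h1 : eF D U a (incC le_sup_left (1 : CG[U ⊔ Subgroup.zpowers a])) =
      Cfsg.blockCoeff (D.f (U ⊔ Subgroup.zpowers a)) 1 := by
    rw [eF, extFun, (incC_injective _).extend_apply]
  rw [map_one] at h1
  rw [h1, blockCoeff_eq_sum]
  congr 1
  rw [← D.card_f hR hR1]
  have e : ∀ η : Cfsg.IrrCharacter CG[U ⊔ Subgroup.zpowers a],
      (if η ∈ D.f (U ⊔ Subgroup.zpowers a) then
        (η : CG[U ⊔ Subgroup.zpowers a] → ℂ) 1 *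
          conj ((η : CG[U ⊔ Subgroup.zpowers a] → ℂ) 1) else 0) =
      if η ∈ D.f (U ⊔ Subgroup.zpowers a) then
        ((D.φ (U ⊔ Subgroup.zpowers a) : CG[U ⊔ Subgroup.zpowers a] → ℂ) 1) ^ 2 else 0 := by
    intro η
    split_ifs with hη
    · rw [D.regular_eq hR hR1 hη one_reg, conj_phi_one, sq]
    · rfl
  rw [Finset.sum_congr rfl fun η _ => e η, Finset.sum_ite, Finset.sum_const_zero, add_zero,
    Finset.sum_const, nsmul_eq_mul]
  congr 2
  rw [Nat.card_eq_fintype_card]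
  exact (Fintype.card_subtype _).symm

theorem eF_fixed (D : Data h) {U : Subgroup G} (hU : U ≤ P) {a : G} (ha : a ∈ P) {g : CG[U]}
    (hg : g * elC U a * g⁻¹ = elC U a) : conjF g (eF D U a) = eF D U a := by
  have hgC : g ∈ Subgroup.centralizer
      ((Subgroup.zpowers (elC U a) : Subgroup CG[U]) : Set CG[U]) :=
    mem_zpowers_centralizer.2 (mul_inv_eq_iff_eq_mul.1 hg).symm
  obtain ⟨b, -, hsbc, -⟩ := exists_pair D hU ha
  funext z
  rw [← hsbc, conjF]
  have h2 := BrauerPairs.isInv_sbc b g⁻¹ (inv_mem hgC) z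
  rwa [inv_inv] at h2

theorem filter_card_eq_natCard {α : Type*} [Fintype α] (q : α → Prop) [DecidablePred q] :
    (Finset.univ.filter q).card = Nat.card {x // q x} := by
  rw [Nat.card_eq_fintype_card, Fintype.card_subtype]

/-- The second orthogonality relation in the block `f_U`. -/
theorem sum_sval_mul_conj (D : Data h) {U : Subgroup G} (hU : U ≤ P) {a b : G}
    (ha : a ∈ P) (haU : a ∉ U) (hb : b ∈ P) (hbU : b ∉ U) :
    (∑ θ ∈ (Set.toFinite (D.f U)).toFinset, sval D U θ a * conj (sval D U θ b)) *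
        ((D.φ (U ⊔ Subgroup.zpowers a) : CG[U ⊔ Subgroup.zpowers a] → ℂ) 1 *
          (D.φ (U ⊔ Subgroup.zpowers b) : CG[U ⊔ Subgroup.zpowers b] → ℂ) 1) =
      (Nat.card {g : CG[U] // g * elC U a * g⁻¹ = elC U b ∧
        conjF g (eF D U a) = eF D U b} : ℂ) * eF D U a 1 := by
  have h1 := sum_sect_one h.hM (exists_orderOf_elC h hU ha) (exists_orderOf_elC h hU hb)
    (eF_mem_Bk D hU ha) (eF_mem_Bk D hU hb)
  rw [filter_card_eq_natCard] at h1
  have hz : ∀ θ : Cfsg.IrrCharacter CG[U], θ ∉ (Set.toFinite (D.f U)).toFinset →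
      sect (θ : CG[U] → ℂ) (elC U a) (eF D U a) 1 *
        conj (sect (θ : CG[U] → ℂ) (elC U b) (eF D U b) 1) = 0 := fun θ hθ => by
    have hmem : (1 : CG[U]) ∈ regC p (elC U a) := by
      simp [regC, (Fact.out : p.Prime).ne_one]
    rw [sect_eF_eq_zero D hU ha (fun h' => hθ ((Set.Finite.mem_toFinset _).2 h')) hmem, zero_mul]
  rw [← Finset.sum_subset (Finset.subset_univ _) fun θ _ hθ => hz θ hθ] at h1
  rw [← h1, Finset.sum_mul]
  refine Finset.sum_congr rfl fun θ _ => ?_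
  rw [sect_eF_one D hU ha haU, sect_eF_one D hU hb hbU, map_mul, conj_phi_one]
  ring

theorem card_fixing (D : Data h) {U : Subgroup G} (hU : U ≤ P) {a : G} (ha : a ∈ P) :
    Nat.card {g : CG[U] // g * elC U a * g⁻¹ = elC U a ∧ conjF g (eF D U a) = eF D U a} =
      Nat.card CG[U ⊔ Subgroup.zpowers a] := by
  refine Nat.card_congr
    { toFun := fun g => ⟨((g : CG[U]) : G), (mem_range_incC h hU ha g.1).1
        (mem_zpowers_centralizer.2 (mul_inv_eq_iff_eq_mul.1 g.2.1).symm)⟩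
      invFun := fun z =>
        have hz : incC le_sup_left z * elC U a * (incC le_sup_left z)⁻¹ = elC U a :=
          mul_inv_eq_iff_eq_mul.2 (mem_zpowers_centralizer.1
            ((mem_range_incC h hU ha (incC le_sup_left z)).2 z.2)).symm
        ⟨incC le_sup_left z, hz, eF_fixed D hU ha hz⟩
      left_inv := fun g => rfl
      right_inv := fun z => rfl }

theorem sum_sval_self (D : Data h) {U : Subgroup G} (hU : U ≤ P) {a : G} (ha : a ∈ P)
    (haU : a ∉ U) :
    ∑ θ ∈ (Set.toFinite (D.f U)).toFinset, sval D U θ a * conj (sval D U θ a) =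
      (Nat.card P : ℂ) := by
  have h1 := sum_sval_mul_conj D hU ha haU ha haU
  rw [card_fixing D hU ha, eF_one D hU ha haU, ← mul_assoc (Nat.card CG[_] : ℂ),
    mul_inv_cancel₀ (Nat.cast_ne_zero.2 Nat.card_pos.ne'), one_mul, ← sq] at h1
  exact mul_right_cancel₀ (pow_ne_zero 2 (phi_one_ne_zero D _)) h1

theorem isCM_scal {H : Type u} [Group H] [Fintype H] (η : Cfsg.IrrCharacter H) (u : H) :
    IsCM (scal η u) := by
  rw [scal, div_eq_mul_inv]
  exact (IsCM.of_char (Char.IsIrr.isCharacter η.2) _).mul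
    (IsCM.of_char (Char.IsIrr.isCharacter η.2) _).inv

theorem isCM_sval (D : Data h) (U : Subgroup G) (θ : Cfsg.IrrCharacter CG[U]) (a : G) :
    IsCM (sval D U θ a) :=
  IsCM.sum _ fun η _ => by
    obtain ⟨m, hm⟩ := rmult_nat (incC (U := U) (R := U ⊔ Subgroup.zpowers a) le_sup_left) θ η
    rw [hm]
    exact (IsCM.natCast m).mul (isCM_scal η _)

/-- A character of a local block has height zero. -/
theorem blockHeight_eq_zero (D : Data h) {U : Subgroup G} (hU : U ≤ P) (hU1 : U ≠ ⊥)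
    {θ : Cfsg.IrrCharacter CG[U]} (hθ : θ ∈ D.f U) :
    Cfsg.blockHeight p (D.f U) (θ : CG[U] → ℂ) = 0 := by
  have h1 := D.regular_eq hU hU1 hθ (one_reg (p := p) (H := CG[U]))
  have h2 := (D.hφ U hU).2
  simp only [Cfsg.blockHeight, Cfsg.charDegree] at h2 ⊢
  rw [h1]
  exact h2

theorem sval_ne_zero (D : Data h) {U : Subgroup G} (hU : U ≤ P) {a : G} (ha : a ∈ P) (haU : a ∉ U)
    {θ : Cfsg.IrrCharacter CG[U]} (hθ : θ ∈ D.f U)
    (h0 : Cfsg.blockHeight p (D.f U) (θ : CG[U] → ℂ) = 0) : sval D U θ a ≠ 0 := by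
  obtain ⟨b, -, hsbc, hpair, -⟩ := exists_pair D hU ha
  obtain ⟨y, hy, hne⟩ := exists_sect_ne_zero_of_height_zero h.hM hθ h0
    (exists_orderOf_elC h hU ha) hpair
  simp only [regC, Finset.mem_filter, Finset.mem_univ, true_and] at hy
  obtain ⟨y', rfl⟩ : ∃ y' : CG[U ⊔ Subgroup.zpowers a], incC le_sup_left y' = y :=
    ⟨⟨(y : G), (mem_range_incC h hU ha y).1 (mem_zpowers_centralizer.2 hy.2)⟩, rfl⟩
  intro hs
  rw [hsbc, sect_eF D hU ha haU θ (fun hd => hy.1 (by
    rwa [orderOf_injective _ (incC_injective _) y'])), hs, zero_mul] at hne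
  exact hne rfl

/-- In a local block the values on the subsections have absolute value one. -/
theorem sval_mul_conj (D : Data h) {U : Subgroup G} (hU : U ≤ P) (hU1 : U ≠ ⊥) {a : G}
    (ha : a ∈ P) (haU : a ∉ U) {θ : Cfsg.IrrCharacter CG[U]} (hθ : θ ∈ D.f U) :
    sval D U θ a * conj (sval D U θ a) = 1 := by
  have hsum := sum_sval_self D hU ha haU
  rw [Finset.sum_subtype (p := fun θ => θ ∈ D.f U) _ fun θ => Set.Finite.mem_toFinset _,
    ← D.card_f hU hU1, Nat.card_eq_fintype_card] at hsum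
  refine eq_one_of_sum_eq_card (t := fun θ : D.f U => sval D U θ a * conj (sval D U θ a))
    (fun θ => (isIntegral_sval D hU _ ha).mul
      ((isIntegral_sval D hU _ ha).map (starRingEnd ℂ).toIntAlgHom))
    (fun σ θ => ?_) hsum ⟨θ, hθ⟩
  have hne : sval D U (θ : Cfsg.IrrCharacter CG[U]) a ≠ 0 :=
    sval_ne_zero D hU ha haU θ.2 (blockHeight_eq_zero D hU hU1 θ.2)
  refine ⟨Complex.normSq (σ (sval D U (θ : Cfsg.IrrCharacter CG[U]) a)),
    Complex.normSq_pos.2 fun e => hne (σ.injective (by rw [e, map_zero])), ?_⟩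
  rw [map_mul, isCM_sval D U _ a σ, Complex.mul_conj]

end Cfsg.Agent.BlockChar.SignCoherence
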