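import Cfsg.Agent.Blocks.Star.Local
import Cfsg.Agent.Blocks.Star.StarChar
import Cfsg.Agent.BlockChar.Cyclic.PowTrace
import Mathlib.GroupTheory.Perm.Fin
import Mathlib.GroupTheory.GroupAction.Quotient
import Mathlib.FieldTheory.Finite.Basic
import Mathlib.RingTheory.Idempotents

/-!
# Traces of idempotents against class functions vanishing on the regular elements
-/

set_option autoImplicit false

namespace Cfsg.Agent.BlockChar.SignCoherence

open Cfsg.Agent Cfsg.Agent.Blocks Cfsg.Agent.Blocks.Star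

universe u

attribute [local instance] Ideal.Quotient.field

variable {G H : Type u} [Group G] [Group H] {p : ℕ} {M : Ideal Cfsg.AlgInt}
  (hM : Cfsg.IsPModular p M) (n : ℕ)

/-- The map of group rings given by a homomorphism. -/
noncomputable def push (ι : H →* G) : GA H hM n →+* GA G hM n :=
  MonoidAlgebra.mapDomainRingHom (RN hM n) ι

theorem push_single (ι : H →* G) (h : H) (c : RN hM n) :
    push hM n ι (MonoidAlgebra.single h c) = MonoidAlgebra.single (ι h) c := by
  simp [push]

theorem push_eq_sum [Fintype H] (ι : H →* G) (x : GA H hM n) :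
    push hM n ι x = ∑ h, MonoidAlgebra.single (ι h) (x.coeff h) := by
  classical
  conv_lhs => rw [show x = ∑ h, MonoidAlgebra.single h (x.coeff h) from alg_ext fun z => by
    simp [Finsupp.single_apply]]
  rw [map_sum]
  simp only [push_single]

theorem coeff_push [Fintype H] {ι : H →* G} (hι : Function.Injective ι) (x : GA H hM n) (h : H) :
    (push hM n ι x).coeff (ι h) = x.coeff h := by
  classical
  rw [push_eq_sum]
  simp [Finsupp.single_apply, hι.eq_iff]

theorem coeff_push_notMem [Fintype H] (ι : H →* G) (x : GA H hM n) {z : G}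
    (hz : z ∉ Set.range ι) : (push hM n ι x).coeff z = 0 := by
  classical
  rw [push_eq_sum]
  simp only [MonoidAlgebra.coeff_sum, Finsupp.finsetSum_apply, MonoidAlgebra.coeff_single,
    Finsupp.single_apply]
  exact Finset.sum_eq_zero fun h _ => if_neg fun e => hz ⟨h, e⟩

theorem tau_push [Fintype G] [Fintype H] {ι : H →* G} (hι : Function.Injective ι) (χ : G → ℂ)
    (x : GA H hM n) : tau hM n χ (push hM n ι x) = tau hM n (fun h => χ (ι h)) x := by
  classical
  rw [tau_apply, tau_apply, ← Finset.sum_subset (Finset.subset_univ (Finset.univ.image ι))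
    fun z _ hz => by rw [coeff_push_notMem hM n ι x fun ⟨h, e⟩ => hz (e ▸
      Finset.mem_image_of_mem _ (Finset.mem_univ h)), zero_mul],
    Finset.sum_image hι.injOn]
  exact Finset.sum_congr rfl fun h _ => by rw [coeff_push hM n hι]

theorem tau_lin [Fintype G] {ι : Type*} (s : Finset ι) {c : ι → ℂ} {f : ι → G → ℂ}
    (hc : ∀ i ∈ s, Cfsg.MemLocalRing M (c i)) (hf : ∀ i ∈ s, ∀ g, Cfsg.MemLocalRing M (f i g))
    (x : GA G hM n) :
    tau hM n (fun g => ∑ i ∈ s, c i * f i g) x = ∑ i ∈ s, toR hM n (c i) * tau hM n (f i) x := by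
  simp only [tau_apply, Finset.mul_sum]
  rw [Finset.sum_comm]
  refine Finset.sum_congr rfl fun g _ => ?_
  rw [toR_sum hM n _ fun i hi => (localRing hM).mul_mem (hc i hi) (hf i hi g), Finset.mul_sum]
  refine Finset.sum_congr rfl fun i hi => ?_
  rw [toR_mul hM n (hc i hi) (hf i hi g)]
  ring

theorem natCast_pow_eq_zero {j : ℕ} (h : n + 1 ≤ j) : ((p ^ j : ℕ) : RN hM n) = 0 := by
  obtain ⟨d, rfl⟩ := Nat.exists_eq_add_of_le h
  rw [Nat.pow_add, Nat.cast_mul, Nat.cast_pow p (n + 1)]
  rw [show (p : RN hM n) = Ideal.Quotient.mk _ (p : localRing hM) from (map_natCast _ p).symm,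
    ← map_pow, Ideal.Quotient.eq_zero_iff_mem.2 (Ideal.mem_span_singleton_self _), zero_mul]

theorem prod_single (c : G → RN hM n) :
    ∀ l : List G, (l.map fun g => (MonoidAlgebra.single g (c g) : GA G hM n)).prod =
      MonoidAlgebra.single l.prod (l.map c).prod := by
  intro l
  induction l with
  | nil => simp [MonoidAlgebra.one_def]
  | cons a l ih => simp [ih, MonoidAlgebra.single_mul_single]

/-- A sum invariant under a group vanishes when it does so orbit by orbit. -/
theorem sum_eq_zero_of_orbits {Q X K : Type*} [Group Q] [MulAction Q X] [Fintype X] [Semiring K]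
    (F : X → K) (hF : ∀ (q : Q) x, F (q • x) = F x)
    (h : ∀ x, (Nat.card (MulAction.orbit Q x) : K) * F x = 0) : ∑ x, F x = 0 := by
  classical
  rw [← Finset.sum_fiberwise Finset.univ (fun x : X => (Quotient.mk (MulAction.orbitRel Q X) x))]
  refine Finset.sum_eq_zero fun o _ => ?_
  induction o using Quotient.inductionOn with
  | _ x₀ =>
    rw [Finset.sum_congr rfl (g := fun _ => F x₀) fun x hx => ?_, Finset.sum_const, nsmul_eq_mul]
    · rw [← h x₀, Nat.card_eq_fintype_card, ← Set.toFinset_card]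
      rw [show Finset.univ.filter (fun x : X => Quotient.mk (MulAction.orbitRel Q X) x =
        Quotient.mk (MulAction.orbitRel Q X) x₀) = (MulAction.orbit Q x₀).toFinset by
          ext x
          simp [Quotient.eq, MulAction.orbitRel_apply]]
    · obtain ⟨q, rfl⟩ := MulAction.orbitRel_apply.1 (Quotient.exact (Finset.mem_filter.1 hx).2)
      exact hF q x₀

open scoped Classical in
/-- The trace of a large `p`-power against a function vanishing on the regular elements. -/
theorem tau_pow_eq_zero [Fintype G] [Fact p.Prime] {ψ : G → ℂ} (hψ : Cfsg.IsClassFunction G ψ)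
    (hreg : ∀ g, ¬ p ∣ orderOf g → ψ g = 0) {N : ℕ} (hN : n + (Nat.card G).factorization p ≤ N)
    (x : GA G hM n) : tau hM n ψ (x ^ p ^ N) = 0 := by
  have hp : p.Prime := Fact.out
  obtain ⟨L, hL⟩ : ∃ L, p ^ N = L + 1 :=
    ⟨p ^ N - 1, (Nat.sub_add_cancel (Nat.one_le_pow N p hp.pos)).symm⟩
  have hx : x = ∑ g, MonoidAlgebra.single g (x.coeff g) := alg_ext fun z => by
    simp [Finsupp.single_apply]
  rw [hL, hx, Cyclic.sum_pow_eq_sum_prod, map_sum]
  let F : (Fin (L + 1) → G) → RN hM n := fun t =>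
    (∏ j, x.coeff (t j)) * toR hM n (ψ (List.ofFn t).prod)
  rw [Finset.sum_congr rfl (g := F) fun t _ => ?_]
  swap
  · rw [show (List.ofFn fun j => (MonoidAlgebra.single (t j) (x.coeff (t j)) : GA G hM n)) =
      (List.ofFn t).map fun g => MonoidAlgebra.single g (x.coeff g) by rw [List.map_ofFn]; rfl,
      prod_single, List.map_ofFn, List.prod_ofFn, tau_apply,
      Finset.sum_eq_single (List.ofFn t).prod (fun b _ hb => by
        simp only [MonoidAlgebra.coeff_single, Finsupp.single_apply, if_neg (Ne.symm hb), zero_mul])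
        (fun h => absurd (Finset.mem_univ _) h)]
    simp only [F, MonoidAlgebra.coeff_single, Finsupp.single_apply, if_pos, Function.comp_apply]
  obtain ⟨ρ, hρ⟩ : ∃ ρ : Equiv.Perm (Fin (L + 1)), ρ = finRotate (L + 1) := ⟨_, rfl⟩
  letI : MulAction (Subgroup.zpowers ρ) (Fin (L + 1) → G) :=
    { smul := fun σ t => fun j => t ((σ : Equiv.Perm (Fin (L + 1)))⁻¹ j)
      one_smul := fun t => funext fun j => rfl
      mul_smul := fun σ σ' t => funext fun j => rfl }
  have hrot : ∀ t : Fin (L + 1) → G, F (fun j => t (ρ j)) = F t := by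
    intro t
    simp only [F]
    rw [Equiv.prod_comp ρ fun j => x.coeff (t j)]
    congr 2
    have h : (List.ofFn fun j => t (ρ j)) = (List.ofFn fun j : Fin L => t j.succ) ++ [t 0] := by
      rw [hρ, List.ofFn_succ', List.concat_eq_append]
      congr 2
      · congr 1
        funext j
        rw [finRotate_succ_apply, Fin.coeSucc_eq_succ]
      · rw [finRotate_succ_apply, Fin.last_add_one]
    rw [h, List.prod_append, List.prod_singleton, List.ofFn_succ, List.prod_cons]
    conv_rhs => rw [← hψ _ (t 0)⁻¹]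
    congr 1
    group
  have hinv : ∀ (σ : Subgroup.zpowers ρ) t, F (σ • t) = F t := by
    intro σ t
    obtain ⟨q, hq⟩ := mem_powers_iff_mem_zpowers.2 ((Subgroup.zpowers ρ).inv_mem σ.2)
    show F (fun j => t ((σ : Equiv.Perm (Fin (L + 1)))⁻¹ j)) = F t
    rw [← hq]
    clear hq σ
    induction q generalizing t with
    | zero => simp
    | succ q ih =>
      have e := hrot fun j => t ((ρ ^ q) j)
      simp only [ih] at e
      rw [← e]
      simp [pow_succ, Equiv.Perm.mul_apply]
  refine sum_eq_zero_of_orbits F hinv fun t => ?_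
  have hQ : Nat.card (Subgroup.zpowers ρ) = p ^ N := by
    rw [Nat.card_zpowers, hρ]
    rcases Nat.eq_zero_or_pos L with rfl | hL0
    · rw [hL, finRotate_one]; exact orderOf_one
    · obtain ⟨L', rfl⟩ := Nat.exists_eq_add_of_le hL0
      rw [(show 1 + L' + 1 = L' + 2 by omega)] at *
      rw [(isCycle_finRotate).orderOf, support_finRotate, Finset.card_univ, Fintype.card_fin, hL]
  obtain ⟨i, hi, hd⟩ := (Nat.dvd_prime_pow hp).1 (hQ ▸ (Subgroup.index_dvd_card
    (MulAction.stabilizer (Subgroup.zpowers ρ) t)))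
  rw [MulAction.index_stabilizer] at hd
  rw [Nat.card_coe_set_eq, hd]
  by_cases hbig : n + 1 ≤ i
  · rw [natCast_pow_eq_zero hM n hbig, zero_mul]
  refine mul_eq_zero_of_right _ (mul_eq_zero_of_right _ ?_)
  -- a periodic word is a power
  have hstab : (⟨ρ, Subgroup.mem_zpowers ρ⟩ : Subgroup.zpowers ρ) ^ (p ^ i) ∈
      MulAction.stabilizer (Subgroup.zpowers ρ) t := by
    rw [← hd, ← MulAction.index_stabilizer]
    exact Subgroup.pow_index_mem _ _
  have hval : ∀ (d : ℕ) (j : Fin (L + 1)), (((ρ ^ d) j : Fin (L + 1)) : ℕ) = (j + d) % (L + 1) := by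
    intro d
    induction d with
    | zero => intro j; simp [Nat.mod_eq_of_lt j.2]
    | succ d ih =>
      intro j
      rw [pow_succ', Equiv.Perm.mul_apply, hρ, finRotate_succ_apply, ← hρ, Fin.val_add, ih,
        Fin.val_one', Nat.mod_add_mod, Nat.add_mod_mod, add_assoc]
  have hper : ∀ j : Fin (L + 1), t ((ρ ^ p ^ i) j) = t j := fun j => by
    have h1 := congrFun (MulAction.mem_stabilizer_iff.1 hstab) ((ρ ^ p ^ i) j)
    change t (((ρ ^ p ^ i : Equiv.Perm (Fin (L + 1))))⁻¹ ((ρ ^ p ^ i) j)) = _ at h1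
    simpa using h1.symm
  have hmul : L + 1 = p ^ (N - i) * p ^ i := by rw [← pow_add, Nat.sub_add_cancel hi, hL]
  have hshift : ∀ (a : ℕ) (b : Fin (p ^ i)) (ha : a * p ^ i + b < L + 1),
      t ⟨a * p ^ i + b, ha⟩ = t ⟨b, lt_of_le_of_lt (Nat.le_add_left _ _) ha⟩ := by
    intro a
    induction a with
    | zero => intro b _; simp
    | succ a ih =>
      intro b ha
      have ha' : a * p ^ i + b < L + 1 := lt_of_le_of_lt (by gcongr; omega) ha
      rw [← ih b ha', ← hper ⟨a * p ^ i + b, ha'⟩]
      congr 1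
      refine Fin.ext ?_
      rw [hval]
      show (a + 1) * p ^ i + (b : ℕ) = (a * p ^ i + b + p ^ i) % (L + 1)
      rw [Nat.mod_eq_of_lt (by rw [Nat.succ_mul] at ha; omega), Nat.succ_mul]
      omega
  obtain ⟨w, hw⟩ : ∃ w : G, (List.ofFn t).prod = w ^ p ^ (N - i) := by
    refine ⟨(List.ofFn fun b : Fin (p ^ i) => t ⟨b, lt_of_lt_of_le b.2
      (hmul ▸ Nat.le_mul_of_pos_left _ (pow_pos hp.pos _))⟩).prod, ?_⟩
    rw [List.ofFn_congr hmul t, List.ofFn_mul, List.prod_flatten, List.map_ofFn]
    conv_rhs => rw [← List.prod_replicate]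
    congr 1
    refine List.eq_replicate_iff.2 ⟨by rw [List.length_ofFn], fun z hz => ?_⟩
    obtain ⟨a, rfl⟩ := List.mem_ofFn.1 hz
    simp only [Function.comp_apply]
    congr 2
    funext b
    exact hshift a b _
  rw [hw, hreg _ ?_, toR_zero]
  intro hdvd
  obtain ⟨e, r, hr, he⟩ := Nat.exists_eq_pow_mul_and_not_dvd (orderOf_pos w).ne' p hp.ne_one
  have hea : e ≤ N - i := by
    have h1 : p ^ e ∣ Nat.card G := (Dvd.intro r he.symm).trans (orderOf_dvd_natCard w)
    have h2 : e ≤ (Nat.card G).factorization p :=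
      (hp.pow_dvd_iff_le_factorization Nat.card_pos.ne').1 h1
    omega
  refine hr (hdvd.trans (orderOf_dvd_of_pow_eq_one ?_))
  obtain ⟨f, hf⟩ := Nat.exists_eq_add_of_le hea
  rw [hf, ← pow_mul, show p ^ (e + f) * r = p ^ e * r * p ^ f by ring, pow_mul, ← he,
    pow_orderOf_eq_one, one_pow]

/-- The trace of a twisted idempotent only depends on the values at the regular elements. -/
theorem tau_idem_eq_zero [Fintype G] [Fact p.Prime] {ψ : G → ℂ} (hψ : Cfsg.IsClassFunction G ψ)
    (hreg : ∀ g, ¬ p ∣ orderOf g → ψ g = 0) {y : G} (hy : ¬ p ∣ orderOf y)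
    {S : GA G hM n} (hS : IsIdempotentElem S)
    (hc : MonoidAlgebra.single y 1 * S = S * MonoidAlgebra.single y 1) :
    tau hM n ψ (MonoidAlgebra.single y 1 * S) = 0 := by
  have hp : p.Prime := Fact.out
  obtain ⟨N, hN, hN'⟩ : ∃ N, n + (Nat.card G).factorization p ≤ N ∧ y ^ p ^ N = y := by
    refine ⟨Nat.totient (orderOf y) * (n + (Nat.card G).factorization p),
      Nat.le_mul_of_pos_left _ (Nat.totient_pos.2 (orderOf_pos y)), ?_⟩
    conv_rhs => rw [← pow_one y]
    rw [pow_eq_pow_iff_modEq, pow_mul]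
    have h := (Nat.ModEq.pow_totient ((hp.coprime_iff_not_dvd).2 hy)).pow
      (n + (Nat.card G).factorization p)
    rwa [one_pow] at h
  have e : (MonoidAlgebra.single y 1 * S : GA G hM n) ^ p ^ N = MonoidAlgebra.single y 1 * S := by
    rw [(show Commute (MonoidAlgebra.single y 1) S from hc).mul_pow, MonoidAlgebra.single_pow,
      one_pow, hN']
    obtain ⟨L, hL⟩ : ∃ L, p ^ N = L + 1 :=
      ⟨p ^ N - 1, (Nat.sub_add_cancel (Nat.one_le_pow N p hp.pos)).symm⟩
    rw [hL, hS.pow_succ_eq]
  rw [← e]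
  exact tau_pow_eq_zero hM n hψ hreg hN _

end Cfsg.Agent.BlockChar.SignCoherence
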