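import Cfsg.Agent.BlockChar.SignCoherence.Push
import Cfsg.Agent.Blocks.Star.Section
import Cfsg.Agent.BlockChar.Galois
import Cfsg.Agent.BrauerPairs.Basic

/-!
# The values of characters on a subsection of rank one
-/

set_option autoImplicit false

namespace Cfsg.Agent.BlockChar.SignCoherence

open Cfsg.Agent Cfsg.Agent.Blocks Cfsg.Agent.Blocks.Star
open scoped ComplexConjugate

universe u

attribute [local instance] Ideal.Quotient.field

variable {K H : Type u} [Group K] [Group H] {p : ℕ} {M : Ideal Cfsg.AlgInt}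

/-- The multiplicity of `η` in the restriction of `θ` along `ι`. -/
noncomputable def rmult [Fintype H] (ι : H →* K) (θ : Cfsg.IrrCharacter K)
    (η : Cfsg.IrrCharacter H) : ℂ :=
  Cfsg.classInner (fun h => (θ : K → ℂ) (ι h)) (η : H → ℂ)

/-- The scalar by which a central element acts. -/
noncomputable def scal (η : Cfsg.IrrCharacter H) (u : H) : ℂ :=
  (η : H → ℂ) u / (η : H → ℂ) 1

/-- The value of `θ` on the subsection. -/
noncomputable def secVal [Fintype H] (ι : H →* K) (b : Set (Cfsg.IrrCharacter H))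
    (θ : Cfsg.IrrCharacter K) (u₀ : H) : ℂ :=
  ∑ η ∈ (Set.toFinite b).toFinset, rmult ι θ η * scal η u₀

theorem rmult_nat [Fintype H] [Finite K] (ι : H →* K) (θ : Cfsg.IrrCharacter K)
    (η : Cfsg.IrrCharacter H) : ∃ m : ℕ, rmult ι θ η = (m : ℂ) := by
  obtain ⟨c, hc, he, -⟩ :=
    Char.IsChar.exists_mult (Char.isCharacter_comp ι (Char.IsIrr.isCharacter θ.2))
  refine ⟨c η, ?_⟩
  classical
  show Cfsg.classInner _ _ = _
  rw [he]
  simp only [Cfsg.classInner, Finset.sum_apply, Pi.smul_apply, smul_eq_mul, Finset.sum_mul,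
    mul_assoc]
  rw [Finset.sum_comm, Finset.mul_sum, Finset.sum_eq_single η]
  · rw [← Finset.mul_sum, mul_left_comm]
    have h := Char.classInner_irrChar η η
    rw [Cfsg.classInner, if_pos rfl] at h
    rw [h, mul_one]
  · intro η' _ hne
    rw [← Finset.mul_sum, mul_left_comm]
    have h := Char.classInner_irrChar η' η
    rw [Cfsg.classInner, if_neg hne] at h
    rw [h, mul_zero]
  · exact fun h => absurd (Finset.mem_univ _) h

theorem res_expand [Fintype H] (ι : H →* K) (θ : Cfsg.IrrCharacter K) (h : H) :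
    (θ : K → ℂ) (ι h) = ∑ η : Cfsg.IrrCharacter H, rmult ι θ η * (η : H → ℂ) h := by
  have hc : Cfsg.IsClassFunction H fun h => (θ : K → ℂ) (ι h) := fun a b => by
    simp only [map_mul, map_inv]
    exact Char.isClassFunction_of_isIrr θ.2 _ _
  have e := congrFun (Char.classFun_expansion hc) h
  rw [e, Finset.sum_apply]
  rfl

theorem scal_mul [Fintype H] (η : Cfsg.IrrCharacter H) {u : H} (hu : u ∈ Subgroup.center H)
    (h : H) : (η : H → ℂ) (u * h) = scal η u * (η : H → ℂ) h := by
  have h1 := irr_mul_central η.2 hu 1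
  rw [mul_one] at h1
  have h0 := Char.IsIrr.one_ne_zero η.2
  rw [irr_mul_central η.2 hu h, scal, h1, mul_div_assoc, div_self h0, mul_one]

theorem scal_one (η : Cfsg.IrrCharacter H) [Finite H] : scal η 1 = 1 :=
  div_self (Char.IsIrr.one_ne_zero η.2)

theorem scal_pow [Fintype H] (η : Cfsg.IrrCharacter H) {u : H} (hu : u ∈ Subgroup.center H)
    (j : ℕ) : scal η (u ^ j) = scal η u ^ j := by
  induction j with
  | zero => rw [pow_zero, pow_zero, scal_one]
  | succ j ih =>
    rw [pow_succ', pow_succ', scal, scal_mul η hu, mul_div_assoc]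
    exact congrArg _ ih

theorem scal_mul_mul [Fintype H] (η : Cfsg.IrrCharacter H) {u v : H} (hu : u ∈ Subgroup.center H) :
    scal η (u * v) = scal η u * scal η v := by
  rw [scal, scal_mul η hu, mul_div_assoc]
  rfl

theorem isIntegral_scal [Fintype H] (η : Cfsg.IrrCharacter H) {u : H}
    (hu : u ∈ Subgroup.center H) : IsIntegral ℤ (scal η u) :=
  isIntegral_of_pow_eq_one (orderOf_pos u) (by rw [← scal_pow η hu, pow_orderOf_eq_one, scal_one])

theorem isIntegral_secVal [Fintype H] [Finite K] (ι : H →* K) (b : Set (Cfsg.IrrCharacter H))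
    (θ : Cfsg.IrrCharacter K) {u : H} (hu : u ∈ Subgroup.center H) :
    IsIntegral ℤ (secVal ι b θ u) :=
  IsIntegral.sum _ fun η _ => by
    obtain ⟨m, hm⟩ := rmult_nat ι θ η
    rw [hm]
    exact (Blocks.isIntegral_natCast m).mul (isIntegral_scal η hu)

/-- Field embeddings move the value along the powers of the element. -/
theorem galois_secVal [Fintype H] [Finite K] (ι : H →* K) (b : Set (Cfsg.IrrCharacter H))
    (θ : Cfsg.IrrCharacter K) {u : H} (hu : u ∈ Subgroup.center H) {q j : ℕ} (hq : u ^ q = 1)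
    (ψ : BlockChar.QBar →ₐ[ℚ] ℂ)
    (hψ : ∀ μ : BlockChar.QBar, μ ^ q = 1 → ψ μ = (μ : ℂ) ^ j)
    (h : secVal ι b θ u ∈ BlockChar.QBar) :
    ψ ⟨secVal ι b θ u, h⟩ = secVal ι b θ (u ^ j) := by
  choose m hm using fun η => rmult_nat ι θ η
  have hs : ∀ η : Cfsg.IrrCharacter H, scal η u ∈ BlockChar.QBar := fun η =>
    BlockChar.mem_qBar_of_isIntegral (isIntegral_scal η hu)
  have e : (⟨secVal ι b θ u, h⟩ : BlockChar.QBar) =
      ∑ η ∈ (Set.toFinite b).toFinset, (m η : BlockChar.QBar) * ⟨_, hs η⟩ :=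
    Subtype.ext (by simp [secVal, hm])
  rw [e, map_sum]
  refine Finset.sum_congr rfl fun η _ => ?_
  rw [map_mul, map_natCast, hψ _ (Subtype.ext (by
    show scal η u ^ q = 1
    rw [← scal_pow η hu, hq, scal_one])), hm, scal_pow η hu]

open scoped Classical in
/-- The block idempotent as a function on the big group. -/
noncomputable def extFun (ι : H →* K) (b : Set (Cfsg.IrrCharacter H)) : K → ℂ :=
  Function.extend ι (Cfsg.blockCoeff b) 0

variable [Fintype K] [Fintype H] {ι : H →* K}

theorem sum_extFun_mul (hι : Function.Injective ι) (b : Set (Cfsg.IrrCharacter H)) (F : K → ℂ) :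
    ∑ g, extFun ι b g * F g = ∑ h, Cfsg.blockCoeff b h * F (ι h) := by
  classical
  rw [← Finset.sum_subset (Finset.subset_univ (Finset.univ.image ι)) fun z _ hz => by
    rw [extFun, Function.extend_apply' _ _ _ fun ⟨h, e⟩ => hz (e ▸
      Finset.mem_image_of_mem _ (Finset.mem_univ h)), Pi.zero_apply, zero_mul],
    Finset.sum_image hι.injOn]
  exact Finset.sum_congr rfl fun h _ => by rw [extFun, hι.extend_apply]

/-- The section is a multiple of the regular values of the block. -/
theorem sect_eq_secVal (hι : Function.Injective ι) (b : Set (Cfsg.IrrCharacter H))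
    {φ₀ : H → ℂ} (hφ : ∀ η ∈ b, ∀ y : H, ¬ p ∣ orderOf y → (η : H → ℂ) y = φ₀ y)
    (θ : Cfsg.IrrCharacter K) {u₀ : H} (hu : u₀ ∈ Subgroup.center H) {y : H}
    (hy : ¬ p ∣ orderOf y) :
    sect (θ : K → ℂ) (ι u₀) (extFun ι b) (ι y) = secVal ι b θ u₀ * φ₀ y := by
  classical
  rw [sect, sum_extFun_mul hι]
  simp only [← map_mul, res_expand, Finset.mul_sum]
  rw [Finset.sum_comm, secVal, Finset.sum_mul,
    ← Finset.sum_subset (Finset.subset_univ (Set.toFinite b).toFinset)]
  · refine Finset.sum_congr rfl fun η hη => ?_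
    have hη' := (Set.Finite.mem_toFinset _).1 hη
    rw [Finset.sum_congr rfl fun a _ => show Cfsg.blockCoeff b a * (rmult ι θ η *
      (η : H → ℂ) (u₀ * y * a)) = rmult ι θ η * scal η u₀ *
        (Cfsg.blockCoeff b a * (η : H → ℂ) (y * a)) by rw [mul_assoc u₀, scal_mul η hu]; ring,
      ← Finset.mul_sum, sum_blockCoeff_mul_irr, if_pos hη', hφ η hη' y hy]
  · intro η _ hη
    rw [Finset.sum_congr rfl fun a _ => show Cfsg.blockCoeff b a * (rmult ι θ η *
      (η : H → ℂ) (u₀ * y * a)) = rmult ι θ η * scal η u₀ *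
        (Cfsg.blockCoeff b a * (η : H → ℂ) (y * a)) by rw [mul_assoc u₀, scal_mul η hu]; ring,
      ← Finset.mul_sum, sum_blockCoeff_mul_irr,
      if_neg (fun h => hη ((Set.Finite.mem_toFinset _).2 h)), mul_zero]

section Trace

variable [Fact p.Prime] (hM : Cfsg.IsPModular p M) (n : ℕ)

omit [Group K] [Fintype K] in
theorem centralizer_zpowers_one :
    Subgroup.centralizer ((Subgroup.zpowers (1 : H) : Subgroup H) : Set H) = ⊤ :=
  Subgroup.eq_top_iff' _ |>.2 fun z => mem_zpowers_centralizer.2 (by rw [one_mul, mul_one])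

omit [Group K] [Fintype K] in
theorem br_one_eq_red (x : GA H hM n) : br hM n (Subgroup.zpowers (1 : H)) x = red hM n x :=
  alg_ext fun z => by
    rw [br, coeff_trunB_of_mem _ (by rw [centralizer_zpowers_one]; trivial)]

omit [Group K] [Fintype K] in
/-- Characters outside the block do not see an idempotent of the block. -/
theorem tau_eq_zero_of_notMem {b : Set (Cfsg.IrrCharacter H)} (hb : Cfsg.IsPBlock M b)
    {y : H} (hy : ¬ p ∣ orderOf y) {S : GA H hM n} (hS : IsIdempotentElem S)
    (hc : MonoidAlgebra.single y 1 * S = S * MonoidAlgebra.single y 1)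
    (hred : red hM n S * redFun hM (Cfsg.blockCoeff b) = red hM n S)
    {η : Cfsg.IrrCharacter H} (hη : η ∉ b) :
    tau hM n (η : H → ℂ) (MonoidAlgebra.single y 1 * S) = 0 := by
  classical
  have hbR : ∀ h, Cfsg.MemLocalRing M (Cfsg.blockCoeff b h) := memLocalRing_blockCoeff hM hb
  have hηR : ∀ g, Cfsg.MemLocalRing M ((η : H → ℂ) g) := fun g =>
    memLocalRing_of_isIntegral hM (Char.IsChar.isIntegral (Char.IsIrr.isCharacter η.2) g)
  obtain ⟨E, hE⟩ : ∃ E, E = toA hM n (Cfsg.blockCoeff b) := ⟨_, rfl⟩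
  have hEcen : ∀ S' : Set H, E ∈ cen hM n S' := fun S' => hE ▸ toA_mem_cen hM n fun g _ z =>
    isClassFunction_blockCoeff b z g
  have hEid : E * E = E := by rw [hE, ← toA_conv hM n hbR hbR, blockCoeff_conv]
  have hEcomm : ∀ g : H, MonoidAlgebra.single g 1 * E = E * MonoidAlgebra.single g 1 := fun g =>
    single_comm_of_mem_cen hM n (hEcen {g}) (Set.mem_singleton g)
  have hES : E * S = S * E := by
    conv_lhs => rw [show S = ∑ h, MonoidAlgebra.single 1 (S.coeff h) * MonoidAlgebra.single h 1 from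
      alg_ext fun z => by simp [Finsupp.single_apply]]
    conv_rhs => rw [show S = ∑ h, MonoidAlgebra.single 1 (S.coeff h) * MonoidAlgebra.single h 1 from
      alg_ext fun z => by simp [Finsupp.single_apply]]
    rw [Finset.mul_sum, Finset.sum_mul]
    refine Finset.sum_congr rfl fun h _ => ?_
    rw [mul_assoc, hEcomm, ← mul_assoc, ← mul_assoc]
    congr 1
    refine alg_ext fun z => ?_
    rw [MonoidAlgebra.coeff_single_mul_apply, MonoidAlgebra.coeff_mul_single_apply]
    simp [mul_comm]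
  have hmem : ∀ T : GA H hM n, MonoidAlgebra.single y 1 * T = T * MonoidAlgebra.single y 1 →
      T ∈ CS hM n (Subgroup.zpowers (1 : H)) y := by
    intro T hT
    rw [CS, cen, Subring.mem_centralizer_iff]
    rintro _ ⟨g, hg, rfl⟩
    rcases hg with hg | hg
    · obtain ⟨i, rfl⟩ := hg
      simp only [one_zpow, ← MonoidAlgebra.one_def, one_mul, mul_one]
    · rw [Set.mem_singleton_iff] at hg; subst hg; exact hT
  have hSE : IsIdempotentElem (S * E) := by
    show S * E * (S * E) = S * E
    rw [← mul_assoc, mul_assoc S E S, hES, ← mul_assoc, hS.eq, mul_assoc, hEid]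
  have hc' : MonoidAlgebra.single y 1 * (S * E) = S * E * MonoidAlgebra.single y 1 := by
    rw [← mul_assoc, hc, mul_assoc, hEcomm, ← mul_assoc]
  have heq : br hM n (Subgroup.zpowers (1 : H)) S = br hM n (Subgroup.zpowers (1 : H)) (S * E) := by
    rw [br_one_eq_red, br_one_eq_red, map_mul, hE, red_toA hM n hbR, hred]
  have h1y : y * 1 = 1 * y := by rw [one_mul, mul_one]
  have h := tau_eq_of_br hM n (Char.isClassFunction_of_isIrr η.2) (u := (1 : H))
    (isPGroup_zpowers_of_orderOf ⟨0, by simp⟩) hy h1y (hmem S hc) hS (hmem (S * E) hc') hSE heq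
  rw [one_mul] at h
  rw [h, ← mul_assoc, hE]
  obtain ⟨f, hf⟩ : ∃ f : H → ℂ, f = fun g => ofR hM n
      ((MonoidAlgebra.single y 1 * S : GA H hM n).coeff g) := ⟨_, rfl⟩
  have hfR : ∀ g, Cfsg.MemLocalRing M (f g) := fun g => hf ▸ memLocalRing_ofR hM n _
  rw [show (MonoidAlgebra.single y 1 * S : GA H hM n) = toA hM n f from alg_ext fun z => by
      rw [coeff_toA, hf, toR_ofR], ← toA_conv hM n hfR hbR, tau_apply,
    ← toR_zero hM n, show (0 : ℂ) = ∑ g, conv f (Cfsg.blockCoeff b) g * (η : H → ℂ) g from ?_,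
    toR_sum hM n (Finset.univ : Finset H) (f := fun g => conv f (Cfsg.blockCoeff b) g * (η : H → ℂ) g)
      fun g _ => (localRing hM).mul_mem ((localRing hM).sum_mem fun a _ =>
      (localRing hM).mul_mem (hfR a) (hbR _)) (hηR g)]
  · refine Finset.sum_congr rfl fun g _ => ?_
    rw [coeff_toA, toR_mul hM n (x := conv f (Cfsg.blockCoeff b) g) ((localRing hM).sum_mem fun a _ =>
      (localRing hM).mul_mem (hfR a) (hbR _)) (hηR g)]
  · simp only [conv, Finset.sum_mul]
    rw [Finset.sum_comm]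
    symm
    refine Finset.sum_eq_zero fun a _ => ?_
    have h0 := sum_blockCoeff_mul_irr b η a
    rw [if_neg hη] at h0
    rw [← mul_zero (f a), ← h0, Finset.mul_sum]
    refine Fintype.sum_equiv (Equiv.mulLeft a⁻¹) _ _ fun g => ?_
    simp [mul_assoc]

/-- The trace against a subsection of rank one. -/
theorem tau_eval (hι : Function.Injective ι) {b : Set (Cfsg.IrrCharacter H)}
    (hb : Cfsg.IsPBlock M b) {φ₀ : Cfsg.IrrCharacter H}
    (hφ : ∀ η ∈ b, ∀ y : H, ¬ p ∣ orderOf y → (η : H → ℂ) y = (φ₀ : H → ℂ) y)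
    (θ : Cfsg.IrrCharacter K) {u₀ : H} (hu : u₀ ∈ Subgroup.center H) {y : H}
    (hy : ¬ p ∣ orderOf y) {S : GA H hM n} (hS : IsIdempotentElem S)
    (hc : MonoidAlgebra.single y 1 * S = S * MonoidAlgebra.single y 1)
    (hred : red hM n S * redFun hM (Cfsg.blockCoeff b) = red hM n S) :
    tau hM n (θ : K → ℂ) (MonoidAlgebra.single (ι u₀ * ι y) 1 * push hM n ι S) =
      toR hM n (secVal ι b θ u₀) * tau hM n (φ₀ : H → ℂ) (MonoidAlgebra.single y 1 * S) := by
  classical
  have hR : ∀ (χ : Cfsg.IrrCharacter H) g, Cfsg.MemLocalRing M ((χ : H → ℂ) g) := fun χ g =>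
    memLocalRing_of_isIntegral hM (Char.IsChar.isIntegral (Char.IsIrr.isCharacter χ.2) g)
  choose m hm using fun η => rmult_nat ι θ η
  have hsR : ∀ η : Cfsg.IrrCharacter H, Cfsg.MemLocalRing M (scal η u₀) := fun η =>
    memLocalRing_of_isIntegral hM (isIntegral_scal η hu)
  have hrR : ∀ η : Cfsg.IrrCharacter H, Cfsg.MemLocalRing M (rmult ι θ η) := fun η => by
    rw [hm]; exact memLocalRing_natCast hM _
  rw [← map_mul, show (MonoidAlgebra.single (ι (u₀ * y)) 1 * push hM n ι S : GA K hM n) =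
      push hM n ι (MonoidAlgebra.single (u₀ * y) 1 * S) by rw [(push hM n ι).map_mul, push_single],
    tau_push hM n hι,
    show (fun h => (θ : K → ℂ) (ι h)) = fun h => ∑ η : Cfsg.IrrCharacter H,
      rmult ι θ η * (η : H → ℂ) h from funext (res_expand ι θ),
    tau_lin hM n _ (fun η _ => hrR η) fun η _ => hR η]
  have hshift : ∀ η : Cfsg.IrrCharacter H,
      tau hM n (η : H → ℂ) (MonoidAlgebra.single (u₀ * y) 1 * S) =
        toR hM n (scal η u₀) * tau hM n (η : H → ℂ) (MonoidAlgebra.single y 1 * S) := by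
    intro η
    simp only [tau_apply, Finset.mul_sum]
    refine Fintype.sum_equiv (Equiv.mulLeft u₀⁻¹) _ _ fun g => ?_
    simp only [Equiv.coe_mulLeft, MonoidAlgebra.coeff_single_mul_apply, one_mul]
    have e : (η : H → ℂ) g = scal η u₀ * (η : H → ℂ) (u₀⁻¹ * g) := by
      rw [← scal_mul η hu, mul_inv_cancel_left]
    rw [e, toR_mul hM n (hsR η) (hR η _), mul_inv_rev, mul_assoc y⁻¹]
    ring
  rw [secVal, toR_sum hM n _ fun η _ => (localRing hM).mul_mem (hrR η) (hsR η), Finset.sum_mul,
    ← Finset.sum_subset (Finset.subset_univ (Set.toFinite b).toFinset)]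
  · refine Finset.sum_congr rfl fun η hη => ?_
    rw [hshift, toR_mul hM n (hrR η) (hsR η), mul_assoc]
    congr 2
    rw [← sub_eq_zero, tau_apply, tau_apply, ← Finset.sum_sub_distrib]
    have hz := tau_idem_eq_zero hM n
      (ψ := fun g => (η : H → ℂ) g - (φ₀ : H → ℂ) g) (fun a c => by
        simp only [Char.isClassFunction_of_isIrr η.2 a c, Char.isClassFunction_of_isIrr φ₀.2 a c])
      (fun g hg => sub_eq_zero.2 (hφ η ((Set.Finite.mem_toFinset _).1 hη) g hg)) hy hS hc
    rw [tau_apply] at hz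
    rw [← hz]
    refine Finset.sum_congr rfl fun g _ => ?_
    rw [toR_sub hM n (hR η g) (hR φ₀ g)]
    ring
  · intro η _ hη
    rw [hshift, tau_eq_zero_of_notMem hM n hb hy hS hc hred
      (fun h => hη ((Set.Finite.mem_toFinset _).2 h)), mul_zero, mul_zero]

end Trace

end Cfsg.Agent.BlockChar.SignCoherence
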