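import Cfsg.Agent.BlockChar.SignCoherence.Norm

/-!
# Coherent signs on the subgroups of the defect group
-/

set_option autoImplicit false

namespace Cfsg.Agent.BlockChar.SignCoherence

open Cfsg.Agent Cfsg.Agent.Blocks Cfsg.Agent.Blocks.Star Cfsg.Agent.BrauerPairs
open scoped ComplexConjugate

universe u

attribute [local instance] Ideal.Quotient.field Fintype.ofFinite

section Units

variable {p : ℕ} {M : Ideal Cfsg.AlgInt}

theorem not_memLocalIdeal_mul (hM : Cfsg.IsPModular p M) {x y : ℂ} (hx : Cfsg.MemLocalRing M x)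
    (hy : Cfsg.MemLocalRing M y) (hx' : ¬ Cfsg.MemLocalIdeal M x)
    (hy' : ¬ Cfsg.MemLocalIdeal M y) : ¬ Cfsg.MemLocalIdeal M (x * y) :=
  fun h => (memLocalIdeal_of_mul hM hx hy h).elim hx' hy'

theorem not_memLocalIdeal_of_sub (hM : Cfsg.IsPModular p M) {x y : ℂ}
    (hx : ¬ Cfsg.MemLocalIdeal M x) (h : Cfsg.MemLocalIdeal M (x - y)) :
    ¬ Cfsg.MemLocalIdeal M y := fun hy => hx (by simpa using memLocalIdeal_add hM h hy)

theorem not_memLocalIdeal_of_mul_conj (hM : Cfsg.IsPModular p M) {v : ℂ} (hv : IsIntegral ℤ v)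
    (h1 : v * conj v = 1) : ¬ Cfsg.MemLocalIdeal M v := fun h =>
  not_memLocalIdeal_one hM (h1 ▸ memLocalIdeal_mul_right hM h
    (memLocalRing_of_isIntegral hM (hv.map (starRingEnd ℂ).toIntAlgHom)))

theorem sign_facts (hM : Cfsg.IsPModular p M) {η : ℤ} (h : η = 1 ∨ η = -1) :
    (η : ℂ) * (η : ℂ) = 1 ∧ conj (η : ℂ) = (η : ℂ) ∧ Cfsg.MemLocalRing M (η : ℂ) ∧
      ¬ Cfsg.MemLocalIdeal M (η : ℂ) := by
  refine ⟨by rcases h with rfl | rfl <;> simp, map_intCast _ η,
    memLocalRing_of_isIntegral hM (isIntegral_algebraMap (R := ℤ) (x := η)), ?_⟩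
  rw [memLocalIdeal_intCast_iff hM]
  intro hd
  refine hM.1.ne_one (Nat.dvd_one.1 ?_)
  rcases h with rfl | rfl
  · exact Int.natCast_dvd_natCast.1 (by simpa using hd)
  · exact Int.natCast_dvd_natCast.1 (by simpa using (dvd_neg.2 hd))

/-- A congruence modulo a positive power of `p` is one modulo the maximal ideal. -/
theorem memLocalIdeal_of_div (hM : Cfsg.IsPModular p M) {k : ℕ} (hk : k ≠ 0) {x : ℂ}
    (h : Cfsg.MemLocalRing M (x / ((p ^ k : ℕ) : ℂ))) : Cfsg.MemLocalIdeal M x := by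
  have hne : ((p ^ k : ℕ) : ℂ) ≠ 0 := Nat.cast_ne_zero.2 (pow_ne_zero _ hM.1.ne_zero)
  have h1 : Cfsg.MemLocalIdeal M ((p ^ k : ℕ) : ℂ) :=
    (memLocalIdeal_natCast_iff hM _).2 (dvd_pow_self p hk)
  have h2 := memLocalIdeal_mul_left hM h h1
  rwa [div_mul_cancel₀ _ hne] at h2

theorem lGen_hom {A : Type u} [CommGroup A] [Fintype A] (hM : Cfsg.IsPModular p M)
    (μ : A →* ℂˣ) : LGen M (fun a => (μ a : ℂ)) := by
  classical
  intro ν
  have e : ∀ a : A, (ν a : ℂ) * (μ a : ℂ) = if a ∈ (⊤ : Subgroup A) then ((ν * μ) a : ℂ) else 0 :=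
    fun a => by simp
  rw [four, Finset.sum_congr rfl fun a _ => e a]
  rcases sum_char (W := (⊤ : Subgroup A)) (ν * μ) with h' | h' <;> rw [h']
  · rw [mul_zero]; exact (localRing hM).zero_mem
  · rw [Subgroup.card_top, inv_mul_cancel₀ (Nat.cast_ne_zero.2 Nat.card_pos.ne')]
    exact (localRing hM).one_mem

theorem lGen_avg_bot {A : Type u} [CommGroup A] [Fintype A] {F : A → ℂ} {t : Subgroup A → ℂ}
    {V : Subgroup A} (hF : LGen M F) (h : ∀ a, t (V ⊔ Subgroup.zpowers a) = F a) :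
    Cfsg.MemLocalRing M (avg t V) := by
  have h1 := hF 1
  have e : avg t V = four F 1 := by
    rw [avg, four]
    congr 1
    exact Finset.sum_congr rfl fun a _ => by rw [h a]; simp
  rwa [e]

end Units

variable {G : Type u} [Group G] [Finite G] {p : ℕ} [Fact p.Prime] {M : Ideal Cfsg.AlgInt}

local notation "CG[" Q "]" => Subgroup.centralizer ((Q : Subgroup G) : Set G)

variable {B : Set (Cfsg.IrrCharacter G)} {P : Subgroup G}
  {c : Set (Cfsg.IrrCharacter (Subgroup.centralizer (P : Set G)))} {h : Setup p M B P c}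

/-- A subgroup of the defect group seen in `G`. -/
def up (U : Subgroup P) : Subgroup G := U.map P.subtype

omit [Finite G] in
theorem up_le (U : Subgroup P) : up U ≤ P := Subgroup.map_subtype_le U

omit [Finite G] in
theorem mem_up (U : Subgroup P) (a : P) : (a : G) ∈ up U ↔ a ∈ U :=
  Subgroup.mem_map_iff_mem P.subtype_injective

omit [Finite G] in
theorem up_sup_zpowers (U : Subgroup P) (a : P) :
    up (U ⊔ Subgroup.zpowers a) = up U ⊔ Subgroup.zpowers (a : G) := by
  rw [up, up, Subgroup.map_sup, MonoidHom.map_zpowers]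
  rfl

omit [Finite G] in
theorem up_top : up (⊤ : Subgroup P) = P := by
  rw [up, ← MonoidHom.range_eq_map, Subgroup.range_subtype]

omit [Finite G] in
theorem up_ne_bot {U : Subgroup P} (hU : U ≠ ⊥) : up U ≠ ⊥ := fun e =>
  hU ((Subgroup.map_eq_bot_iff_of_injective _ P.subtype_injective).1 e)

omit [Finite G] in
theorem up_bot : up (⊥ : Subgroup P) = ⊥ := Subgroup.map_bot _

/-- The signed value of the local block. -/
noncomputable def tf (D : Data h) (ε : Subgroup P → ℤ) (U : Subgroup P) : ℂ :=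
  (ε U : ℂ) * nR D (up U)

/-- The properties of the signs at one subgroup. -/
def Good (D : Data h) (ε : Subgroup P → ℤ) (U : Subgroup P) : Prop :=
  (ε U = 1 ∨ ε U = -1) ∧ (U.index ≤ 2 → ε U = 1) ∧
    ¬ Cfsg.MemLocalIdeal M (nR D (up U)) ∧
    Cfsg.MemLocalRing M (@avg P h.commGroup _ (tf D ε) U) ∧
    ∀ θ ∈ D.f (up U), ∃ μ : P →* ℂˣ, ∀ a : P, a ∉ U →
      sval D (up U) θ a * (ε (U ⊔ Subgroup.zpowers a) : ℂ) = (ε U : ℂ) * (μ a : ℂ)

theorem card_pow (D : Data h) : Nat.card P = p ^ D.k := D.hk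

theorem k_ne_zero (D : Data h) {U : Subgroup P} (hU : U ≠ ⊤) : D.k ≠ 0 := fun hk => hU (by
  have h1 := card_pow D
  rw [hk, pow_zero] at h1
  haveI := (Nat.card_eq_one_iff_unique.1 h1).1
  exact Subsingleton.elim _ _)

theorem index_ne_two_pow (hM : Cfsg.IsPModular p M) {A : Type u} [Group A] [Finite A] {k : ℕ}
    (hA : Nat.card A = p ^ k) (U : Subgroup A) (h : Cfsg.MemLocalRing M ((2 : ℂ) / (U.index : ℂ))) :
    U.index ≤ 2 := by
  obtain ⟨j, -, hj⟩ := (Nat.dvd_prime_pow hM.1).1 (hA ▸ Subgroup.index_dvd_card U)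
  have h1 := pow_dvd_of_memLocalRing hM j 2 (by rw [hj] at h; simpa using h)
  rw [hj]
  exact_mod_cast Int.le_of_dvd (by norm_num) h1

/-- One step down. -/
theorem exists_step (D : Data h) (ε : Subgroup P → ℤ) {U : Subgroup P} (hU1 : U ≠ ⊥) (hU2 : U ≠ ⊤)
    (hε : ∀ V, U < V → Good D ε V) :
    ∃ η : ℤ, (η = 1 ∨ η = -1) ∧ ∀ ε' : Subgroup P → ℤ, ε' U = η →
      (∀ V, U < V → ε' V = ε V) → Good D ε' U := by
  letI := h.commGroup
  letI : DecidableEq (Subgroup P) := Classical.decEq _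
  letI : DecidablePred (· ∈ U) := Classical.decPred _
  have hM := h.hM
  have hp := hM.1
  have hA : Nat.card P = p ^ D.k := card_pow D
  have hk := k_ne_zero D hU2
  obtain ⟨a₀, ha₀⟩ : ∃ a₀ : P, a₀ ∉ U := by
    by_contra! hh; exact hU2 (Subgroup.eq_top_iff' U |>.2 hh)
  have hlt : ∀ a : P, a ∉ U → U < U ⊔ Subgroup.zpowers a := fun a ha =>
    left_lt_sup.2 fun h' => ha (h' (Subgroup.mem_zpowers a))
  have hU := up_le U
  have hUb := up_ne_bot hU1
  have hnot : ∀ a : P, a ∉ U → (a : G) ∉ up U := fun a ha h' => ha ((mem_up U a).1 h')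
  have htloc : ∀ V, U < V → Cfsg.MemLocalRing M (tf D ε V) := fun V hV =>
    (localRing hM).mul_mem (sign_facts hM (hε V hV).1).2.2.1 (memLocalRing_nR D _)
  have htu : ∀ V, U < V → ¬ Cfsg.MemLocalIdeal M (tf D ε V) := fun V hV =>
    not_memLocalIdeal_mul hM (sign_facts hM (hε V hV).1).2.2.1 (memLocalRing_nR D _)
      (sign_facts hM (hε V hV).1).2.2.2 (hε V hV).2.2.1
  obtain ⟨x, -, hx⟩ := exists_completion (tf D ε) hM U htloc fun V hV => (hε V hV).2.2.2.1
  obtain ⟨g', hg'⟩ : ∃ g' : P → ℂ, g' = fun a =>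
      Function.update (tf D ε) U x (U ⊔ Subgroup.zpowers a) := ⟨_, rfl⟩
  have hg'gen : LGen M g' := hg' ▸ hx (Function.update (tf D ε) U x) (by rw [Function.update_self])
    fun V hV => by rw [Function.update_of_ne hV.ne']
  have hg'out : ∀ a : P, a ∉ U → g' a = tf D ε (U ⊔ Subgroup.zpowers a) := fun a ha => by
    rw [hg']
    dsimp only
    rw [Function.update_of_ne (hlt a ha).ne']
  have hg'in : ∀ a : P, a ∈ U → g' a = x := fun a ha => by
    rw [hg']
    simp only [sup_eq_left.2 (Subgroup.zpowers_le.2 ha)]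
    rw [Function.update_self]
  have hg'u : ∀ a : P, ¬ Cfsg.MemLocalIdeal M (g' a) := fun a =>
    hg'gen.not_memLocalIdeal hM hA (a := a₀) (by rw [hg'out a₀ ha₀]; exact htu _ (hlt a₀ ha₀)) a
  -- the functions of a character of `f_U`
  have hsint : ∀ (θ : Cfsg.IrrCharacter CG[up U]) (a : P), IsIntegral ℤ (sval D (up U) θ a) :=
    fun θ a => isIntegral_sval D hU θ a.2
  have hsnorm : ∀ θ ∈ D.f (up U), ∀ a : P, a ∉ U →
      sval D (up U) θ a * conj (sval D (up U) θ a) = 1 := fun θ hθ a ha =>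
    sval_mul_conj D hU hUb a.2 (hnot a ha) hθ
  have hgout : ∀ (θ : Cfsg.IrrCharacter CG[up U]) (a : P), a ∉ U → Cfsg.MemLocalRing M
      ((gfun D (up U) θ a - sval D (up U) θ a * nR D (up (U ⊔ Subgroup.zpowers a))) /
        ((p ^ D.k : ℕ) : ℂ)) := fun θ a ha => by
    rw [up_sup_zpowers]
    exact gfun_congr D hU θ a.2 (hnot a ha)
  have hgin : ∀ (θ : Cfsg.IrrCharacter CG[up U]) (a : P), a ∈ U →
      gfun D (up U) θ a = scal θ (elC (up U) (a : G)) * gfun D (up U) θ 1 := fun θ a ha => by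
    have h1 := gfun_mul D hU θ ((mem_up U a).2 ha) (one_mem P)
    rwa [mul_one] at h1
  have hgen : ∀ θ : Cfsg.IrrCharacter CG[up U], LGen M (fun a : P => gfun D (up U) θ a) :=
    fun θ => lGen_gfun D hU θ
  have hg1u : ∀ θ ∈ D.f (up U), ¬ Cfsg.MemLocalIdeal M (gfun D (up U) θ (1 : G)) := by
    intro θ hθ
    have h1 : ¬ Cfsg.MemLocalIdeal M (gfun D (up U) θ a₀) :=
      fun hI => not_memLocalIdeal_mul hM (memLocalRing_of_isIntegral hM (hsint θ a₀))
        (memLocalRing_nR D _) (not_memLocalIdeal_of_mul_conj hM (hsint θ a₀) (hsnorm θ hθ a₀ ha₀))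
        (hε _ (hlt a₀ ha₀)).2.2.1
        (by simpa using memLocalIdeal_sub hM hI (memLocalIdeal_of_div hM hk (hgout θ a₀ ha₀)))
    simpa using (hgen θ).not_memLocalIdeal hM hA (a := a₀) h1 1
  have hnU : ¬ Cfsg.MemLocalIdeal M (nR D (up U)) :=
    not_memLocalIdeal_of_sub hM (hg1u _ (D.hφ _ hU).1)
      (memLocalIdeal_of_div hM hk (gfun_one_congr D hU hUb (D.hφ _ hU).1))
  -- the sign of a character
  have hsign : ∀ θ ∈ D.f (up U), ∃ η : ℤ, (η = 1 ∨ η = -1) ∧ (U.index = 2 → η = 1) ∧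
      ∃ μ : P →* ℂˣ, ∀ a : P, a ∉ U →
        sval D (up U) θ a * (ε (U ⊔ Subgroup.zpowers a) : ℂ) = (η : ℂ) * (μ a : ℂ) := by
    intro θ hθ
    obtain ⟨F, hF⟩ : ∃ F : P → ℂ, ∀ a, F a =
        if a ∈ U then scal θ (elC (up U) (a : G)) * (gfun D (up U) θ 1 / x)
        else sval D (up U) θ a * (ε (U ⊔ Subgroup.zpowers a) : ℂ) :=
      ⟨fun a => if a ∈ U then scal θ (elC (up U) (a : G)) * (gfun D (up U) θ 1 / x)
        else sval D (up U) θ a * (ε (U ⊔ Subgroup.zpowers a) : ℂ), fun a => rfl⟩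
    have hq : LGen M (fun a : P => gfun D (up U) θ a * (g' a)⁻¹) :=
      (hgen θ).mul hM (hg'gen.inv hM hA (hg'u 1))
    have hFgen : LGen M F := hq.congr hM fun a => by
      rw [hF a, hA]
      split_ifs with ha
      · rw [hgin θ a ha, hg'in a ha, mul_assoc, ← div_eq_mul_inv, sub_self, zero_div]
        exact (localRing hM).zero_mem
      · have hu := (hε _ (hlt a ha))
        obtain ⟨hsq, -, hεR, hεI⟩ := sign_facts hM hu.1
        have hn0 : nR D (up (U ⊔ Subgroup.zpowers a)) ≠ 0 := fun e =>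
          hu.2.2.1 (e ▸ memLocalIdeal_zero hM)
        have he0 : (ε (U ⊔ Subgroup.zpowers a) : ℂ) ≠ 0 := fun e =>
          hεI (e ▸ memLocalIdeal_zero hM)
        rw [hg'out a ha, tf]
        have e : sval D (up U) θ a * (ε (U ⊔ Subgroup.zpowers a) : ℂ) -
            gfun D (up U) θ a * ((ε (U ⊔ Subgroup.zpowers a) : ℂ) *
              nR D (up (U ⊔ Subgroup.zpowers a)))⁻¹ =
            -((gfun D (up U) θ a - sval D (up U) θ a * nR D (up (U ⊔ Subgroup.zpowers a))) *
              ((ε (U ⊔ Subgroup.zpowers a) : ℂ) * nR D (up (U ⊔ Subgroup.zpowers a)))⁻¹) := by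
          field_simp
          linear_combination sval D (up U) θ a * nR D (up (U ⊔ Subgroup.zpowers a)) * hsq
        rw [e, neg_div, mul_div_right_comm]
        exact (localRing hM).neg_mem ((localRing hM).mul_mem (hgout θ a ha)
          (memLocalRing_inv ((localRing hM).mul_mem hεR (memLocalRing_nR D _))
            (not_memLocalIdeal_mul hM hεR (memLocalRing_nR D _) hεI hu.2.2.1)))
    have hw : ∀ a, ∀ u ∈ U, F (a * u) = F a * scal θ (elC (up U) (u : G)) := by
      intro a u hu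
      have hmem : a * u ∈ U ↔ a ∈ U := U.mul_mem_cancel_right hu
      rw [hF, hF]
      by_cases ha : a ∈ U
      · rw [if_pos (hmem.2 ha), if_pos ha, Subgroup.coe_mul,
          elC_mul (h.mem_CG hU a.2) (h.mem_CG hU u.2),
          scal_mul_mul θ (elC_mem_center h ((mem_up U a).2 ha) hU)]
        ring
      · have hR : U ⊔ Subgroup.zpowers (a * u) = U ⊔ Subgroup.zpowers a := by
          rw [mul_comm]; exact sup_zpowers_mul hu a
        rw [if_neg (fun h' => ha (hmem.1 h')), if_neg ha, hR, mul_comm a u, Subgroup.coe_mul,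
          sval_mul D hU θ ((mem_up U u).2 hu) a.2]
        ring
    have hFout : ∀ a : P, a ∉ U →
        F a = sval D (up U) θ a * (ε (U ⊔ Subgroup.zpowers a) : ℂ) := fun a ha => by
      rw [hF a, if_neg ha]
    have hnorm : ∀ a : P, a ∉ U → F a * conj (F a) = 1 := by
      intro a ha
      obtain ⟨hsq, hconj, -, -⟩ := sign_facts hM (hε _ (hlt a ha)).1
      rw [hFout a ha, map_mul, hconj]
      linear_combination (ε (U ⊔ Subgroup.zpowers a) : ℂ) * (ε (U ⊔ Subgroup.zpowers a) : ℂ) *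
        hsnorm θ hθ a ha + hsq
    have hint : ∀ a : P, a ∉ U → IsIntegral ℤ (F a) := fun a ha => by
      rw [hFout a ha]
      exact (hsint θ a).mul (isIntegral_algebraMap (R := ℤ))
    have hgal : ∀ (ψ : QBar →ₐ[ℚ] ℂ) (j : ℕ), j.Coprime (Nat.card P) →
        (∀ μ : QBar, μ ^ Nat.card P = 1 → ψ μ = (μ : ℂ) ^ j) →
        ∀ a : P, a ∉ U → ∀ hmem : F a ∈ QBar, ψ ⟨F a, hmem⟩ = F (a ^ j) := by
      intro ψ j hj hψ a ha hmem
      have hz : Subgroup.zpowers (a ^ j) = Subgroup.zpowers a := by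
        refine le_antisymm (Subgroup.zpowers_le.2 ⟨j, zpow_natCast a j⟩) ?_
        obtain ⟨m, hm⟩ := exists_pow_eq_self_of_coprime
          (Nat.Coprime.coprime_dvd_right (orderOf_dvd_natCard a) hj)
        exact Subgroup.zpowers_le.2 ⟨m, by simpa using hm⟩
      have haj : a ^ j ∉ U := fun h' => ha (by
        have h2 : Subgroup.zpowers (a ^ j) ≤ U := Subgroup.zpowers_le.2 h'
        exact h2 (hz ▸ Subgroup.mem_zpowers a))
      have hRC : (a : G) ∈ up U ⊔ Subgroup.zpowers (a : G) :=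
        Subgroup.mem_sup_right (Subgroup.mem_zpowers _)
      have hRle : up U ⊔ Subgroup.zpowers (a : G) ≤ P := sup_zpowers_le hU a.2
      have hs := mem_qBar_of_isIntegral (hsint θ a)
      have hzG : Subgroup.zpowers ((a ^ j : P) : G) = Subgroup.zpowers (a : G) := by
        have h1 := congrArg (Subgroup.map P.subtype) hz
        rwa [MonoidHom.map_zpowers, MonoidHom.map_zpowers] at h1
      have hval : sval D (up U) θ ((a ^ j : P) : G) =
          secVal (incC (le_sup_left : up U ≤ up U ⊔ Subgroup.zpowers (a : G)))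
            (D.f (up U ⊔ Subgroup.zpowers (a : G))) θ
            (elC (up U ⊔ Subgroup.zpowers (a : G)) (a : G) ^ j) := by
        rw [sval_eq_of_eq D le_sup_left θ _ (by rw [hzG]),
          show elC (up U ⊔ Subgroup.zpowers (a : G)) ((a ^ j : P) : G) =
            elC (up U ⊔ Subgroup.zpowers (a : G)) (a : G) ^ j from Subtype.ext (by
              rw [coe_elC (h.mem_CG hRle (a ^ j).2), Subgroup.coe_pow, Subgroup.coe_pow,
                coe_elC (h.mem_CG hRle a.2)])]
      rw [hFout _ haj, hz, hval, ← galois_secVal _ _ θ (elC_mem_center h hRC hRle)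
        (q := Nat.card P) (Subtype.ext (by
          rw [Subgroup.coe_pow, coe_elC (h.mem_CG hRle a.2), ← Subgroup.coe_pow, pow_card_eq_one',
            Subgroup.coe_one, Subgroup.coe_one])) ψ hψ hs]
      have e : (⟨F a, hmem⟩ : QBar) =
          (⟨sval D (up U) θ a, hs⟩ : QBar) * ((ε (U ⊔ Subgroup.zpowers a) : ℤ) : QBar) :=
        Subtype.ext (by simp [hFout a ha])
      rw [e, map_mul, map_intCast]
      rfl
    obtain ⟨η, hη, hη2, μ, hμ⟩ :=
      exists_sign U F hM hA hU2 hFgen _ hw hnorm hint hgal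
    exact ⟨η, hη, hη2, μ, fun a ha => by rw [← hFout a ha]; exact hμ a ha⟩
  -- the average
  have havg : ∀ θ ∈ D.f (up U), ∀ η : ℤ, (η = 1 ∨ η = -1) → (∃ μ : P →* ℂˣ, ∀ a : P, a ∉ U →
      sval D (up U) θ a * (ε (U ⊔ Subgroup.zpowers a) : ℂ) = (η : ℂ) * (μ a : ℂ)) →
      ∀ ε' : Subgroup P → ℤ, ε' U = η → (∀ V, U < V → ε' V = ε V) →
        Cfsg.MemLocalRing M (avg (tf D ε') U) := by
    rintro θ hθ η hη ⟨μ, hμ⟩ ε' hU' hV'
    obtain ⟨hηsq, -, hηR, hηI⟩ := sign_facts hM hη
    have hgen' : LGen M (fun a : P => (η : ℂ) * (gfun D (up U) θ a * ((μ⁻¹) a : ℂ))) :=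
      (lGen_const hM hηR).mul hM ((hgen θ).mul hM (lGen_hom hM μ⁻¹))
    refine lGen_avg_bot (F := fun a : P => tf D ε' (U ⊔ Subgroup.zpowers a))
      (hgen'.congr hM fun a => ?_) fun a => rfl
    have hμa : ((μ⁻¹) a : ℂ) * (μ a : ℂ) = 1 := by
      rw [MonoidHom.inv_apply, ← Units.val_mul, inv_mul_cancel, Units.val_one]
    have hμR : Cfsg.MemLocalRing M ((μ⁻¹) a : ℂ) :=
      memLocalRing_of_isIntegral hM (isIntegral_hom μ⁻¹ a)
    rw [hA]
    by_cases ha : a ∈ U
    · have hμU : (μ a : ℂ) = scal θ (elC (up U) (a : G)) := by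
        have h1 := hμ (a₀ * a) fun h' => ha₀ ((U.mul_mem_cancel_right ha).1 h')
        have hR : U ⊔ Subgroup.zpowers (a₀ * a) = U ⊔ Subgroup.zpowers a₀ := by
          rw [mul_comm]; exact sup_zpowers_mul ha a₀
        rw [hR, mul_comm a₀ a, Subgroup.coe_mul, sval_mul D hU θ ((mem_up U a).2 ha) a₀.2,
          map_mul, Units.val_mul, mul_assoc, hμ a₀ ha₀] at h1
        have h0 : (η : ℂ) * (μ a₀ : ℂ) ≠ 0 :=
          mul_ne_zero (fun e => hηI (e ▸ memLocalIdeal_zero hM)) (Units.ne_zero _)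
        exact mul_right_cancel₀ h0 (by linear_combination -h1)
      simp only [sup_eq_left.2 (Subgroup.zpowers_le.2 ha), tf, hU']
      rw [hgin θ a ha, ← hμU,
        show (η : ℂ) * nR D (up U) - (η : ℂ) *
            ((μ a : ℂ) * gfun D (up U) θ 1 * ((μ⁻¹) a : ℂ)) =
          -((η : ℂ) * (gfun D (up U) θ 1 - nR D (up U))) by
            linear_combination (-(η : ℂ) * gfun D (up U) θ 1) * hμa,
        neg_div, mul_div_assoc]
      exact (localRing hM).neg_mem
        ((localRing hM).mul_mem hηR (gfun_one_congr D hU hUb hθ))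
    · obtain ⟨hsq, -, -, -⟩ := sign_facts hM (hε _ (hlt a ha)).1
      simp only [tf, hV' _ (hlt a ha)]
      rw [show (ε (U ⊔ Subgroup.zpowers a) : ℂ) * nR D (up (U ⊔ Subgroup.zpowers a)) -
          (η : ℂ) * (gfun D (up U) θ a * ((μ⁻¹) a : ℂ)) =
          -((η : ℂ) * ((μ⁻¹) a : ℂ) * (gfun D (up U) θ a -
            sval D (up U) θ a * nR D (up (U ⊔ Subgroup.zpowers a)))) by
          linear_combination
            (-(ε (U ⊔ Subgroup.zpowers a) : ℂ) * nR D (up (U ⊔ Subgroup.zpowers a)) * (η : ℂ) *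
              ((μ⁻¹) a : ℂ)) * (hμ a ha) +
            (-(ε (U ⊔ Subgroup.zpowers a) : ℂ) * nR D (up (U ⊔ Subgroup.zpowers a)) * (η : ℂ) *
              (η : ℂ)) * hμa +
            (-(ε (U ⊔ Subgroup.zpowers a) : ℂ) * nR D (up (U ⊔ Subgroup.zpowers a))) * hηsq +
            ((η : ℂ) * ((μ⁻¹) a : ℂ) * sval D (up U) θ a *
              nR D (up (U ⊔ Subgroup.zpowers a))) * hsq,
        neg_div, mul_div_assoc]
      exact (localRing hM).neg_mem
        ((localRing hM).mul_mem ((localRing hM).mul_mem hηR hμR) (hgout θ a ha))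
  obtain ⟨η, hη, hη2, hμ⟩ := hsign _ (D.hφ _ hU).1
  refine ⟨η, hη, fun ε' hU' hV' => ⟨hU' ▸ hη, fun h2 => hU' ▸ hη2 ?_, hnU,
    havg _ (D.hφ _ hU).1 η hη hμ ε' hU' hV', fun θ hθ => ?_⟩⟩
  · have h1 := Subgroup.one_lt_index_of_ne_top hU2
    omega
  obtain ⟨η', hη', hη2', μ', hμ'⟩ := hsign θ hθ
  obtain rfl : η' = η := by
    by_cases h2 : U.index = 2
    · rw [hη2 h2, hη2' h2]
    by_contra hne
    have hj : ∀ η₁ : ℤ, ∀ V, U < V → Function.update ε' U η₁ V = ε V := fun η₁ V hV => by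
      rw [Function.update_of_ne hV.ne', hV' V hV]
    have h1 := havg θ hθ η' hη' ⟨μ', hμ'⟩ (Function.update ε' U η') (by rw [Function.update_self])
      (hj η')
    have h2' := havg _ (D.hφ _ hU).1 η hη hμ (Function.update ε' U η) (by rw [Function.update_self])
      (hj η)
    have hd := (localRing hM).sub_mem h1 h2'
    have e : avg (tf D (Function.update ε' U η')) U - avg (tf D (Function.update ε' U η)) U =
        ((η' : ℂ) - (η : ℂ)) * nR D (up U) / (U.index : ℂ) := by
      simp only [avg]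
      rw [← mul_sub, ← Finset.sum_sub_distrib,
        Finset.sum_congr rfl (g := fun a : P => if a ∈ U then ((η' : ℂ) - η) * nR D (up U) else 0)
          fun a _ => ?_]
      · rw [← Finset.sum_filter, Finset.sum_const, nsmul_eq_mul, ← Fintype.card_subtype,
          ← Nat.card_eq_fintype_card, ← U.card_mul_index, Nat.cast_mul]
        have hi : (U.index : ℂ) ≠ 0 := Nat.cast_ne_zero.2 Subgroup.index_ne_zero_of_finite
        have hu : (Nat.card U : ℂ) ≠ 0 := Nat.cast_ne_zero.2 Nat.card_pos.ne'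
        field_simp
      · simp only [tf]
        split_ifs with ha
        · rw [sup_eq_left.2 (Subgroup.zpowers_le.2 ha), Function.update_self, Function.update_self,
            sub_mul]
        · rw [hj η' _ (hlt a ha), hj η _ (hlt a ha), sub_self]
    rw [e] at hd
    have hd' := (localRing hM).mul_mem hd (memLocalRing_inv (memLocalRing_nR D _) hnU)
    have hn0 : nR D (up U) ≠ 0 := fun e => hnU (e ▸ memLocalIdeal_zero hM)
    rw [div_mul_eq_mul_div, mul_assoc, mul_inv_cancel₀ hn0, mul_one] at hd'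
    have h3 : Cfsg.MemLocalRing M ((2 : ℂ) / (U.index : ℂ)) := by
      rcases hη with rfl | rfl <;> rcases hη' with rfl | rfl <;> first | exact absurd rfl hne | skip
      · rw [show (2 : ℂ) / (U.index : ℂ) = -((((-1 : ℤ) : ℂ) - ((1 : ℤ) : ℂ)) / (U.index : ℂ)) by
          push_cast; ring]
        exact (localRing hM).neg_mem hd'
      · rw [show (2 : ℂ) / (U.index : ℂ) = (((1 : ℤ) : ℂ) - ((-1 : ℤ) : ℂ)) / (U.index : ℂ) by
          push_cast; ring]
        exact hd'
    have h4 := index_ne_two_pow hM hA U h3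
    have h5 := Subgroup.one_lt_index_of_ne_top hU2
    omega
  exact ⟨μ', fun a ha => by rw [hV' _ (hlt a ha), hU']; exact hμ' a ha⟩

/-- The signs exist. -/
theorem exists_eps (D : Data h) :
    ∃ ε : Subgroup P → ℤ, (∀ U, U ≠ ⊥ → Good D ε U) ∧ ∀ U, ε U = 1 ∨ ε U = -1 := by
  letI := h.commGroup
  have hM := h.hM
  suffices ∀ n : ℕ, ∃ ε : Subgroup P → ℤ,
      (∀ U, U ≠ ⊥ → U.index ≤ n → Good D ε U) ∧ ∀ U, ε U = 1 ∨ ε U = -1 by
    obtain ⟨ε, h1, h2⟩ := this (Nat.card P)
    exact ⟨ε, fun U hU => h1 U hU (Nat.le_of_dvd Nat.card_pos (Subgroup.index_dvd_card U)), h2⟩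
  intro n
  induction n with
  | zero =>
    exact ⟨fun _ => 1, fun U _ h0 => absurd h0 (by
      have := Subgroup.index_ne_zero_of_finite (H := U); omega), fun _ => Or.inl rfl⟩
  | succ n ih =>
    obtain ⟨ε, hε, hεpm⟩ := ih
    have hex : ∀ U : Subgroup P, ∃ η : ℤ, (η = 1 ∨ η = -1) ∧
        (U ≠ ⊥ → U.index = n + 1 → ∀ ε' : Subgroup P → ℤ, ε' U = η →
          (∀ V, U < V → ε' V = ε V) → Good D ε' U) := by
      intro U
      by_cases hU : U ≠ ⊥ ∧ U.index = n + 1
      · by_cases htop : U = ⊤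
        · subst htop
          refine ⟨1, Or.inl rfl, fun _ _ ε' h1 _ => ?_⟩
          refine ⟨Or.inl h1, fun _ => h1, ?_, ?_, fun θ _ => ⟨1, fun a ha => absurd trivial ha⟩⟩
          · rw [up_top]; exact D.hn
          · refine lGen_avg_bot (F := fun _ : P => tf D ε' ⊤)
              (lGen_const hM ((localRing hM).mul_mem (sign_facts hM (Or.inl h1)).2.2.1
                (memLocalRing_nR D _))) fun a => by rw [top_sup_eq]
        · have hlt : ∀ V, U < V → Good D ε V := fun V hV => hε V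
            (fun e => hU.1 (le_bot_iff.1 (e ▸ hV.le))) (by
              have h1 := Subgroup.relIndex_mul_index hV.le
              have h2 : 1 < U.relIndex V := by
                rcases Nat.lt_or_ge 1 (U.relIndex V) with h2 | h2
                · exact h2
                · exfalso
                  have h3 : U.relIndex V = 1 := by
                    have : U.relIndex V ≠ 0 := Subgroup.index_ne_zero_of_finite
                    omega
                  exact hV.not_ge (Subgroup.relIndex_eq_one.1 h3)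
              have h4 : 0 < V.index := Nat.pos_of_ne_zero Subgroup.index_ne_zero_of_finite
              have h5 : V.index * 2 ≤ U.index := by
                rw [← h1, mul_comm]; exact Nat.mul_le_mul_right _ h2
              have := hU.2
              omega)
          obtain ⟨η, hη, hη'⟩ := exists_step D ε hU.1 htop hlt
          exact ⟨η, hη, fun _ _ => hη'⟩
      · exact ⟨1, Or.inl rfl, fun h1 h2 => absurd ⟨h1, h2⟩ hU⟩
    choose η hη hηgood using hex
    obtain ⟨ε', hε'⟩ : ∃ ε' : Subgroup P → ℤ, ε' = fun U =>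
        if U.index = n + 1 then η U else ε U := ⟨_, rfl⟩
    have hlow : ∀ U : Subgroup P, U.index ≤ n → ε' U = ε U := fun U hU => by
      rw [hε']; exact if_neg (by omega)
    have hup : ∀ {U V : Subgroup P}, U ≤ V → V.index ≤ U.index := fun hUV =>
      Nat.le_of_dvd (Nat.pos_of_ne_zero Subgroup.index_ne_zero_of_finite)
        (Subgroup.index_dvd_of_le hUV)
    refine ⟨ε', fun U hU1 hUn => ?_, fun U => ?_⟩
    · by_cases hn : U.index = n + 1
      · refine hηgood U hU1 hn ε' (by rw [hε']; exact if_pos hn) fun V hV => hlow V ?_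
        have h1 := Subgroup.index_antitone hV.le
        rcases Nat.lt_or_ge V.index (n + 1) with h2 | h2
        · omega
        · exfalso
          have h3 := Subgroup.relIndex_mul_index hV.le
          have h4 : U.relIndex V = 1 := by
            have : V.index = n + 1 := by omega
            rw [this, hn] at h3
            exact Nat.eq_of_mul_eq_mul_right (Nat.succ_pos n) (h3.trans (one_mul _).symm)
          exact hV.not_ge (Subgroup.relIndex_eq_one.1 h4)
      · obtain ⟨g1, g2, g3, g4, g5⟩ := hε U hU1 (by omega)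
        have heq : ∀ V, U ≤ V → ε' V = ε V := fun V hV => hlow V ((hup hV).trans (by omega))
        refine ⟨by rw [heq U le_rfl]; exact g1, fun h2 => by rw [heq U le_rfl]; exact g2 h2, g3, ?_,
          fun θ hθ => ?_⟩
        · rw [avg_congr (tf D ε') (t' := tf D ε) U fun V hV => by rw [tf, tf, heq V hV]]
          exact g4
        · obtain ⟨μ, hμ⟩ := g5 θ hθ
          exact ⟨μ, fun a ha => by rw [heq _ le_sup_left, heq U le_rfl]; exact hμ a ha⟩
    · rw [hε']
      dsimp only
      split_ifs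
      · exact hη U
      · exact hεpm U

end Cfsg.Agent.BlockChar.SignCoherence
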