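import Cfsg.Agent.BlockChar.SignCoherence.Abelian

/-!
# A function of absolute value one with local coefficients is a signed character
-/

set_option autoImplicit false

namespace Cfsg.Agent.BlockChar.SignCoherence

open Cfsg.Agent Cfsg.Agent.Blocks
open scoped ComplexConjugate

universe u

variable {A : Type u} [CommGroup A] [Fintype A] {p : ℕ} {M : Ideal Cfsg.AlgInt}

/-- A rational integer divisible by `p ^ k` in the local ring is divisible by it. -/
theorem pow_dvd_of_memLocalRing (hM : Cfsg.IsPModular p M) :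
    ∀ (k : ℕ) (n : ℤ), Cfsg.MemLocalRing M ((n : ℂ) / (p : ℂ) ^ k) → (p : ℤ) ^ k ∣ n := by
  have hp0 : (p : ℂ) ≠ 0 := Nat.cast_ne_zero.2 hM.1.ne_zero
  intro k
  induction k with
  | zero => simp
  | succ k ih =>
    intro n h
    have h1 : Cfsg.MemLocalIdeal M (n : ℂ) := by
      have e : (n : ℂ) = (p : ℂ) ^ k * ((n : ℂ) / (p : ℂ) ^ (k + 1)) * (p : ℂ) := by
        field_simp; ring
      rw [e]
      exact memLocalIdeal_mul_left hM ((localRing hM).mul_mem
        ((localRing hM).pow_mem (memLocalRing_natCast hM p) k) h) (memLocalIdeal_natCast_self hM)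
    obtain ⟨n', rfl⟩ := (memLocalIdeal_intCast_iff hM n).1 h1
    rw [pow_succ']
    refine mul_dvd_mul_left _ (ih n' ?_)
    rwa [Int.cast_mul, Int.cast_natCast, pow_succ', mul_div_mul_left _ _ hp0] at h

/-- Integers on a finite set with the least possible variance. -/
theorem exists_special {ι : Type*} [DecidableEq ι] (S : Finset ι) (hS : 2 ≤ S.card) (z : ι → ℤ)
    (h : ∑ i ∈ S, ∑ j ∈ S, (z i - z j) ^ 2 = 2 * ((S.card : ℤ) - 1)) :
    ∃ i₀ ∈ S, ∃ η : ℤ, (η = 1 ∨ η = -1) ∧ ∀ j ∈ S, j ≠ i₀ → z i₀ - z j = η := by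
  obtain ⟨i₁, hi₁, hmax⟩ := S.exists_max_image z (Finset.card_pos.1 (by omega))
  obtain ⟨T, hT⟩ : ∃ T, T = S.filter fun i => z i = z i₁ := ⟨_, rfl⟩
  obtain ⟨R, hR⟩ : ∃ R, R = S.filter fun i => ¬ z i = z i₁ := ⟨_, rfl⟩
  have hcard : T.card + R.card = S.card := by
    rw [hT, hR, Finset.card_filter_add_card_filter_not]
  have hsplit : ∀ f : ι → ℤ, ∑ i ∈ S, f i = ∑ i ∈ T, f i + ∑ i ∈ R, f i := fun f => by
    rw [hT, hR, Finset.sum_filter_add_sum_filter_not]
  have hTv : ∀ i ∈ T, z i = z i₁ := fun i hi => by rw [hT] at hi; exact (Finset.mem_filter.1 hi).2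
  have hRv : ∀ i ∈ R, z i < z i₁ := fun i hi => by
    rw [hR] at hi
    exact lt_of_le_of_ne (hmax i (Finset.mem_filter.1 hi).1) (Finset.mem_filter.1 hi).2
  have hexp : 2 * ((S.card : ℤ) - 1) = 2 * (T.card : ℤ) * ∑ j ∈ R, (z i₁ - z j) ^ 2 +
      ∑ i ∈ R, ∑ j ∈ R, (z i - z j) ^ 2 := by
    rw [← h, hsplit]
    simp only [hsplit, Finset.sum_add_distrib]
    have hTT : ∑ i ∈ T, ∑ j ∈ T, (z i - z j) ^ 2 = 0 := Finset.sum_eq_zero fun i hi =>
      Finset.sum_eq_zero fun j hj => by rw [hTv i hi, hTv j hj]; ring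
    have hTR : ∑ i ∈ T, ∑ j ∈ R, (z i - z j) ^ 2 = (T.card : ℤ) * ∑ j ∈ R, (z i₁ - z j) ^ 2 := by
      rw [Finset.sum_congr rfl fun i hi => show ∑ j ∈ R, (z i - z j) ^ 2 =
        ∑ j ∈ R, (z i₁ - z j) ^ 2 by rw [hTv i hi], Finset.sum_const, nsmul_eq_mul]
    have hRT : ∑ i ∈ R, ∑ j ∈ T, (z i - z j) ^ 2 = (T.card : ℤ) * ∑ j ∈ R, (z i₁ - z j) ^ 2 := by
      rw [Finset.sum_comm, ← hTR]
      exact Finset.sum_congr rfl fun i _ => Finset.sum_congr rfl fun j _ => by ring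
    rw [hTT, hTR, hRT]
    ring
  have hT1 : 1 ≤ T.card := Finset.card_pos.2 ⟨i₁, by rw [hT]; exact Finset.mem_filter.2 ⟨hi₁, rfl⟩⟩
  have hR0 : R.card ≠ 0 := fun h0 => by
    rw [Finset.card_eq_zero.1 h0] at hexp
    simp at hexp
    omega
  have hge : ∀ j ∈ R, (1 : ℤ) ≤ (z i₁ - z j) ^ 2 := fun j hj =>
    one_le_pow₀ (by linarith [hRv j hj])
  have h1 : (R.card : ℤ) ≤ ∑ j ∈ R, (z i₁ - z j) ^ 2 := by
    simpa using Finset.sum_le_sum hge
  have h2 : 0 ≤ ∑ i ∈ R, ∑ j ∈ R, (z i - z j) ^ 2 :=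
    Finset.sum_nonneg fun i _ => Finset.sum_nonneg fun j _ => sq_nonneg _
  rw [← hcard] at hexp
  push_cast at hexp
  have hT' : (1 : ℤ) ≤ T.card := by exact_mod_cast hT1
  have hR' : (1 : ℤ) ≤ R.card := by exact_mod_cast Nat.one_le_iff_ne_zero.2 hR0
  have h3 : 0 ≤ ((T.card : ℤ) - 1) * ((R.card : ℤ) - 1) := by nlinarith
  have hdiff : ∑ j ∈ R, (z i₁ - z j) ^ 2 = (R.card : ℤ) := by nlinarith
  have hcase : ((T.card : ℤ) - 1) * ((R.card : ℤ) - 1) = 0 := by nlinarith
  have hone : ∀ j ∈ R, z i₁ - z j = 1 := by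
    intro j hj
    have : ∑ j ∈ R, ((z i₁ - z j) ^ 2 - 1) = 0 := by
      rw [Finset.sum_sub_distrib, hdiff]; simp
    have hz := (Finset.sum_eq_zero_iff_of_nonneg fun j hj => by linarith [hge j hj]).1 this j hj
    nlinarith [hRv j hj]
  have hmem : ∀ j ∈ S, j ∈ T ∨ j ∈ R := fun j hj => by
    rw [hT, hR, Finset.mem_filter, Finset.mem_filter]
    by_cases e : z j = z i₁
    · exact Or.inl ⟨hj, e⟩
    · exact Or.inr ⟨hj, e⟩
  rcases mul_eq_zero.1 hcase with hc | hc
  · obtain ⟨a, ha⟩ := Finset.card_eq_one.1 (show T.card = 1 by omega)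
    have haT : a ∈ T := ha ▸ Finset.mem_singleton_self a
    refine ⟨a, by rw [hT] at haT; exact (Finset.mem_filter.1 haT).1, 1, Or.inl rfl, fun j hj hne => ?_⟩
    rw [hTv a haT]
    refine hone j ((hmem j hj).resolve_left fun hjT => hne ?_)
    rwa [ha, Finset.mem_singleton] at hjT
  · obtain ⟨a, ha⟩ := Finset.card_eq_one.1 (show R.card = 1 by omega)
    have haR : a ∈ R := ha ▸ Finset.mem_singleton_self a
    refine ⟨a, by rw [hR] at haR; exact (Finset.mem_filter.1 haR).1, -1, Or.inr rfl,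
      fun j hj hne => ?_⟩
    have hjT : j ∈ T := (hmem j hj).resolve_right fun hjR => hne (by
      rwa [ha, Finset.mem_singleton] at hjR)
    linarith [hone a haR, hTv j hjT]

open scoped Classical in
/-- The Fourier coefficients of the part outside `U`. -/
noncomputable def fourOut (U : Subgroup A) (D : A → ℂ) (ν : A →* ℂˣ) : ℂ :=
  four (fun a => if a ∈ U then 0 else D a) ν

section Galois

variable (U : Subgroup A) (D : A → ℂ)

/-- The differences of the coefficients are rational integers. -/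
theorem exists_int_fourOut_sub (hM : Cfsg.IsPModular p M) {k : ℕ} (hA : Nat.card A = p ^ k)
    (hint : ∀ a ∉ U, IsIntegral ℤ (D a))
    (hgal : ∀ (ψ : QBar →ₐ[ℚ] ℂ) (j : ℕ), j.Coprime (Nat.card A) →
      (∀ μ : QBar, μ ^ Nat.card A = 1 → ψ μ = (μ : ℂ) ^ j) →
      ∀ a ∉ U, ∀ h : D a ∈ QBar, ψ ⟨D a, h⟩ = D (a ^ j))
    (ν ν' : A →* ℂˣ) (hloc : Cfsg.MemLocalRing M (fourOut U D ν - fourOut U D ν')) :
    ∃ n : ℤ, fourOut U D ν - fourOut U D ν' = n := by
  classical
  obtain ⟨X, hX⟩ : ∃ X : ℂ, X = ∑ a : A, if a ∈ U then 0 else ((ν a : ℂ) - (ν' a : ℂ)) * D a :=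
    ⟨_, rfl⟩
  have hA0 : (Nat.card A : ℂ) ≠ 0 := Nat.cast_ne_zero.2 Nat.card_pos.ne'
  have e : fourOut U D ν - fourOut U D ν' = X / (Nat.card A : ℂ) := by
    rw [hX]
    simp only [fourOut, four]
    rw [← mul_sub, ← Finset.sum_sub_distrib, div_eq_inv_mul]
    congr 1
    refine Finset.sum_congr rfl fun a _ => ?_
    split_ifs <;> ring
  have hXi : IsIntegral ℤ X := by
    rw [hX]
    refine IsIntegral.sum _ fun a _ => ?_
    split_ifs with ha
    · exact isIntegral_zero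
    · exact ((isIntegral_hom ν a).sub (isIntegral_hom ν' a)).mul (hint a ha)
  obtain ⟨n, hn⟩ := exists_int_of_galois_fixed hXi fun ψ => by
    have : NeZero (Nat.card A) := ⟨Nat.card_pos.ne'⟩
    obtain ⟨j, hj, hψ⟩ := exists_powMap ψ (Nat.card A)
    have hmem : ∀ a : A, (if a ∈ U then (0 : ℂ) else ((ν a : ℂ) - (ν' a : ℂ)) * D a) ∈ QBar := by
      intro a
      split_ifs with ha
      · exact zero_mem _
      · exact mul_mem (sub_mem (mem_qBar_of_isIntegral (isIntegral_hom ν a))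
          (mem_qBar_of_isIntegral (isIntegral_hom ν' a))) (mem_qBar_of_isIntegral (hint a ha))
    have hsum : (⟨X, mem_qBar_of_isIntegral hXi⟩ : QBar) = ∑ a : A, ⟨_, hmem a⟩ :=
      Subtype.ext (by simp [hX])
    have hco : (Nat.card A).Coprime j := hj.symm
    have hpow : Function.Bijective fun a : A => a ^ j := (powCoprime hco).bijective
    have hUj : ∀ a : A, a ^ j ∈ U ↔ a ∈ U := by
      intro a
      refine ⟨fun h => ?_, fun h => U.pow_mem h j⟩
      have hb : Function.Bijective fun b : U => b ^ j :=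
        (powCoprime (Nat.Coprime.coprime_dvd_left (Subgroup.card_subgroup_dvd_card U) hco)).bijective
      obtain ⟨b, hb'⟩ := hb.2 ⟨_, h⟩
      have : (b : A) ^ j = a ^ j := congrArg Subtype.val hb'
      exact hpow.1 this ▸ b.2
    rw [hsum, map_sum, hX]
    refine Fintype.sum_bijective _ hpow _ _ fun a => ?_
    by_cases ha : a ∈ U
    · rw [if_pos ((hUj a).2 ha),
        show (⟨_, hmem a⟩ : QBar) = 0 from Subtype.ext (if_pos ha), map_zero]
    · have hD := mem_qBar_of_isIntegral (hint a ha)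
      have h1 := mem_qBar_of_isIntegral (isIntegral_hom ν a)
      have h2 := mem_qBar_of_isIntegral (isIntegral_hom ν' a)
      rw [if_neg (fun h => ha ((hUj a).1 h)),
        show (⟨_, hmem a⟩ : QBar) = (⟨_, h1⟩ - ⟨_, h2⟩) * ⟨_, hD⟩ from Subtype.ext (if_neg ha),
        map_mul, map_sub, hgal ψ j hj hψ a ha hD,
        hψ ⟨_, h1⟩ (Subtype.ext (by
          show (ν a : ℂ) ^ Nat.card A = 1
          exact hom_pow_card ν a)),
        hψ ⟨_, h2⟩ (Subtype.ext (by
          show (ν' a : ℂ) ^ Nat.card A = 1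
          exact hom_pow_card ν' a))]
      simp only [map_pow, Units.val_pow_eq_pow_val]
  rw [e, hn, hA, Nat.cast_pow] at hloc ⊢
  obtain ⟨n', rfl⟩ := pow_dvd_of_memLocalRing hM k n hloc
  refine ⟨n', ?_⟩
  have hp0 : (p : ℂ) ≠ 0 := Nat.cast_ne_zero.2 hM.1.ne_zero
  push_cast
  field_simp

/-- The sign of a function of absolute value one. -/
theorem exists_sign (hM : Cfsg.IsPModular p M) {k : ℕ} (hA : Nat.card A = p ^ k) (hU : U ≠ ⊤)
    (hgen : LGen M D) (w : A → ℂ) (hw : ∀ a, ∀ u ∈ U, D (a * u) = D a * w u)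
    (hnorm : ∀ a ∉ U, D a * conj (D a) = 1) (hint : ∀ a ∉ U, IsIntegral ℤ (D a))
    (hgal : ∀ (ψ : QBar →ₐ[ℚ] ℂ) (j : ℕ), j.Coprime (Nat.card A) →
      (∀ μ : QBar, μ ^ Nat.card A = 1 → ψ μ = (μ : ℂ) ^ j) →
      ∀ a ∉ U, ∀ h : D a ∈ QBar, ψ ⟨D a, h⟩ = D (a ^ j)) :
    ∃ η : ℤ, (η = 1 ∨ η = -1) ∧ (U.index = 2 → η = 1) ∧
      ∃ μ : A →* ℂˣ, ∀ a ∉ U, D a = (η : ℂ) * (μ a : ℂ) := by
  classical
  obtain ⟨a₀, ha₀⟩ : ∃ a₀, a₀ ∉ U := by
    by_contra! hh; exact hU (Subgroup.eq_top_iff' U |>.2 hh)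
  have hD0 : ∀ a ∉ U, D a ≠ 0 := fun a ha h => by
    have := hnorm a ha; rw [h, zero_mul] at this; exact zero_ne_one this
  have hw1 : w 1 = 1 := by
    have := hw a₀ 1 U.one_mem
    rw [mul_one] at this
    exact (mul_left_cancel₀ (hD0 a₀ ha₀) ((mul_one _).trans this)).symm
  have hwmul : ∀ u ∈ U, ∀ v ∈ U, w (u * v) = w u * w v := by
    intro u hu v hv
    refine mul_left_cancel₀ (hD0 a₀ ha₀) ?_
    rw [← hw _ _ (U.mul_mem hu hv), ← mul_assoc a₀, hw _ _ hv, hw _ _ hu, mul_assoc]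
  obtain ⟨y, hy⟩ : ∃ y, y = fourOut U D := ⟨_, rfl⟩
  obtain ⟨S, hSdef⟩ : ∃ S, S = Finset.univ.filter fun ν : A →* ℂˣ =>
      ∀ u ∈ U, (ν u : ℂ) * w u = 1 := ⟨_, rfl⟩
  have hUc : (Nat.card U : ℂ) ≠ 0 := Nat.cast_ne_zero.2 Nat.card_pos.ne'
  have hAc : (Nat.card A : ℂ) ≠ 0 := Nat.cast_ne_zero.2 Nat.card_pos.ne'
  have hUA : (Nat.card U : ℂ) * (U.index : ℂ) = (Nat.card A : ℂ) := by
    rw [← U.card_mul_index, Nat.cast_mul]
  -- the indicator of `S`
  have hchar : ∀ ν : A →* ℂˣ, ∑ u : A, (if u ∈ U then (ν u : ℂ) * w u else 0) =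
      if ν ∈ S then (Nat.card U : ℂ) else 0 := by
    intro ν
    split_ifs with h
    · rw [hSdef, Finset.mem_filter] at h
      rw [← Finset.sum_filter, Finset.sum_congr rfl (g := fun _ => (1 : ℂ)) fun u hu =>
        h.2 u (Finset.mem_filter.1 hu).2, Finset.sum_const, nsmul_eq_mul, mul_one,
        Nat.card_eq_fintype_card, Fintype.card_subtype]
    · rw [hSdef, Finset.mem_filter] at h
      push Not at h
      obtain ⟨v, hv, hv1⟩ := h (Finset.mem_univ _)
      have e : (ν v : ℂ) * w v * ∑ u : A, (if u ∈ U then (ν u : ℂ) * w u else 0) =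
          ∑ u : A, (if u ∈ U then (ν u : ℂ) * w u else 0) := by
        rw [Finset.mul_sum]
        refine Fintype.sum_equiv (Equiv.mulLeft v) _ _ fun u => ?_
        by_cases hu : u ∈ U
        · rw [if_pos hu, Equiv.coe_mulLeft, if_pos (U.mul_mem hv hu), map_mul, Units.val_mul,
            hwmul v hv u hu]
          ring
        · rw [if_neg hu, Equiv.coe_mulLeft, if_neg (fun h => hu ((U.mul_mem_cancel_left hv).1 h)),
            mul_zero]
      have e' : ((ν v : ℂ) * w v - 1) *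
          ∑ u : A, (if u ∈ U then (ν u : ℂ) * w u else 0) = 0 := by linear_combination e
      exact (mul_eq_zero.1 e').resolve_left (sub_ne_zero.2 hv1)
  have hSsum : ∀ a : A, (Nat.card U : ℂ) * ∑ ν ∈ S, (ν a : ℂ) =
      if a⁻¹ ∈ U then w a⁻¹ * (Nat.card A : ℂ) else 0 := by
    intro a
    rw [Finset.mul_sum, show S = Finset.univ.filter (fun ν => ν ∈ S) by simp, Finset.sum_filter,
      Finset.sum_congr rfl (g := fun ν : A →* ℂˣ =>
        ∑ u : A, (if u ∈ U then w u * (ν (u * a) : ℂ) else 0)) fun ν _ => ?_, Finset.sum_comm]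
    · rw [Finset.sum_congr rfl (g := fun u => if u = a⁻¹ then (if a⁻¹ ∈ U then w a⁻¹ * (Nat.card A : ℂ) else 0) else 0)
        fun u _ => ?_, Finset.sum_ite_eq', if_pos (Finset.mem_univ _)]
      by_cases hu : u ∈ U
      · simp only [if_pos hu, ← Finset.mul_sum, sum_dual, mul_eq_one_iff_eq_inv]
        split_ifs with h1 h2
        · rw [h1]
        · exact absurd (h1 ▸ hu) h2
        · rw [mul_zero]
      · simp only [if_neg hu, Finset.sum_const_zero]
        split_ifs with h1 h2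
        · exact absurd (h1 ▸ h2) hu
        · rfl
        · rfl
    · rw [Finset.sum_congr rfl (g := fun u => (if u ∈ U then (ν u : ℂ) * w u else 0) * (ν a : ℂ))
        fun u _ => by split_ifs <;> simp <;> ring, ← Finset.sum_mul, hchar ν]
      split_ifs <;> simp
  have hScard : (S.card : ℂ) = (U.index : ℂ) := by
    have h := hSsum 1
    rw [inv_one, if_pos U.one_mem, hw1, one_mul, ← hUA] at h
    simp only [map_one, Units.val_one, Finset.sum_const, nsmul_eq_mul, mul_one] at h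
    exact mul_left_cancel₀ hUc h
  have hScard' : S.card = U.index := Nat.cast_inj.1 hScard
  have hout : ∀ ν, ν ∉ S → y ν = 0 := by
    intro ν hν
    rw [hSdef, Finset.mem_filter] at hν
    push Not at hν
    obtain ⟨v, hv, hv1⟩ := hν (Finset.mem_univ _)
    have e : (ν v : ℂ) * w v * ∑ a : A, (ν a : ℂ) * (if a ∈ U then 0 else D a) =
        ∑ a : A, (ν a : ℂ) * (if a ∈ U then 0 else D a) := by
      rw [Finset.mul_sum]
      refine Fintype.sum_equiv (Equiv.mulRight v) _ _ fun a => ?_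
      by_cases ha : a ∈ U
      · rw [Equiv.coe_mulRight, if_pos ha, if_pos (U.mul_mem ha hv)]; ring
      · rw [Equiv.coe_mulRight, if_neg ha, if_neg (fun h => ha ((U.mul_mem_cancel_right hv).1 h)),
          map_mul, Units.val_mul, hw a v hv]
        ring
    have e' : ((ν v : ℂ) * w v - 1) * ∑ a : A, (ν a : ℂ) * (if a ∈ U then 0 else D a) = 0 := by
      linear_combination e
    rw [hy, fourOut, four, (mul_eq_zero.1 e').resolve_left (sub_ne_zero.2 hv1), mul_zero]
  have hinv : ∀ a : A, ∑ ν ∈ S, y ν * (ν a⁻¹ : ℂ) = if a ∈ U then 0 else D a := by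
    intro a
    rw [Finset.sum_subset (Finset.subset_univ S) fun ν _ h => by rw [hout ν h, zero_mul], hy]
    exact sum_four (fun a => if a ∈ U then 0 else D a) a
  have hDU : ∀ u ∈ U, D u = D 1 * w u := fun u hu => by
    have := hw 1 u hu; rwa [one_mul] at this
  have hfour : ∀ ν ∈ S, four D ν = y ν + (Nat.card A : ℂ)⁻¹ * (D 1 * (Nat.card U : ℂ)) := by
    intro ν hν
    have h := hchar ν
    rw [if_pos hν] at h
    rw [hy, fourOut, four, four, ← mul_add, ← h, Finset.mul_sum (a := D 1), ← Finset.sum_add_distrib]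
    congr 1
    refine Finset.sum_congr rfl fun a _ => ?_
    split_ifs with ha
    · rw [hDU a ha]; ring
    · ring
  have hloc : ∀ ν ∈ S, ∀ ν' ∈ S, Cfsg.MemLocalRing M (fourOut U D ν - fourOut U D ν') := by
    intro ν hν ν' hν'
    rw [← hy, show y ν - y ν' = four D ν - four D ν' by rw [hfour ν hν, hfour ν' hν']; ring]
    exact (localRing hM).sub_mem (hgen ν) (hgen ν')
  have hS2 : 2 ≤ S.card := by
    rw [hScard']
    exact Subgroup.one_lt_index_of_ne_top hU
  obtain ⟨ν₁, hν₁⟩ : S.Nonempty := Finset.card_pos.1 (by omega)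
  have hz : ∀ ν, ∃ n : ℤ, ν ∈ S → y ν - y ν₁ = n := by
    intro ν
    by_cases hν : ν ∈ S
    · obtain ⟨n, hn⟩ := exists_int_fourOut_sub U D hM hA hint hgal ν ν₁ (hloc ν hν ν₁ hν₁)
      exact ⟨n, fun _ => by rw [hy]; exact hn⟩
    · exact ⟨0, fun h => absurd h hν⟩
  choose z hz using hz
  have hy0 : ∑ ν ∈ S, y ν = 0 := by
    have h := hinv 1
    simpa [U.one_mem] using h
  have hsq : ∑ ν ∈ S, y ν * conj (y ν) = 1 - (U.index : ℂ)⁻¹ := by
    rw [Finset.sum_subset (Finset.subset_univ S) fun ν _ h => by rw [hout ν h, zero_mul], hy]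
    simp only [fourOut]
    rw [sum_four_mul_conj, Finset.sum_congr rfl (g := fun a => (1 : ℂ) - if a ∈ U then 1 else 0)
      fun a _ => by split_ifs with ha <;> simp [hnorm a, ha], Finset.sum_sub_distrib,
      Finset.sum_const, ← Finset.sum_filter, Finset.sum_const, Finset.card_univ,
      ← Fintype.card_subtype, ← Nat.card_eq_fintype_card, ← Nat.card_eq_fintype_card]
    simp only [nsmul_eq_mul, mul_one]
    have hi : (U.index : ℂ) ≠ 0 := Nat.cast_ne_zero.2 Subgroup.index_ne_zero_of_finite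
    rw [← hUA]
    field_simp
  have hvar : ∑ i ∈ S, ∑ j ∈ S, (z i - z j) ^ 2 = 2 * ((S.card : ℤ) - 1) := by
    apply Int.cast_injective (α := ℂ)
    push_cast
    rw [Finset.sum_congr rfl fun i hi => Finset.sum_congr rfl fun j hj => show
      ((z i : ℂ) - (z j : ℂ)) ^ 2 = y i * conj (y i) - y i * conj (y j) - y j * conj (y i) +
        y j * conj (y j) by
      have e : (z i : ℂ) - (z j : ℂ) = y i - y j := by rw [← hz i hi, ← hz j hj]; ring
      have ec : (z i : ℂ) - (z j : ℂ) = conj (y i) - conj (y j) := by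
        rw [← map_sub, ← e, map_sub, map_intCast, map_intCast]
      rw [sq]; nth_rw 1 [e]; rw [ec]; ring]
    have hi : (U.index : ℂ) ≠ 0 := Nat.cast_ne_zero.2 Subgroup.index_ne_zero_of_finite
    have e1 : ∑ i ∈ S, ∑ _j ∈ S, y i * conj (y i) = (U.index : ℂ) * (1 - (U.index : ℂ)⁻¹) := by
      rw [Finset.sum_comm, Finset.sum_const, nsmul_eq_mul, hsq, hScard]
    have e2 : ∑ i ∈ S, ∑ j ∈ S, y i * conj (y j) = 0 := by
      rw [← Finset.sum_mul_sum, hy0, zero_mul]
    have e3 : ∑ i ∈ S, ∑ j ∈ S, y j * conj (y i) = 0 := by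
      rw [Finset.sum_comm]; exact e2
    have e4 : ∑ _i ∈ S, ∑ j ∈ S, y j * conj (y j) = (U.index : ℂ) * (1 - (U.index : ℂ)⁻¹) := by
      rw [Finset.sum_const, nsmul_eq_mul, hsq, hScard]
    simp only [Finset.sum_add_distrib, Finset.sum_sub_distrib] at *
    rw [e1, e2, e3, e4, hScard]
    field_simp
    ring
  obtain ⟨ν₀, hν₀, η, hη, hη'⟩ := exists_special S hS2 z hvar
  have hyv : ∀ ν ∈ S, y ν = y ν₀ - (η : ℂ) + if ν = ν₀ then (η : ℂ) else 0 := by
    intro ν hν
    split_ifs with h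
    · rw [h]; ring
    · have h1 := congrArg (fun n : ℤ => (n : ℂ)) (hη' ν hν h)
      push_cast at h1
      rw [← hz ν₀ hν₀, ← hz ν hν] at h1
      linear_combination -h1
  have hval : ∀ a ∉ U, D a = (η : ℂ) * (ν₀ a⁻¹ : ℂ) := by
    intro a ha
    have h := hinv a
    rw [if_neg ha, Finset.sum_congr rfl (g := fun ν : A →* ℂˣ => (y ν₀ - (η : ℂ)) * (ν a⁻¹ : ℂ) +
      if ν = ν₀ then (η : ℂ) * (ν a⁻¹ : ℂ) else 0) fun ν hν => by
        rw [hyv ν hν]; split_ifs <;> ring, Finset.sum_add_distrib, ← Finset.mul_sum,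
      Finset.sum_ite_eq', if_pos hν₀] at h
    have h0 : ∑ ν ∈ S, (ν a⁻¹ : ℂ) = 0 := by
      have h' := hSsum a⁻¹
      rw [inv_inv, if_neg ha] at h'
      exact (mul_eq_zero.1 h').resolve_left hUc
    rw [← h, h0]; ring
  by_cases h2 : U.index = 2
  · rcases hη with rfl | rfl
    · exact ⟨1, Or.inl rfl, fun _ => rfl, ν₀⁻¹, fun a ha => by simpa [map_inv] using hval a ha⟩
    let χ : A →* ℂˣ :=
      { toFun := fun a => if a ∈ U then 1 else -1
        map_one' := if_pos U.one_mem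
        map_mul' := fun a b => by
          have := Subgroup.mul_mem_iff_of_index_two h2 (a := a) (b := b)
          by_cases ha : a ∈ U <;> by_cases hb : b ∈ U <;> simp [this, ha, hb] }
    refine ⟨1, Or.inl rfl, fun _ => rfl, χ * ν₀⁻¹, fun a ha => ?_⟩
    rw [hval a ha]
    simp [χ, ha, map_inv]
  · exact ⟨η, hη, fun h => absurd h h2, ν₀⁻¹, fun a ha => by simpa [map_inv] using hval a ha⟩

omit [Fintype A] in
/-- The sign is unique above index two. -/
theorem sign_unique (h3 : 3 ≤ U.index) {μ ν : A →* ℂˣ} {c d : ℤ} (hc : c = 1 ∨ c = -1)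
    (hd : d = 1 ∨ d = -1) (h : ∀ a ∉ U, (c : ℂ) * (μ a : ℂ) = (d : ℂ) * (ν a : ℂ)) : c = d := by
  by_contra hne
  have hneg : ∀ a ∉ U, ((μ * ν⁻¹) a : ℂ) = -1 := by
    intro a ha
    have h' := h a ha
    have hν : (ν a : ℂ) ≠ 0 := Units.ne_zero _
    simp only [MonoidHom.mul_apply, MonoidHom.inv_apply, Units.val_mul, Units.val_inv_eq_inv_val]
    rcases hc with rfl | rfl <;> rcases hd with rfl | rfl <;> simp at h' hne ⊢ <;>
      rw [mul_inv_eq_iff_eq_mul₀ hν] <;> first | linear_combination h' | linear_combination -h'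
  obtain ⟨a, ha⟩ : ∃ a, a ∉ U := by
    by_contra! hh
    rw [Subgroup.eq_top_iff' U |>.2 hh, Subgroup.index_top] at h3
    omega
  obtain ⟨b, hb, hab⟩ : ∃ b, b ∉ U ∧ a * b ∉ U := by
    by_contra! hh
    have : U.index = 2 := by
      refine Subgroup.index_eq_two_iff.2 ⟨a, fun b => ?_⟩
      by_cases hb : b ∈ U
      · refine Or.inr ⟨hb, fun h' => ha ?_⟩
        exact (U.mul_mem_cancel_left hb).1 h'
      · refine Or.inl ⟨?_, hb⟩
        rw [mul_comm]; exact hh b hb
    omega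
  have h1 := hneg _ hab
  rw [map_mul, Units.val_mul, hneg a ha, hneg b hb] at h1
  norm_num at h1

end Galois

end Cfsg.Agent.BlockChar.SignCoherence
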