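import Cfsg.Agent.BlockChar.SignCoherence.Local
import Cfsg.Agent.BlockChar.SignCoherence.Variance
import Cfsg.Agent.Blocks.Star.Trace

/-!
# The traces of the local idempotents as functions on the defect group
-/

set_option autoImplicit false

namespace Cfsg.Agent.BlockChar.SignCoherence

open Cfsg.Agent Cfsg.Agent.Blocks Cfsg.Agent.Blocks.Star Cfsg.Agent.BrauerPairs
open scoped ComplexConjugate

universe u

attribute [local instance] Ideal.Quotient.field Fintype.ofFinite

variable {G : Type u} [Group G] [Finite G] {p : ℕ} [Fact p.Prime] {M : Ideal Cfsg.AlgInt}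

local notation "CG[" Q "]" => Subgroup.centralizer ((Q : Subgroup G) : Set G)

variable {B : Set (Cfsg.IrrCharacter G)} {P : Subgroup G}
  {c : Set (Cfsg.IrrCharacter (Subgroup.centralizer (P : Set G)))} {h : Setup p M B P c}

/-- The defect group as a commutative group. -/
@[reducible]
def Setup.commGroup (h : Setup p M B P c) : CommGroup P :=
  { (inferInstance : Group P) with mul_comm := fun a b => Subtype.ext (h.hab a a.2 b b.2) }

/-- The coefficients of `y S_U`. -/
noncomputable def hfun (D : Data h) (U : Subgroup G) (z : CG[U]) : ℂ :=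
  ofR h.hM D.k ((MonoidAlgebra.single (elC U D.y) 1 * D.S U : GA CG[U] h.hM D.k).coeff z)

/-- The trace of `y S_U` against `θ` shifted by `a`. -/
noncomputable def gfun (D : Data h) (U : Subgroup G) (θ : Cfsg.IrrCharacter CG[U]) (a : G) : ℂ :=
  ∑ z : CG[U], hfun D U z * (θ : CG[U] → ℂ) (elC U a * z)

/-- The value of the height zero character of `f_R` on `y S_R`. -/
noncomputable def nR (D : Data h) (R : Subgroup G) : ℂ :=
  ofR h.hM D.k
    (tau h.hM D.k (D.φ R : CG[R] → ℂ) (MonoidAlgebra.single (elC R D.y) 1 * D.S R))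

theorem memLocalRing_nR (D : Data h) (R : Subgroup G) : Cfsg.MemLocalRing M (nR D R) :=
  memLocalRing_ofR h.hM D.k _

theorem memLocalRing_hfun (D : Data h) (U : Subgroup G) (z : CG[U]) :
    Cfsg.MemLocalRing M (hfun D U z) :=
  memLocalRing_ofR h.hM D.k _

theorem memLocalRing_irr (hM : Cfsg.IsPModular p M) {H : Type u} [Group H] [Finite H]
    (θ : Cfsg.IrrCharacter H) (z : H) : Cfsg.MemLocalRing M ((θ : H → ℂ) z) :=
  memLocalRing_of_isIntegral hM (Char.IsChar.isIntegral (Char.IsIrr.isCharacter θ.2) z)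

theorem memLocalRing_gfun (D : Data h) (U : Subgroup G) (θ : Cfsg.IrrCharacter CG[U]) (a : G) :
    Cfsg.MemLocalRing M (gfun D U θ a) :=
  (localRing h.hM).sum_mem fun z _ =>
    (localRing h.hM).mul_mem (memLocalRing_hfun D U z) (memLocalRing_irr h.hM θ _)

theorem single_mem_cen {H : Type u} [Group H] [Finite H] (hM : Cfsg.IsPModular p M) (n : ℕ)
    {S : Set H} {y : H} (hy : ∀ g ∈ S, g * y = y * g) :
    (MonoidAlgebra.single y 1 : GA H hM n) ∈ cen hM n S :=
  Subring.mem_centralizer_iff.2 (Set.forall_mem_image.2 fun g hg => by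
    show (MonoidAlgebra.single g 1 : GA H hM n) * MonoidAlgebra.single y 1 = _
    rw [MonoidAlgebra.single_mul_single, MonoidAlgebra.single_mul_single, hy g hg])

theorem Data.fix_comm (D : Data h) {R : Subgroup G} (hR : R ≤ P) {g : CG[R]}
    (hg : g ∈ fixSet P R D.y) : g * elC R D.y = elC R D.y * g := by
  refine Subtype.ext ?_
  rw [Subgroup.coe_mul, Subgroup.coe_mul, coe_elC (D.y_mem hR)]
  rcases hg with hg | hg
  · exact Subgroup.mem_centralizer_iff.1 D.hyC _ hg
  · rw [hg]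

theorem Data.yS_mem (D : Data h) {R : Subgroup G} (hR : R ≤ P) :
    (MonoidAlgebra.single (elC R D.y) 1 * D.S R : GA CG[R] h.hM D.k) ∈
      cen h.hM D.k (fixSet P R D.y) :=
  Subring.mul_mem _ (single_mem_cen h.hM D.k fun _ hg => D.fix_comm hR hg) (D.hSmem R hR)

theorem Data.elC_y_reg (D : Data h) {R : Subgroup G} (hR : R ≤ P) :
    ¬ p ∣ orderOf (elC R D.y) := by
  rw [← Subgroup.orderOf_coe, coe_elC (D.y_mem hR)]
  exact D.hy

theorem Data.y_comm (D : Data h) {R : Subgroup G} (hR : R ≤ P) :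
    (MonoidAlgebra.single (elC R D.y) 1 * D.S R : GA CG[R] h.hM D.k) =
      D.S R * MonoidAlgebra.single (elC R D.y) 1 :=
  single_comm_of_mem_cen h.hM D.k (D.hSmem R hR) (Or.inr (coe_elC (D.y_mem hR)))

theorem hfun_inv (D : Data h) {U : Subgroup G} (hU : U ≤ P) {g : CG[U]} (hg : (g : G) ∈ P)
    (z : CG[U]) : hfun D U (g * z * g⁻¹) = hfun D U z := by
  have h1 := (mem_cen_iff h.hM D.k).1 (D.yS_mem hU) g⁻¹
    (Or.inl (by rw [Subgroup.coe_inv]; exact inv_mem hg)) z
  rw [inv_inv] at h1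
  rw [hfun, hfun, h1]

/-- The trace has local Fourier coefficients. -/
theorem lGen_gfun (D : Data h) {U : Subgroup G} (hU : U ≤ P) (θ : Cfsg.IrrCharacter CG[U]) :
    @LGen P h.commGroup _ M (fun a : P => gfun D U θ a) := by
  letI := h.commGroup
  intro ν
  obtain ⟨F, hF⟩ : ∃ F : Subgroup CG[U], F = P.subgroupOf CG[U] := ⟨_, rfl⟩
  have hFP : ∀ r : F, ((r : CG[U]) : G) ∈ P := fun r =>
    (hF ▸ r.2 : (r : CG[U]) ∈ P.subgroupOf CG[U])
  let ι : F →* P :=
    { toFun := fun r => ⟨((r : CG[U]) : G), hFP r⟩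
      map_one' := rfl
      map_mul' := fun _ _ => rfl }
  have hι : Function.Bijective ι := by
    refine ⟨fun a b hab => Subtype.ext (Subtype.ext (congrArg (fun x : P => (x : G)) hab)),
      fun a => ⟨⟨⟨a, h.le_CG hU a.2⟩, hF ▸ Subgroup.mem_subgroupOf.2 a.2⟩, rfl⟩⟩
  have h1 := memLocalRing_twisted_sum h.hM (Char.IsIrr.isCharacter θ.2) F (ν.comp ι)
    (memLocalRing_hfun D U) (fun r hr g => hfun_inv D hU
      (Subgroup.mem_subgroupOf.1 (hF ▸ hr : r ∈ P.subgroupOf CG[U])) g)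
  rw [Nat.card_congr (Equiv.ofBijective ι hι)] at h1
  rw [four]
  convert h1 using 2
  refine (Fintype.sum_equiv (Equiv.ofBijective ι hι) _ _ fun r => ?_).symm
  show _ = (ν (ι r) : ℂ) * gfun D U θ ((ι r : P) : G)
  rw [gfun, show elC U ((ι r : P) : G) = (r : CG[U]) from
    Subtype.ext (coe_elC (h.le_CG hU (hFP r)))]
  rfl

theorem gfun_mul (D : Data h) {U : Subgroup G} (hU : U ≤ P) (θ : Cfsg.IrrCharacter CG[U]) {u a : G}
    (hu : u ∈ U) (ha : a ∈ P) :
    gfun D U θ (u * a) = scal θ (elC U u) * gfun D U θ a := by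
  rw [gfun, gfun, Finset.mul_sum]
  refine Finset.sum_congr rfl fun z _ => ?_
  rw [elC_mul (h.mem_CG hU (hU hu)) (h.mem_CG hU ha), mul_assoc,
    scal_mul θ (elC_mem_center h hu hU)]
  ring

theorem toR_gfun (D : Data h) {U : Subgroup G} (hU : U ≤ P) (θ : Cfsg.IrrCharacter CG[U]) (a : G) :
    toR h.hM D.k (gfun D U θ a) = tau h.hM D.k (θ : CG[U] → ℂ)
      (MonoidAlgebra.single (elC U a * elC U D.y) 1 * D.S U) := by
  rw [gfun, toR_sum h.hM D.k _ fun z _ =>
    (localRing h.hM).mul_mem (memLocalRing_hfun D U z) (memLocalRing_irr h.hM θ _), tau_apply]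
  refine Fintype.sum_equiv (Equiv.mulLeft (elC U a)) _ _ fun z => ?_
  rw [toR_mul h.hM D.k (memLocalRing_hfun D U z) (memLocalRing_irr h.hM θ _), hfun, toR_ofR,
    Equiv.coe_mulLeft, MonoidAlgebra.coeff_single_mul_apply,
    MonoidAlgebra.coeff_single_mul_apply, mul_inv_rev, mul_assoc (elC U D.y)⁻¹,
    inv_mul_cancel_left]

/-- At `1` the trace is the value of the local block. -/
theorem gfun_one_congr (D : Data h) {U : Subgroup G} (hU : U ≤ P) (hU1 : U ≠ ⊥)
    {θ : Cfsg.IrrCharacter CG[U]} (hθ : θ ∈ D.f U) :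
    Cfsg.MemLocalRing M ((gfun D U θ 1 - nR D U) / ((p ^ D.k : ℕ) : ℂ)) := by
  refine memLocalRing_div_of_toR_eq h.hM D.k (memLocalRing_gfun D U θ 1) (memLocalRing_nR D U) ?_
  rw [toR_gfun D hU, nR, toR_ofR, show elC U (1 : G) = (1 : CG[U]) from
    Subtype.ext (by rw [coe_elC (one_mem _)]; rfl), one_mul]
  have hz := tau_idem_eq_zero h.hM D.k
    (ψ := fun g => (θ : CG[U] → ℂ) g - (D.φ U : CG[U] → ℂ) g) (fun x z => by
      simp only [Char.isClassFunction_of_isIrr θ.2 x z,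
        Char.isClassFunction_of_isIrr (D.φ U).2 x z])
    (fun g hg => sub_eq_zero.2 (D.regular_eq hU hU1 hθ hg)) (D.elC_y_reg hU) (D.hSid U hU)
    (D.y_comm hU)
  rw [← sub_eq_zero, tau_apply, tau_apply, ← Finset.sum_sub_distrib]
  rw [tau_apply] at hz
  rw [← hz]
  refine Finset.sum_congr rfl fun g _ => ?_
  rw [toR_sub h.hM D.k (memLocalRing_irr h.hM θ g) (memLocalRing_irr h.hM (D.φ U) g)]
  ring

/-- Away from `U` the trace is the value on the subsection times that of the local block. -/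
theorem gfun_congr (D : Data h) {U : Subgroup G} (hU : U ≤ P) (θ : Cfsg.IrrCharacter CG[U]) {a : G}
    (ha : a ∈ P) (haU : a ∉ U) :
    Cfsg.MemLocalRing M
      ((gfun D U θ a - sval D U θ a * nR D (U ⊔ Subgroup.zpowers a)) / ((p ^ D.k : ℕ) : ℂ)) := by
  have hM := h.hM
  obtain ⟨R, hRdef⟩ : ∃ R, U ⊔ Subgroup.zpowers a = R := ⟨_, rfl⟩
  have hR : R ≤ P := hRdef ▸ sup_zpowers_le (P := P) hU ha
  have hR1 : R ≠ ⊥ := hRdef ▸ sup_zpowers_ne_bot haU
  have hUR : U ≤ R := hRdef ▸ le_sup_left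
  refine memLocalRing_div_of_toR_eq hM D.k (memLocalRing_gfun D U θ a)
    ((localRing hM).mul_mem
      (memLocalRing_of_isIntegral hM (isIntegral_sval D hU θ ha)) (memLocalRing_nR D _)) ?_
  rw [toR_gfun D hU, toR_mul hM D.k
    (memLocalRing_of_isIntegral hM (isIntegral_sval D hU θ ha)) (memLocalRing_nR D _), nR, toR_ofR,
    sval_eq_of_eq D hUR θ a hRdef, hRdef]
  have haR : a ∈ R := hRdef ▸ Subgroup.mem_sup_right (Subgroup.mem_zpowers a)
  obtain ⟨ι, hι⟩ : ∃ ι, ι = incC (U := U) (R := R) hUR := ⟨_, rfl⟩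
  rw [← hι]
  have hιinj : Function.Injective ι := hι ▸ incC_injective hUR
  have haC := h.mem_CG hR ha
  have hιa : ι (elC R a) = elC U a := hι ▸ incC_elC hUR haC
  have hιy : ι (elC R D.y) = elC U D.y := hι ▸ incC_elC hUR (D.y_mem hR)
  have heval := tau_eval hM D.k hιinj (D.isBlock hR)
    (fun η hη z hz => D.regular_eq hR hR1 hη hz) θ (elC_mem_center h haR hR) (D.elC_y_reg hR)
    (D.hSid R hR) (D.y_comm hR) (D.hred R hR)
  rw [hιa, hιy] at heval
  rw [← heval]
  have hpow : ∀ z ∈ Subgroup.zpowers a, z ∈ P := fun z hz => Subgroup.zpowers_le.2 ha hz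
  have haK : ∀ z ∈ Subgroup.zpowers (elC U a), ((z : CG[U]) : G) ∈ Subgroup.zpowers a := by
    rintro _ ⟨i, rfl⟩
    exact ⟨i, by simp [coe_elC (h.mem_CG hU ha)]⟩
  refine tau_eq_of_br hM D.k (Char.isClassFunction_of_isIrr θ.2)
    (isPGroup_zpowers_of_orderOf ?_) (D.elC_y_reg hU) ?_ ?_ (D.hSid U hU) ?_ ?_ ?_
  · obtain ⟨i, hi⟩ := IsPGroup.iff_orderOf.1 h.hmax.1.1.1 ⟨a, ha⟩
    exact ⟨i, by rw [← Subgroup.orderOf_coe, coe_elC (h.mem_CG hU ha),
      show a = ((⟨a, ha⟩ : P) : G) from rfl, Subgroup.orderOf_coe, hi]⟩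
  · exact (D.fix_comm hU (Or.inl (by rw [coe_elC (h.mem_CG hU ha)]; exact ha))).symm
  · rw [CS, mem_cen_iff]
    intro g hg z
    refine (mem_cen_iff hM D.k).1 (D.hSmem U hU) g ?_ z
    rcases hg with hg | hg
    · exact Or.inl (hpow _ (haK g hg))
    · rw [Set.mem_singleton_iff] at hg
      exact Or.inr (hg ▸ coe_elC (D.y_mem hU))
  · rw [CS, cen, Subring.mem_centralizer_iff]
    rintro _ ⟨g, hg, rfl⟩
    obtain ⟨g', hg', rfl⟩ : ∃ g' ∈ fixSet P R D.y, ι g' = g := by
      rcases hg with hg | hg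
      · have hgP := hpow _ (haK g hg)
        exact ⟨⟨g, h.mem_CG hR hgP⟩, Or.inl hgP, hι ▸ Subtype.ext rfl⟩
      · rw [Set.mem_singleton_iff] at hg
        exact ⟨elC R D.y, Or.inr (coe_elC (D.y_mem hR)), hιy.trans hg.symm⟩
    show MonoidAlgebra.single (ι g') 1 * push hM D.k ι (D.S R) =
      push hM D.k ι (D.S R) * MonoidAlgebra.single (ι g') 1
    rw [← push_single hM D.k ι g' 1, ← (push hM D.k ι).map_mul, ← (push hM D.k ι).map_mul,
      single_comm_of_mem_cen hM D.k (D.hSmem R hR) hg']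
  · exact (D.hSid R hR).map (push hM D.k ι)
  · refine alg_ext fun z => ?_
    by_cases hz : z ∈ Subgroup.centralizer
      ((Subgroup.zpowers (elC U a) : Subgroup CG[U]) : Set CG[U])
    · rw [br, br, coeff_trunB_of_mem _ hz, coeff_trunB_of_mem _ hz]
      have h1 := congrArg (fun w : CG[U] => (w : G)) (mem_zpowers_centralizer.1 hz)
      simp only [Subgroup.coe_mul, coe_elC (h.mem_CG hU ha)] at h1
      have hzR : (z : G) ∈ CG[R] := by
        rw [← hRdef, Subgroup.mem_centralizer_iff]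
        have hle : U ⊔ Subgroup.zpowers a ≤ Subgroup.centralizer {(z : G)} := by
          refine sup_le (fun u hu => Subgroup.mem_centralizer_singleton_iff.2 ?_)
            (Subgroup.zpowers_le.2 (Subgroup.mem_centralizer_singleton_iff.2 h1))
          exact Subgroup.mem_centralizer_iff.1 z.2 u hu
        exact fun u hu => Subgroup.mem_centralizer_singleton_iff.1 (hle hu)
      rw [show (red hM D.k (D.S U)).coeff z = (red hM D.k (D.S R)).coeff ⟨(z : G), hzR⟩ from
          D.hcompat U R hUR hR (z : G) hzR z.2,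
        coeff_red, coeff_red]
      have e : z = ι ⟨(z : G), hzR⟩ := hι ▸ Subtype.ext rfl
      conv_rhs => rw [e, coeff_push hM D.k hιinj]
    · rw [br, br, coeff_trunB_of_notMem _ hz, coeff_trunB_of_notMem _ hz]

end Cfsg.Agent.BlockChar.SignCoherence
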